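import Mathlib
import Cfsg.Agent.H737.RootInv
import Cfsg.Agent.Lib.Cores
import Cfsg.Prelude.Def_RootSubgroups
import Cfsg.Agent.H466.RealLift
import Cfsg.Agent.S0206
import Cfsg.Prelude.Def_Sz
import Cfsg.Prelude.Def_CaseTheorems
import Cfsg.Agent.AschCrit.PSUTorus
import Cfsg.Agent.TwoFusion.GoldBenPSU
import Cfsg.Agent.S5044
import Cfsg.Agent.S0102
import Cfsg.Agent.OddRank.SzTits
import Cfsg.Agent.StdL2.Cover
import Cfsg.Agent.H803.RankOneFacts
import Cfsg.Agent.FastGrp
import Cfsg.Agent.Prune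
set_option linter.all false
prune_inst 0x7ffdfefbbff8bddeffff7e7ffefddffffdfdffffffdffffbfffdfbffafff6b6fffe5fbafffecdaffbef7e29630fa7b53fdffde7fef6bfd7ffffd5ff45fffff9ffdf7bf8d51d7b83e1ffe4fffebfb7fce7f3fffffffffffffffffffffffffffffffffffffffff
open scoped Cfsg.Agent.FastGrp

-- part: H738/OddTrans
section
/-!
# Odd transpositions: basic calculus

`OT D`: `D` is a set of involutions, closed under conjugation by its members, such that two members
commute or have product of odd order.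

* `OT.line`: if `a, b, ab ∈ D` (commuting), every member commuting with `a` commutes with `b`.
* `OT.commute_of_commute_mul`: a member commuting with `ab` (`a ≠ b` commuting members) commutes
  with `a`.
* `OT.tri`: for an involution `t` and `x ∈ D`: `t` centralizes `x`, or `x ≠ x^t` commute, or there is
  a unique member `c ∈ ⟨x, x^t⟩` with `x^c = x^t`, and it commutes with `t`.
-/

set_option autoImplicit false

namespace Cfsg.Agent.H738

open Cfsg.Agent.H737

variable {G : Type*} [Group G]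

/-- A set of odd transpositions, closed under conjugation by its members. -/
structure OT (D : Set G) : Prop where
  sq : ∀ a ∈ D, a * a = 1
  ne : ∀ a ∈ D, a ≠ 1
  conj : ∀ a ∈ D, ∀ b ∈ D, b * a * b ∈ D
  pair : ∀ a ∈ D, ∀ b ∈ D, Commute a b ∨ Odd (orderOf (a * b))

/-- `a` and `b` commute with the same members of `D`. -/
def Eqv (D : Set G) (a b : G) : Prop := ∀ y ∈ D, Commute y a ↔ Commute y b

theorem Eqv.refl (D : Set G) (a : G) : Eqv D a a := fun _ _ => Iff.rfl

theorem Eqv.symm {D : Set G} {a b : G} (h : Eqv D a b) : Eqv D b a := fun y hy => (h y hy).symm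

theorem Eqv.trans {D : Set G} {a b c : G} (h : Eqv D a b) (h' : Eqv D b c) : Eqv D a c :=
  fun y hy => (h y hy).trans (h' y hy)

/-- For involutions `x`, `t`: `x` commutes with `t x t` iff `t` commutes with `x t x`. -/
theorem commute_conj_iff {x t : G} : Commute x (t * x * t) ↔ Commute t (x * t * x) := by
  constructor
  · intro h
    have h1 : x * (t * x * t) = t * x * t * x := h
    show t * (x * t * x) = x * t * x * t
    calc t * (x * t * x) = t * x * t * x := by group
      _ = x * (t * x * t) := h1.symm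
      _ = x * t * x * t := by group
  · intro h
    have h1 : t * (x * t * x) = x * t * x * t := h
    show x * (t * x * t) = t * x * t * x
    calc x * (t * x * t) = x * t * x * t := by group
      _ = t * (x * t * x) := h1.symm
      _ = t * x * t * x := by group

theorem commute_conj_of_sq {t a b : G} (ht : t * t = 1) (h : Commute a b) :
    Commute (t * a * t) (t * b * t) := by
  show t * a * t * (t * b * t) = t * b * t * (t * a * t)
  calc t * a * t * (t * b * t) = t * a * (t * t) * b * t := by group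
    _ = t * (a * b) * t := by rw [ht]; group
    _ = t * (b * a) * t := by rw [h.eq]
    _ = t * b * (t * t) * a * t := by rw [ht]; group
    _ = _ := by group

theorem conj_conj_of_sq {t a : G} (ht : t * t = 1) : t * (t * a * t) * t = a := by
  calc t * (t * a * t) * t = (t * t) * a * (t * t) := by group
    _ = a := by rw [ht]; group

/-- An element of odd order which is an involution times a commuting element. -/
theorem eq_one_of_odd_mul {t z : G} (ht : t * t = 1) (hc : Commute t z)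
    (hz : Odd (orderOf z)) (htz : Odd (orderOf (t * z))) : t = 1 := by
  obtain ⟨k, hk⟩ := hz
  obtain ⟨l, hl⟩ := htz
  have h1 : (t * z) ^ ((2 * k + 1) * (2 * l + 1)) = 1 := by
    rw [mul_comm, pow_mul, ← hl, pow_orderOf_eq_one, one_pow]
  rw [hc.mul_pow] at h1
  have h2 : z ^ ((2 * k + 1) * (2 * l + 1)) = 1 := by
    rw [pow_mul, ← hk, pow_orderOf_eq_one, one_pow]
  rw [h2, mul_one] at h1
  have h3 : (2 * k + 1) * (2 * l + 1) = 2 * (2 * k * l + k + l) + 1 := by ring
  rw [h3, pow_succ, pow_mul, pow_two, ht, one_pow, one_mul] at h1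
  exact h1

namespace OT

variable {D : Set G}

theorem inv (hD : OT D) {a : G} (ha : a ∈ D) : a⁻¹ = a := inv_of_sq (hD.sq a ha)

theorem odd_of (hD : OT D) {a b : G} (ha : a ∈ D) (hb : b ∈ D) (h : ¬ Commute a b) :
    Odd (orderOf (a * b)) := (hD.pair a ha b hb).resolve_left h

/-- If the product of two members squares to one, they commute. -/
theorem commute_of_sq (hD : OT D) {a b : G} (ha : a ∈ D) (hb : b ∈ D) (h : (a * b) * (a * b) = 1) :
    Commute a b := by
  have h1 := inv_of_sq h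
  rw [mul_inv_rev, hD.inv ha, hD.inv hb] at h1
  exact h1.symm

/-- The product of two members is not the product of an element of odd order `> 1` and a
commuting involution. -/
theorem key (hD : OT D) {a b z t : G} (ha : a ∈ D) (hb : b ∈ D)
    (hz : Odd (orderOf z)) (hz1 : z ≠ 1) (ht : t * t = 1) (ht1 : t ≠ 1) (hc : Commute t z)
    (he : a * b = t * z) : False := by
  rcases hD.pair a ha b hb with h1 | h1
  · have h2 : (a * b) * (a * b) = 1 := by
      calc a * b * (a * b) = a * (b * a) * b := by group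
        _ = a * (a * b) * b := by rw [h1.eq]
        _ = (a * a) * (b * b) := by group
        _ = 1 := by rw [hD.sq a ha, hD.sq b hb, one_mul]
    rw [he] at h2
    have h3 : z * z = 1 := by
      calc z * z = (t * t) * (z * z) := by rw [ht, one_mul]
        _ = t * (t * z) * z := by group
        _ = t * (z * t) * z := by rw [hc.eq]
        _ = t * z * (t * z) := by group
        _ = 1 := h2
    exact hz1 (eq_one_of_odd_of_sq hz h3)
  · rw [he] at h1
    exact ht1 (eq_one_of_odd_mul ht hc hz h1)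

/-- **L1.** On a line `{a, b, ab} ⊆ D`, members commuting with `a` commute with `b`. -/
theorem line (hD : OT D) {a b y : G} (ha : a ∈ D) (hb : b ∈ D) (hab : Commute a b)
    (habD : a * b ∈ D) (hy : y ∈ D) (hya : Commute y a) : Commute y b := by
  by_contra hcon
  have h1 := hD.odd_of hy hb hcon
  refine hD.key hy habD h1 ?_ (hD.sq a ha) (hD.ne a ha) ?_ ?_
  · intro h2
    apply hcon
    have : y = b := by
      calc y = (y * b) * b := by rw [mul_assoc, hD.sq b hb, mul_one]
        _ = b := by rw [h2, one_mul]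
    rw [this]
  · exact (hya.symm.mul_right hab)
  · have h3 := hya.eq
    calc y * (a * b) = (y * a) * b := by group
      _ = (a * y) * b := by rw [h3]
      _ = a * (y * b) := by group

theorem line_eqv (hD : OT D) {a b : G} (ha : a ∈ D) (hb : b ∈ D) (hab : Commute a b)
    (habD : a * b ∈ D) : Eqv D a b := by
  intro y hy
  refine ⟨hD.line ha hb hab habD hy, hD.line hb ha hab.symm ?_ hy⟩
  rwa [← hab.eq]

theorem line_eqv_mul (hD : OT D) {a b : G} (ha : a ∈ D) (hb : b ∈ D) (hab : Commute a b)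
    (habD : a * b ∈ D) : Eqv D a (a * b) := by
  refine hD.line_eqv ha habD ((Commute.refl a).mul_right hab) ?_
  have : a * (a * b) = b := by rw [← mul_assoc, hD.sq a ha, one_mul]
  rwa [this]

/-- **L2.** A member commuting with `ab`, `a ≠ b` commuting members, commutes with `a`. -/
theorem commute_of_commute_mul (hD : OT D) {a b y : G} (ha : a ∈ D) (hb : b ∈ D)
    (hab : Commute a b) (hne : a ≠ b) (hy : y ∈ D) (h : Commute y (a * b)) : Commute y a := by
  by_contra hcon
  have h1 := hD.odd_of ha hy (fun h' => hcon h'.symm)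
  have haa := hD.sq a ha
  have hbb := hD.sq b hb
  have hyy := hD.sq y hy
  have hz : Odd (orderOf ((a * y) * (a * y))) := by
    have h2 : orderOf ((a * y) * (a * y)) ∣ orderOf (a * y) := by
      rw [← pow_two]; exact orderOf_pow_dvd 2
    exact Odd.of_dvd_nat h1 h2
  have hz1 : (a * y) * (a * y) ≠ 1 := fun h2 => hcon (hD.commute_of_sq ha hy h2).symm
  have ht : (a * b) * (a * b) = 1 := by
    calc a * b * (a * b) = a * (b * a) * b := by group
      _ = a * (a * b) * b := by rw [hab.eq]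
      _ = (a * a) * (b * b) := by group
      _ = 1 := by rw [haa, hbb, one_mul]
  have ht1 : a * b ≠ 1 := by
    intro h2
    apply hne
    calc a = a * (b * b) := by rw [hbb, mul_one]
      _ = (a * b) * b := by group
      _ = b := by rw [h2, one_mul]
  have hta : Commute (a * b) a := (Commute.refl a).mul_left hab.symm
  have hc : Commute (a * b) (a * y * (a * y)) :=
    (hta.mul_right h.symm).mul_right (hta.mul_right h.symm)
  refine hD.key ha (hD.conj b hb y hy) hz hz1 ht ht1 hc ?_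
  rw [hc.eq]
  calc a * (y * b * y) = a * y * (a * a) * b * y := by rw [haa]; group
    _ = a * y * a * ((a * b) * y) := by group
    _ = a * y * a * (y * (a * b)) := by rw [h.eq]
    _ = a * y * (a * y) * (a * b) := by group

theorem commute_of_commute_mul' (hD : OT D) {a b y : G} (ha : a ∈ D) (hb : b ∈ D)
    (hab : Commute a b) (hne : a ≠ b) (hy : y ∈ D) (h : Commute y (a * b)) : Commute y b :=
  hD.commute_of_commute_mul hb ha hab.symm hne.symm hy (by rwa [← hab.eq])

/-- If `a` commutes with `y a y`, then `a` commutes with `y`. -/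
theorem commute_of_commute_conj (hD : OT D) {a y : G} (ha : a ∈ D) (hy : y ∈ D)
    (h : Commute a (y * a * y)) : Commute a y := by
  rcases hD.pair a ha y hy with h1 | h1
  · exact h1
  · have haa := hD.sq a ha
    have hc := hD.sq _ (hD.conj a ha y hy)
    have h2 : ((a * y) * (a * y)) * ((a * y) * (a * y)) = 1 := by
      have e : (a * y) * (a * y) = a * (y * a * y) := by group
      rw [e]
      calc a * (y * a * y) * (a * (y * a * y)) = a * ((y * a * y) * a) * (y * a * y) := by group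
        _ = a * (a * (y * a * y)) * (y * a * y) := by rw [h.eq]
        _ = (a * a) * ((y * a * y) * (y * a * y)) := by group
        _ = 1 := by rw [haa, hc, one_mul]
    have h3 : (a * y) * (a * y) = 1 := by
      refine eq_one_of_odd_of_sq ?_ h2
      have h4 : orderOf ((a * y) * (a * y)) ∣ orderOf (a * y) := by
        rw [← pow_two]; exact orderOf_pow_dvd 2
      exact Odd.of_dvd_nat h1 h4
    exact hD.commute_of_sq ha hy h3

/-- `D` is closed under conjugation by `⟨D⟩`. -/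
theorem conj_closure (hD : OT D) {g a : G} (hg : g ∈ Subgroup.closure D) (ha : a ∈ D) :
    g * a * g⁻¹ ∈ D := by
  have key : ∀ g ∈ Subgroup.closure D, ∀ a ∈ D, g * a * g⁻¹ ∈ D ∧ g⁻¹ * a * g ∈ D := by
    intro g hg
    induction hg using Subgroup.closure_induction with
    | mem b hb =>
      intro a ha
      rw [hD.inv hb]
      exact ⟨hD.conj a ha b hb, hD.conj a ha b hb⟩
    | one => intro a ha; simpa using ha
    | mul x y _ _ hx hy =>
      intro a ha
      refine ⟨?_, ?_⟩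
      · have := (hx _ (hy a ha).1).1
        have e : x * (y * a * y⁻¹) * x⁻¹ = x * y * a * (x * y)⁻¹ := by group
        rwa [e] at this
      · have := (hy _ (hx a ha).2).2
        have e : y⁻¹ * (x⁻¹ * a * x) * y = (x * y)⁻¹ * a * (x * y) := by group
        rwa [e] at this
    | inv x _ hx =>
      intro a ha
      rw [inv_inv]
      exact ⟨(hx a ha).2, (hx a ha).1⟩
  exact (key g hg a ha).1

/-- **L3 (trichotomy).** -/
theorem tri (hD : OT D) {x t : G} (hx : x ∈ D) (ht : t * t = 1) (hxt : t * x * t ∈ D) :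
    Commute t x ∨ (¬ Commute t x ∧ Commute x (t * x * t)) ∨
    ∃ c ∈ D, Commute c t ∧ c * x * c = t * x * t ∧ Commute (t * c) x ∧
      c ∈ Subgroup.closure {x, t * x * t} ∧ ¬ Commute x (t * x * t) := by
  have hxx := hD.sq x hx
  by_cases hc : Commute t x
  · exact Or.inl hc
  by_cases hc2 : Commute x (t * x * t)
  · exact Or.inr (Or.inl ⟨hc, hc2⟩)
  refine Or.inr (Or.inr ?_)
  set x' : G := t * x * t with hx'
  have hodd := hD.odd_of hx hxt hc2
  set u : G := x * x' with hu
  obtain ⟨k, hk⟩ := exists_pow_sq hodd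
  set! s : G := u ^ k with hs
  have hss : s * s = u := by
    rw [hs, ← pow_two, ← pow_mul, mul_comm, pow_mul]; exact hk
  set! w : G := s ^ k with hw
  have hww : w * w = s := by
    rw [hw, ← pow_two, ← pow_mul, mul_comm, pow_mul, pow_two, hss]
  have hx'x' := hD.sq x' hxt
  -- `x` and `t` invert `u`
  have hxu : x * u * x⁻¹ = u⁻¹ := by
    rw [hu, mul_inv_rev, hD.inv hx, hD.inv hxt]
    calc x * (x * x') * x = (x * x) * x' * x := by group
      _ = x' * x := by rw [hxx, one_mul]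
  have htinv : t⁻¹ = t := inv_of_sq ht
  have htu : t * u * t⁻¹ = u⁻¹ := by
    rw [hu, mul_inv_rev, hD.inv hx, hD.inv hxt, htinv, hx']
    calc t * (x * (t * x * t)) * t = t * x * t * x * (t * t) := by group
      _ = t * x * t * x := by rw [ht, mul_one]
  have hxw : x * w * x⁻¹ = w⁻¹ := by
    rw [hw, hs, ← conj_pow, ← conj_pow, hxu, inv_pow, inv_pow]
  have hxs : x * s * x⁻¹ = s⁻¹ := by rw [hs, ← conj_pow, hxu, inv_pow]
  have hts : t * s * t⁻¹ = s⁻¹ := by rw [hs, ← conj_pow, htu, inv_pow]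
  have hxu' : x * u = x' := by rw [hu, ← mul_assoc, hxx, one_mul]
  have hucl : u ∈ Subgroup.closure {x, x'} :=
    mul_mem (Subgroup.subset_closure (by simp)) (Subgroup.subset_closure (by simp))
  have hscl : s ∈ Subgroup.closure {x, x'} := pow_mem hucl k
  have hwcl : w ∈ Subgroup.closure {x, x'} := pow_mem hscl k
  have hsub : Subgroup.closure {x, x'} ≤ Subgroup.closure D := by
    rw [Subgroup.closure_le]
    intro y hy
    rcases hy with rfl | hy
    · exact Subgroup.subset_closure hx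
    · rw [Set.mem_singleton_iff] at hy
      rw [hy]; exact Subgroup.subset_closure hxt
  have hceq : x * s = w⁻¹ * x * w := by
    calc x * s = x * w * x⁻¹ * x * w := by rw [← hww]; group
      _ = w⁻¹ * x * w := by rw [hxw]
  have hcD : x * s ∈ D := by
    rw [hceq]
    have := hD.conj_closure (inv_mem (hsub hwcl)) hx
    rwa [inv_inv] at this
  have hcx : x * s * x * (x * s) = x' := by
    calc x * s * x * (x * s) = x * s * (x * x) * s := by group
      _ = x * (s * s) := by rw [hxx]; group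
      _ = x' := by rw [hss, hxu']
  have hct : Commute (x * s) t := by
    have h1 : t * (x * s) * t⁻¹ = x * s := by
      calc t * (x * s) * t⁻¹ = (t * x * t⁻¹) * (t * s * t⁻¹) := by group
        _ = x' * s⁻¹ := by rw [hts, htinv]
        _ = x * (s * s) * s⁻¹ := by rw [hss, hxu']
        _ = x * s := by group
    have h2 : t * (x * s) = x * s * t := by
      calc t * (x * s) = t * (x * s) * t⁻¹ * t := by group
        _ = x * s * t := by rw [h1]
    exact h2.symm
  refine ⟨x * s, hcD, hct, hcx, ?_, ?_, hc2⟩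
  · have hcc := hD.sq _ hcD
    show t * (x * s) * x = x * (t * (x * s))
    calc t * (x * s) * x = t * ((x * s) * x * (x * s)) * (x * s) * ((x * s) * (x * s))⁻¹ *
          ((x * s) * (x * s)) * ((x * s) * (x * s))⁻¹ * ((x*s) * (x*s)) := by
          rw [hcc]
          calc t * (x * s) * x = t * ((x * s) * x * ((x * s) * (x * s))) := by rw [hcc]; group
            _ = _ := by group
      _ = t * (t * x * t) * (x * s) := by rw [hcx, hcc, hx']; group
      _ = (t * t) * x * t * (x * s) := by group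
      _ = x * (t * (x * s)) := by rw [ht]; group
  · exact mul_mem (Subgroup.subset_closure (by simp)) hscl

/-- The core configuration: both `x^{a₁b}` and `x^{a₁a₂b}` cannot commute with `x`. -/
theorem no_two_bad (hD : OT D) {a₁ a₂ b x : G} (h1 : a₁ ∈ D) (h2 : a₂ ∈ D) (h12 : Commute a₁ a₂)
    (h12D : a₁ * a₂ ∈ D) (hb : b ∈ D) (hb1 : Commute b a₁) (hne1 : a₁ ≠ b) (hne2 : a₁ * a₂ ≠ b)
    (hx : x ∈ D) (hxa : ¬ Commute x a₂)
    (hc1 : Commute x (a₁ * b * x * (a₁ * b)))
    (hc2 : Commute x (a₁ * a₂ * b * x * (a₁ * a₂ * b))) : False := by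
  have hxx := hD.sq x hx
  have hb2 : Commute b a₂ := hD.line h1 h2 h12 h12D hb hb1
  have hb12 : Commute b (a₁ * a₂) := hb1.mul_right hb2
  rw [commute_conj_iff] at hc1 hc2
  set w₁ : G := x * (a₁ * b) * x with hw₁
  set w₂ : G := x * (a₁ * a₂ * b) * x with hw₂
  -- conjugation by `w₁`, `w₂` preserves the members commuting with `a₁ b`, `a₁ a₂ b`
  have hw₁1 : w₁ * w₁ = 1 := by
    calc w₁ * w₁ = x * (a₁ * b) * (x * x) * (a₁ * b) * x := by rw [hw₁]; group
      _ = x * (a₁ * (b * a₁) * b) * x := by rw [hxx]; group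
      _ = x * (a₁ * (a₁ * b) * b) * x := by rw [hb1.eq]
      _ = x * ((a₁ * a₁) * (b * b)) * x := by group
      _ = 1 := by rw [hD.sq _ h1, hD.sq _ hb, one_mul, mul_one, hxx]
  have hw₂1 : w₂ * w₂ = 1 := by
    calc w₂ * w₂ = x * ((a₁ * a₂) * b) * (x * x) * ((a₁ * a₂) * b) * x := by rw [hw₂]; group
      _ = x * ((a₁ * a₂) * (b * (a₁ * a₂)) * b) * x := by rw [hxx]; group
      _ = x * ((a₁ * a₂) * ((a₁ * a₂) * b) * b) * x := by rw [hb12.eq]
      _ = x * (((a₁ * a₂) * (a₁ * a₂)) * (b * b)) * x := by group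
      _ = 1 := by rw [hD.sq _ h12D, hD.sq _ hb, one_mul, mul_one, hxx]
  have hw12 : w₂ * w₁ = x * a₂ * x := by
    calc w₂ * w₁ = x * (a₁ * a₂ * b) * (x * x) * (a₁ * b) * x := by rw [hw₁, hw₂]; group
      _ = x * (a₁ * a₂ * (b * a₁) * b) * x := by rw [hxx]; group
      _ = x * ((a₁ * a₂) * a₁ * (b * b)) * x := by rw [hb1.eq]; group
      _ = x * ((a₂ * a₁) * a₁) * x := by rw [hD.sq _ hb, mul_one, h12.eq]
      _ = x * (a₂ * (a₁ * a₁)) * x := by group
      _ = x * a₂ * x := by rw [hD.sq _ h1, mul_one]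
  have hw21 : w₁ * w₂ = x * a₂ * x := by
    have h3 := congrArg (·⁻¹) hw12
    simp only [mul_inv_rev] at h3
    rw [inv_of_sq hw₁1, inv_of_sq hw₂1, hD.inv hx, hD.inv h2] at h3
    rw [h3]; group
  have hcl : ∀ y ∈ D, w₁ * y * w₁ ∈ D ∧ w₂ * y * w₂ ∈ D := by
    intro y hy
    constructor
    · have e : w₁ * y * w₁ = x * (a₁ * (b * (x * y * x) * b) * a₁) * x := by
        rw [hw₁]
        calc x * (a₁ * b) * x * y * (x * (a₁ * b) * x)
            = x * (a₁ * b) * x * y * x * (a₁ * b) * x := by group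
          _ = x * (a₁ * b) * x * y * x * (b * a₁) * x := by rw [hb1.eq]
          _ = _ := by group
      rw [e]
      exact hD.conj _ (hD.conj _ (hD.conj _ (hD.conj _ hy _ hx) _ hb) _ h1) _ hx
    · have e : w₂ * y * w₂ = x * ((a₁ * a₂) * (b * (x * y * x) * b) * (a₁ * a₂)) * x := by
        rw [hw₂]
        calc x * (a₁ * a₂ * b) * x * y * (x * (a₁ * a₂ * b) * x)
            = x * (a₁ * a₂ * b) * x * y * x * ((a₁ * a₂) * b) * x := by group
          _ = x * (a₁ * a₂ * b) * x * y * x * (b * (a₁ * a₂)) * x := by rw [hb12.eq]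
          _ = _ := by group
      rw [e]
      exact hD.conj _ (hD.conj _ (hD.conj _ (hD.conj _ hy _ hx) _ hb) _ h12D) _ hx
  have ha2t : Commute a₂ (a₁ * b) := h12.symm.mul_right hb2.symm
  have k1 : Commute (w₁ * a₂ * w₁) (a₁ * b) := by
    have h3 := commute_conj_of_sq hw₁1 ha2t
    have e : w₁ * (a₁ * b) * w₁ = a₁ * b := by
      rw [mul_assoc, hc1.eq, ← mul_assoc, hw₁1, one_mul]
    rwa [e] at h3
  have k2 : Commute (w₁ * a₂ * w₁) a₁ :=
    hD.commute_of_commute_mul h1 hb hb1.symm hne1 (hcl a₂ h2).1 k1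
  have k3 : Commute (w₁ * a₂ * w₁) b :=
    hD.commute_of_commute_mul' h1 hb hb1.symm hne1 (hcl a₂ h2).1 k1
  have k4 : Commute (w₁ * a₂ * w₁) a₂ := hD.line h1 h2 h12 h12D (hcl a₂ h2).1 k2
  have k5 : Commute (w₁ * a₂ * w₁) (a₁ * a₂ * b) := (k2.mul_right k4).mul_right k3
  have k6 : Commute (w₂ * (w₁ * a₂ * w₁) * w₂) (a₁ * a₂ * b) := by
    have h3 := commute_conj_of_sq hw₂1 k5
    have e : w₂ * (a₁ * a₂ * b) * w₂ = a₁ * a₂ * b := by
      rw [mul_assoc, hc2.eq, ← mul_assoc, hw₂1, one_mul]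
    rwa [e] at h3
  have k7D : w₂ * (w₁ * a₂ * w₁) * w₂ ∈ D := (hcl _ (hcl a₂ h2).1).2
  have k7 : Commute (w₂ * (w₁ * a₂ * w₁) * w₂) (a₁ * a₂) :=
    hD.commute_of_commute_mul h12D hb hb12.symm hne2 k7D k6
  have k8 : Commute (w₂ * (w₁ * a₂ * w₁) * w₂) a₂ := by
    have h3 : Commute (a₁ * a₂) a₂ := h12.mul_left (Commute.refl a₂)
    refine hD.line h12D h2 h3 ?_ k7D k7
    have : a₁ * a₂ * a₂ = a₁ := by rw [mul_assoc, hD.sq _ h2, mul_one]
    rwa [this]
  have e9 : w₂ * (w₁ * a₂ * w₁) * w₂ = (x * a₂ * x) * a₂ * (x * a₂ * x) := by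
    calc w₂ * (w₁ * a₂ * w₁) * w₂ = (w₂ * w₁) * a₂ * (w₁ * w₂) := by group
      _ = _ := by rw [hw12, hw21]
  rw [e9] at k8
  have k10 : Commute a₂ (x * a₂ * x) :=
    hD.commute_of_commute_conj h2 (hD.conj _ h2 _ hx) k8.symm
  exact hxa (hD.commute_of_commute_conj h2 hx k10).symm

end OT

end Cfsg.Agent.H738
end

-- part: H738/TheoremB
section
/-!
# Odd transpositions: the group generated by an equivalence class and an odd partner

Let `D` be a set of odd transpositions of the finite group `G`, `d ∈ D`, `E` the set of members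
commuting with the same members as `d`, `x ∈ D` not commuting with `d`, `G = ⟨E, x⟩`, and suppose
that `G` has no nontrivial normal 2-subgroup.

* `mul_mem`: `ab ∈ D` for different `a, b ∈ E` (so that `E ∪ {1}` is a subgroup).
* `eqv_of_commute`: if `E ≠ {d}`, then every member commuting with `d` lies in `E`.
-/

set_option autoImplicit false

namespace Cfsg.Agent.H738

open Cfsg.Agent.H737

variable {G : Type*} [Group G]

/-- The members of `D` commuting with the same members as `d`. -/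
def Cls (D : Set G) (d : G) : Set G := {e | e ∈ D ∧ Eqv D d e}

/-- An involution mapping the generators of a subgroup into it normalizes it. -/
theorem mem_normalizer_of_invol {S : Set G} {g : G} (hg : g * g = 1)
    (h : ∀ n ∈ S, g * n * g ∈ Subgroup.closure S) :
    g ∈ Subgroup.normalizer ((Subgroup.closure S : Subgroup G) : Set G) := by
  have hginv : g⁻¹ = g := inv_of_sq hg
  have hfor : ∀ n ∈ Subgroup.closure S, g * n * g⁻¹ ∈ Subgroup.closure S := by
    intro n hn
    induction hn using Subgroup.closure_induction with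
    | mem n hn => rw [hginv]; exact h n hn
    | one => simp
    | mul a b _ _ ha hb =>
      have := mul_mem ha hb
      simpa only [mul_assoc, _root_.inv_mul_cancel_left] using this
    | inv a _ ha =>
      have := inv_mem ha
      simpa only [mul_assoc, _root_.mul_inv_rev, _root_.inv_inv] using this
  rw [Subgroup.mem_normalizer_iff]
  intro n
  refine ⟨hfor n, fun hn => ?_⟩
  have h1 := hfor _ hn
  have e : g * (g * n * g⁻¹) * g⁻¹ = n := by
    rw [hginv]; exact conj_conj_of_sq hg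
  rwa [e] at h1

/-- A subgroup generated by pairwise commuting involutions is a 2-group. -/
theorem isPGroup_of_commuting {S : Set G} (h1 : ∀ s ∈ S, s * s = 1)
    (h2 : ∀ s ∈ S, ∀ t ∈ S, Commute s t) : IsPGroup 2 (Subgroup.closure S : Subgroup G) := by
  have hcomm : ∀ x ∈ Subgroup.closure S, ∀ y ∈ Subgroup.closure S, Commute x y := by
    intro x hx y hy
    have h3 : ∀ n ∈ S, Commute n y := by
      intro n hn
      induction hy using Subgroup.closure_induction with
      | mem y hy => exact h2 n hn y hy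
      | one => exact Commute.one_right _
      | mul a b _ _ ha hb => exact ha.mul_right hb
      | inv a _ ha => exact ha.inv_right
    induction hx using Subgroup.closure_induction with
    | mem x hx => exact h3 x hx
    | one => exact Commute.one_left _
    | mul a b _ _ ha hb => exact ha.mul_left hb
    | inv a _ ha => exact ha.inv_left
  rintro ⟨x, hx⟩
  refine ⟨1, Subtype.ext ?_⟩
  have h4 : x * x = 1 := by
    induction hx using Subgroup.closure_induction with
    | mem x hx => exact h1 x hx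
    | one => simp
    | mul a b ha hb iha ihb =>
      have := (hcomm a ha b hb).eq
      calc a * b * (a * b) = a * (b * a) * b := by group
        _ = a * (a * b) * b := by rw [← this]
        _ = (a * a) * (b * b) := by group
        _ = 1 := by rw [iha, ihb, one_mul]
    | inv a ha iha =>
      rw [inv_of_sq iha]; exact iha
  simpa only [pow_two, _root_.pow_one, _root_.MulMemClass.mk_mul_mk, _root_.OneMemClass.coe_one] using h4

/-- The hypothesis of this file. -/
structure Gen (D : Set G) (d x : G) : Prop where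
  ot : OT D
  hd : d ∈ D
  hx : x ∈ D
  nc : ¬ Commute x d
  gen : Subgroup.closure (Cls D d ∪ {x}) = ⊤
  o2 : ∀ N : Subgroup G, N.Normal → IsPGroup 2 N → N = ⊥

namespace Gen

variable {D : Set G} {d x : G}

theorem commute (h : Gen D d x) {a b : G} (ha : a ∈ Cls D d) (hb : b ∈ Cls D d) : Commute a b := by
  have h1 : Commute d a := (ha.2 d h.hd).1 (Commute.refl d)
  exact ((hb.2 a ha.1).1 h1.symm)

theorem commute_of (h : Gen D d x) {y a : G} (hy : y ∈ D) (hyd : Commute y d)
    (ha : a ∈ Cls D d) : Commute y a := (ha.2 y hy).1 hyd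

theorem nc_cls (h : Gen D d x) {a : G} (ha : a ∈ Cls D d) : ¬ Commute x a :=
  fun h1 => h.nc ((ha.2 x h.hx).2 h1)

theorem gen_top (h : Gen D d x) : Subgroup.closure D = ⊤ := by
  rw [eq_top_iff, ← h.gen, Subgroup.closure_le]
  rintro y (hy | hy)
  · exact Subgroup.subset_closure hy.1
  · rw [Set.mem_singleton_iff.1 hy]
    exact Subgroup.subset_closure h.hx

/-- An involution centralizing `E` and `x` is trivial. -/
theorem eq_one_of_central (h : Gen D d x) {j : G} (hj : j * j = 1)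
    (h1 : ∀ e ∈ Cls D d, Commute j e) (h2 : Commute j x) : j = 1 := by
  have hc : ∀ g : G, Commute j g := by
    intro g
    have hg : g ∈ Subgroup.closure (Cls D d ∪ {x}) := by rw [h.gen]; exact Subgroup.mem_top g
    induction hg using Subgroup.closure_induction with
    | mem y hy =>
      rcases hy with hy | hy
      · exact h1 y hy
      · rw [Set.mem_singleton_iff.1 hy]; exact h2
    | one => exact Commute.one_right _
    | mul a b _ _ ha hb => exact ha.mul_right hb
    | inv a _ ha => exact ha.inv_right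
  have hn : (Subgroup.closure {j} : Subgroup G).Normal := by
    constructor
    intro n hn g
    have : g * n * g⁻¹ = n := by
      have h3 : Commute n g := by
        induction hn using Subgroup.closure_induction with
        | mem y hy => rw [Set.mem_singleton_iff.1 hy]; exact hc g
        | one => exact Commute.one_left _
        | mul a b _ _ ha hb => exact ha.mul_left hb
        | inv a _ ha => exact ha.inv_left
      rw [← h3.eq]; group
    rwa [this]
  have hp : IsPGroup 2 (Subgroup.closure {j} : Subgroup G) := by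
    apply isPGroup_of_commuting
    · intro s hs; rw [Set.mem_singleton_iff.1 hs]; exact hj
    · intro s hs t ht
      rw [Set.mem_singleton_iff.1 hs, Set.mem_singleton_iff.1 ht]
  have h3 := h.o2 _ hn hp
  have h4 : j ∈ Subgroup.closure {j} := Subgroup.subset_closure rfl
  rw [h3] at h4
  exact Subgroup.mem_bot.1 h4

theorem conj_mem (h : Gen D d x) {a : G} (ha : a ∈ D) (g : G) : g * a * g⁻¹ ∈ D := by
  refine h.ot.conj_closure ?_ ha
  rw [h.gen_top]; exact Subgroup.mem_top g

theorem conj_mem' (h : Gen D d x) {a t : G} (ha : a ∈ D) (ht : t * t = 1) : t * a * t ∈ D := by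
  have h1 := h.conj_mem ha t
  rwa [inv_of_sq ht] at h1

theorem sq_mul (h : Gen D d x) {a b : G} (ha : a ∈ D) (hb : b ∈ D) (hab : Commute a b) :
    (a * b) * (a * b) = 1 := by
  calc a * b * (a * b) = a * (b * a) * b := by group
    _ = a * (a * b) * b := by rw [hab.eq]
    _ = (a * a) * (b * b) := by group
    _ = 1 := by rw [h.ot.sq a ha, h.ot.sq b hb, one_mul]

/-- The alternative for `a ∈ E` and `b` commuting with `d`: `ab ∈ D` or `x` commutes with
`x^{ab}`. -/
theorem mul_mem_or (h : Gen D d x) {a b : G} (ha : a ∈ Cls D d) (hb : b ∈ D) (hbd : Commute b d)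
    (hab : a ≠ b) : a * b ∈ D ∨ Commute x (a * b * x * (a * b)) := by
  have hba : Commute b a := h.commute_of hb hbd ha
  have ht := h.sq_mul ha.1 hb hba.symm
  have htE : ∀ e ∈ Cls D d, Commute (a * b) e := fun e he =>
    (h.commute ha he).mul_left (h.commute_of hb hbd he)
  have hxt : a * b * x * (a * b) ∈ D := h.conj_mem' h.hx ht
  rcases h.ot.tri h.hx ht hxt with h1 | h1 | ⟨c, hc, hct, hcx, htc, -, -⟩
  · exfalso
    have h2 := h.eq_one_of_central ht htE h1
    apply hab
    calc a = a * (b * b) := by rw [h.ot.sq b hb, mul_one]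
      _ = (a * b) * b := by group
      _ = b := by rw [h2, one_mul]
  · exact Or.inr h1.2
  · left
    have hca : Commute c a := h.ot.commute_of_commute_mul ha.1 hb hba.symm hab hc hct
    have hcd : Commute c d := (ha.2 c hc).2 hca
    have hcE : ∀ e ∈ Cls D d, Commute c e := fun e he => h.commute_of hc hcd he
    have h2 : (a * b) * c = 1 := by
      refine h.eq_one_of_central ?_ (fun e he => (htE e he).mul_left (hcE e he)) htc
      calc a * b * c * (a * b * c) = (a * b) * (c * (a * b)) * c := by group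
        _ = (a * b) * ((a * b) * c) * c := by rw [hct.eq]
        _ = ((a * b) * (a * b)) * (c * c) := by group
        _ = 1 := by rw [ht, h.ot.sq c hc, one_mul]
    have h3 : a * b = c := by
      calc a * b = (a * b) * (c * c) := by rw [h.ot.sq c hc, mul_one]
        _ = (a * b) * c * c := by group
        _ = c := by rw [h2, one_mul]
    rw [h3]; exact hc

theorem mul_mem_cls (h : Gen D d x) {a b : G} (ha : a ∈ Cls D d) (hb : b ∈ Cls D d)
    (hab : a * b ∈ D) : a * b ∈ Cls D d :=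
  ⟨hab, ha.2.trans (h.ot.line_eqv_mul ha.1 hb.1 (h.commute ha hb) hab)⟩

/-- The bad products. -/
def Bad (D : Set G) (d x : G) : Set G :=
  {z | ∃ a ∈ Cls D d, ∃ b ∈ Cls D d, a ≠ b ∧ z = a * b ∧ Commute x (z * x * z)}

theorem bad_sq (h : Gen D d x) {z : G} (hz : z ∈ Bad D d x) : z * z = 1 := by
  obtain ⟨a, ha, b, hb, -, rfl, -⟩ := hz
  exact h.sq_mul ha.1 hb.1 (h.commute ha hb)

theorem bad_comm (h : Gen D d x) {z : G} (hz : z ∈ Bad D d x) {e : G} (he : e ∈ Cls D d) :
    Commute z e := by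
  obtain ⟨a, ha, b, hb, -, rfl, -⟩ := hz
  exact (h.commute ha he).mul_left (h.commute hb he)

/-- `x z x` normalizes `E` for a bad product `z`. -/
theorem bad_conj_cls (h : Gen D d x) {z : G} (hz : z ∈ Bad D d x) {e : G} (he : e ∈ Cls D d) :
    x * z * x * e * (x * z * x) ∈ Cls D d := by
  have hzz := h.bad_sq hz
  obtain ⟨a, ha, b, hb, hab, rfl, hc⟩ := hz
  have hxx := h.ot.sq x h.hx
  set v : G := x * (a * b) * x with hv
  have hvv : v * v = 1 := by
    calc v * v = x * (a * b) * (x * x) * (a * b) * x := by rw [hv]; group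
      _ = x * ((a * b) * (a * b)) * x := by rw [hxx]; group
      _ = 1 := by rw [hzz, mul_one, hxx]
  have hcv : Commute v (a * b) := (commute_conj_iff.1 hc).symm
  have hcl : ∀ y ∈ D, v * y * v ∈ D := fun y hy => h.conj_mem' hy hvv
  -- members commuting with `d` are those commuting with `a * b`
  have h1 : ∀ y ∈ D, Commute y d ↔ Commute y (a * b) := by
    intro y hy
    constructor
    · intro h2
      exact (h.commute_of hy h2 ha).mul_right (h.commute_of hy h2 hb)
    · intro h2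
      exact (ha.2 y hy).2 (h.ot.commute_of_commute_mul ha.1 hb.1 (h.commute ha hb) hab hy h2)
  have h2 : ∀ y ∈ D, Commute y d → Commute (v * y * v) d := by
    intro y hy hyd
    rw [h1 _ (hcl y hy)]
    have h3 := commute_conj_of_sq hvv ((h1 y hy).1 hyd)
    have e : v * (a * b) * v = a * b := by rw [hcv.eq, mul_assoc, hvv, mul_one]
    rwa [e] at h3
  have h2' : ∀ y ∈ D, Commute y d ↔ Commute (v * y * v) d := by
    intro y hy
    refine ⟨h2 y hy, fun h3 => ?_⟩
    have h4 := h2 _ (hcl y hy) h3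
    rwa [conj_conj_of_sq hvv] at h4
  refine ⟨hcl e he.1, ?_⟩
  intro y hy
  constructor
  · intro h3
    have h4 : Commute (v * y * v) e := (he.2 _ (hcl y hy)).1 ((h2' y hy).1 h3)
    have h5 := commute_conj_of_sq hvv h4
    rwa [conj_conj_of_sq hvv] at h5
  · intro h3
    have h5 := commute_conj_of_sq hvv h3
    rw [conj_conj_of_sq hvv] at h5
    exact (h2' y hy).2 ((he.2 _ (hcl y hy)).2 h5)

/-- For a bad product `z` and `v = x z x`: `e (v e v)` is trivial or bad. -/
theorem mul_conj_bad (h : Gen D d x) {z : G} (hz : z ∈ Bad D d x) {e : G} (he : e ∈ Cls D d)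
    (hne : e ≠ x * z * x * e * (x * z * x)) :
    e * (x * z * x * e * (x * z * x)) ∈ Bad D d x := by
  have he' := h.bad_conj_cls hz he
  have hzz := h.bad_sq hz
  obtain ⟨a, ha, b, hb, hab, rfl, hc⟩ := hz
  have hxx := h.ot.sq x h.hx
  set v : G := x * (a * b) * x with hv
  have hvv : v * v = 1 := by
    calc v * v = x * (a * b) * (x * x) * (a * b) * x := by rw [hv]; group
      _ = x * ((a * b) * (a * b)) * x := by rw [hxx]; group
      _ = 1 := by rw [hzz, mul_one, hxx]
  rcases h.mul_mem_or he he'.1 (h.commute he' ⟨h.hd, Eqv.refl _ _⟩) hne with h1 | h1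
  · exfalso
    have h2 := h.mul_mem_cls he he' h1
    -- `e e^v` commutes with `v`
    have h3 : Commute (e * (v * e * v)) v := by
      show e * (v * e * v) * v = v * (e * (v * e * v))
      have h4 := (h.commute he he').eq
      calc e * (v * e * v) * v = (e * (v * e * v)) * v := rfl
        _ = ((v * e * v) * e) * v := by rw [h4]
        _ = v * (e * (v * e * v)) := by group
    -- `v` is the product of `x a x` and `x b x`
    have hva : v = (x * a * x) * (x * b * x) := by
      calc v = x * a * (x * x) * b * x := by rw [hxx, hv]; group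
        _ = _ := by group
    have hxa := h.conj_mem' ha.1 hxx
    have hxb := h.conj_mem' hb.1 hxx
    have h5 : Commute (e * (v * e * v)) (x * a * x) := by
      rw [hva] at h3
      rw [hva]
      refine h.ot.commute_of_commute_mul hxa hxb (commute_conj_of_sq hxx (h.commute ha hb)) ?_ ?_ h3
      · intro h6
        apply hab
        have := congrArg (fun y => x * y * x) h6
        simpa only [conj_conj_of_sq hxx] using this
      · rw [← hva]; exact h1
    have h6 : Commute (x * a * x) a := by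
      have h7 : Commute (x * a * x) d := (h2.2 _ hxa).2 h5.symm
      exact (ha.2 _ hxa).1 h7
    exact h.nc_cls ha (h.ot.commute_of_commute_conj ha.1 h.hx h6.symm).symm
  · exact ⟨e, he, _, he', hne, rfl, h1⟩

/-- There are no bad products. -/
theorem bad_empty (h : Gen D d x) {z : G} (hz : z ∈ Bad D d x) : False := by
  have hxx := h.ot.sq x h.hx
  set S : Set G := Bad D d x ∪ (fun z => x * z * x) '' Bad D d x with hS
  -- `E` is normalized by `x z x`, and `⟨E⟩ ∩ ⟨E⟩^x` is central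
  have hE : ∀ z ∈ Bad D d x, ∀ w ∈ Bad D d x, Commute z (x * w * x) := by
    intro z hz w hw
    -- `u = z (v z v)` centralizes `E` and `x E x`
    have hzz := h.bad_sq hz
    have hww := h.bad_sq hw
    set v : G := x * w * x with hv
    have hvv : v * v = 1 := by
      calc v * v = x * w * (x * x) * w * x := by rw [hv]; group
        _ = x * (w * w) * x := by rw [hxx]; group
        _ = 1 := by rw [hww, mul_one, hxx]
    set! u : G := z * (v * z * v) with hu
    have huE : ∀ e ∈ Cls D d, Commute u e := by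
      intro e he
      refine (h.bad_comm hz he).mul_left ?_
      have h1 := h.bad_conj_cls hw he
      have h2 := commute_conj_of_sq hvv (h.bad_comm hz h1)
      rwa [conj_conj_of_sq hvv] at h2
    have huE' : ∀ e ∈ Cls D d, Commute u (x * e * x) := by
      intro e he
      have e1 : u = (z * v * z) * v := by rw [hu]; group
      rw [e1]
      refine Commute.mul_left ?_ (commute_conj_of_sq hxx (h.bad_comm hw he))
      -- `x z x` normalizes `E`, so `z` normalizes `x E x`
      have h1 := h.bad_conj_cls hz he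
      have h2 := h.bad_comm hw h1
      have h3 := commute_conj_of_sq hxx h2
      have e2 : x * (x * z * x * e * (x * z * x)) * x = z * (x * e * x) * z := by
        calc x * (x * z * x * e * (x * z * x)) * x = (x * x) * z * (x * e * x) * z * (x * x) := by
              group
          _ = _ := by rw [hxx]; group
      rw [e2] at h3
      have h4 := commute_conj_of_sq hzz h3
      rwa [conj_conj_of_sq hzz] at h4
    -- hence `u` is central
    have hux : Commute u x := by
      -- `d x` is a power of `(d x)² = d (x d x)`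
      have hdd : d ∈ Cls D d := ⟨h.hd, Eqv.refl _ _⟩
      have hodd := h.ot.odd_of h.hd h.hx (fun h1 => h.nc h1.symm)
      have h1 : Commute u ((d * x) * (d * x)) := by
        have e1 : (d * x) * (d * x) = d * (x * d * x) := by group
        rw [e1]
        exact (huE d hdd).mul_right (huE' d hdd)
      have h2 := commute_of_commute_mul_self hodd h1
      have e3 : x = d * (d * x) := by rw [← mul_assoc, h.ot.sq d h.hd, one_mul]
      rw [e3]
      exact (huE d hdd).mul_right h2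
    have hvzv : (v * z * v) * (v * z * v) = 1 := by
      calc (v * z * v) * (v * z * v) = v * z * (v * v) * z * v := by group
        _ = v * (z * z) * v := by rw [hvv]; group
        _ = 1 := by rw [hzz, mul_one, hvv]
    -- `z` is a product of elements of `E`, and so is `v z v`
    have hcz : Commute z (v * z * v) := by
      obtain ⟨a, ha, b, hb, hab, rfl, hc⟩ := hz
      have h1 := h.bad_conj_cls hw ha
      have h2 := h.bad_conj_cls hw hb
      have e1 : v * (a * b) * v = (v * a * v) * (v * b * v) := by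
        calc v * (a * b) * v = v * a * (v * v) * b * v := by rw [hvv]; group
          _ = _ := by group
      rw [e1]
      exact ((h.commute ha h1).mul_left (h.commute hb h1)).mul_right
        ((h.commute ha h2).mul_left (h.commute hb h2))
    have huu : u * u = 1 := by
      calc u * u = z * ((v * z * v) * z) * (v * z * v) := by rw [hu]; group
        _ = z * (z * (v * z * v)) * (v * z * v) := by rw [hcz.eq]
        _ = (z * z) * ((v * z * v) * (v * z * v)) := by group
        _ = 1 := by rw [hzz, hvzv, one_mul]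
    have hu1 := h.eq_one_of_central huu huE hux
    have h5 : z * v * z * v = 1 := by rw [← hu1, hu]; group
    show z * v = v * z
    calc z * v = (z * v * z * v) * (v⁻¹ * z⁻¹) := by group
      _ = v * z := by rw [h5, inv_of_sq hvv, inv_of_sq hzz, one_mul]
  have hsq : ∀ s ∈ S, s * s = 1 := by
    rintro s (hs | ⟨w, hw, rfl⟩)
    · exact h.bad_sq hs
    · show x * w * x * (x * w * x) = 1
      calc x * w * x * (x * w * x) = x * w * (x * x) * w * x := by group
        _ = x * (w * w) * x := by rw [hxx]; group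
        _ = 1 := by rw [h.bad_sq hw, mul_one, hxx]
  have hbb : ∀ z ∈ Bad D d x, ∀ w ∈ Bad D d x, Commute z w := by
    intro z hz w hw
    obtain ⟨a, ha, b, hb, -, rfl, -⟩ := hw
    exact (h.bad_comm hz ha).mul_right (h.bad_comm hz hb)
  have hcomm : ∀ s ∈ S, ∀ t ∈ S, Commute s t := by
    rintro s (hs | ⟨w, hw, rfl⟩) t (ht | ⟨w', hw', rfl⟩)
    · exact hbb s hs t ht
    · exact hE s hs w' hw'
    · exact (hE t ht w hw).symm
    · exact commute_conj_of_sq hxx (hbb w hw w' hw')
  have hP := isPGroup_of_commuting hsq hcomm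
  have hN : (Subgroup.closure S : Subgroup G).Normal := by
    rw [← Subgroup.normalizer_eq_top_iff, eq_top_iff, ← h.gen, Subgroup.closure_le]
    rintro g (hg | hg)
    · refine mem_normalizer_of_invol (h.ot.sq g hg.1) ?_
      rintro n (hn | ⟨w, hw, rfl⟩)
      · have e1 : g * n * g = n := by
          rw [← (h.bad_comm hn hg).eq, mul_assoc, h.ot.sq g hg.1, mul_one]
        rw [e1]
        exact Subgroup.subset_closure (Or.inl hn)
      · set! v : G := x * w * x with hv
        have hvS : v ∈ S := Or.inr ⟨w, hw, rfl⟩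
        have hvv := hsq v hvS
        have e1 : g * v * g = (g * (v * g * v)) * v := by
          calc g * v * g = g * v * g * (v * v) := by rw [hvv, mul_one]
            _ = _ := by group
        show g * v * g ∈ _
        rw [e1]
        refine mul_mem ?_ (Subgroup.subset_closure hvS)
        by_cases hne : g = v * g * v
        · rw [← hne, h.ot.sq g hg.1]; exact one_mem _
        · exact Subgroup.subset_closure (Or.inl (h.mul_conj_bad hw hg hne))
    · rw [Set.mem_singleton_iff] at hg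
      rw [hg]
      refine mem_normalizer_of_invol hxx ?_
      rintro n (hn | ⟨w, hw, rfl⟩)
      · exact Subgroup.subset_closure (Or.inr ⟨n, hn, rfl⟩)
      · show x * (x * w * x) * x ∈ _
        rw [conj_conj_of_sq hxx]
        exact Subgroup.subset_closure (Or.inl hw)
  have h1 := h.o2 _ hN hP
  have h2 : z ∈ Subgroup.closure S := Subgroup.subset_closure (Or.inl hz)
  rw [h1, Subgroup.mem_bot] at h2
  obtain ⟨a, ha, b, hb, hab, rfl, -⟩ := hz
  apply hab
  calc a = a * (b * b) := by rw [h.ot.sq b hb.1, mul_one]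
    _ = (a * b) * b := by group
    _ = b := by rw [h2, one_mul]

/-- **Theorem B.** `E ∪ {1}` is closed under multiplication. -/
theorem mul_mem (h : Gen D d x) {a b : G} (ha : a ∈ Cls D d) (hb : b ∈ Cls D d) (hab : a ≠ b) :
    a * b ∈ Cls D d := by
  refine h.mul_mem_cls ha hb ?_
  rcases h.mul_mem_or ha hb.1 (h.commute hb ⟨h.hd, Eqv.refl _ _⟩) hab with h1 | h1
  · exact h1
  · exact (h.bad_empty ⟨a, ha, b, hb, hab, rfl, h1⟩).elim

/-- **Lemma C.** If `E ≠ {d}`, every member commuting with `d` lies in `E`. -/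
theorem eqv_of_commute (h : Gen D d x) {a : G} (ha : a ∈ Cls D d) (had : a ≠ d) {c : G}
    (hc : c ∈ D) (hcd : Commute c d) : c ∈ Cls D d := by
  have hdd : d ∈ Cls D d := ⟨h.hd, Eqv.refl _ _⟩
  by_contra hcon
  -- `c` is different from all elements of `E` and products lie outside `D`
  have hall : ∀ e ∈ Cls D d, Commute x (e * c * x * (e * c)) := by
    intro e he
    have hne : e ≠ c := by rintro rfl; exact hcon he
    rcases h.mul_mem_or he hc hcd hne with h1 | h1
    · exfalso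
      apply hcon
      have hec : Commute e c := (h.commute_of hc hcd he).symm
      exact ⟨hc, he.2.trans (h.ot.line_eqv he.1 hc hec h1)⟩
    · exact h1
  have h1 := h.mul_mem ha hdd had
  refine h.ot.no_two_bad ha.1 h.hd (h.commute ha hdd) h1.1 hc (h.commute_of hc hcd ha) ?_ ?_
    h.hx h.nc (hall a ha) (hall _ h1)
  · rintro rfl; exact hcon ha
  · intro h2; rw [← h2] at hcon; exact hcon h1

end Gen

end Cfsg.Agent.H738
end

-- part: H738/Quot
section
/-!
# Odd transpositions: images modulo 2-groups, the groups `⟨E_d, E_e, x⟩`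

* `Im f D`: the nontrivial images of the members of `D`; `OT` passes to it, and commuting is
  reflected if the kernel is a 2-group.
* `Gen.trans`: in the situation of `Gen` with `E ≠ {d}`, commuting is transitive on `D`.
* `eqv_of_gen2`: in `⟨E_d, E_e, x⟩` (`O₂ = 1`, `d` on a line), `d` and `e` are equivalent.
* `trans_of_gen2`: commuting is transitive on the noncentral members of `⟨E_d, E_e, x⟩`.
* `mem_cls_of_commute`: **Claim 2**: noncentral members of `X = ⟨E_d, x⟩` commuting with `d` lie in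
  `E_d`.
-/

set_option autoImplicit false

namespace Cfsg.Agent.H738

open Cfsg.Agent.H737

/-! ### Images -/

section Image

variable {X K : Type*} [Group X] [Group K] {D : Set X} (f : X →* K)

/-- The nontrivial images of the members of `D`. -/
def Im (f : X →* K) (D : Set X) : Set K := {y | y ≠ 1 ∧ ∃ a ∈ D, f a = y}

theorem im_ot (hD : OT D) : OT (Im f D) where
  sq := by
    rintro _ ⟨-, a, ha, rfl⟩
    rw [← map_mul, hD.sq a ha, map_one]
  ne := fun _ h => h.1
  conj := by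
    rintro _ ⟨ha1, a, ha, rfl⟩ _ ⟨hb1, b, hb, rfl⟩
    refine ⟨?_, b * a * b, hD.conj a ha b hb, by rw [map_mul, map_mul]⟩
    intro h1
    apply ha1
    have hbb : f b * f b = 1 := by rw [← map_mul, hD.sq b hb, map_one]
    have h2 : f b * (f b * f a * f b) * f b = f a := conj_conj_of_sq hbb
    rw [← h2, h1, mul_one, hbb]
  pair := by
    rintro _ ⟨-, a, ha, rfl⟩ _ ⟨-, b, hb, rfl⟩
    rcases hD.pair a ha b hb with h1 | h1
    · exact Or.inl (h1.map f)
    · refine Or.inr ?_
      rw [← map_mul]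
      exact Odd.of_dvd_nat h1 (orderOf_map_dvd f _)

/-- The kernel of `f` is a 2-group. -/
def Ker2 (f : X →* K) : Prop := ∀ g : X, f g = 1 → ∃ k : ℕ, g ^ 2 ^ k = 1

variable {f}

theorem Ker2.eq_one_of_odd (hf : Ker2 f) {g : X} (hg : Odd (orderOf g)) (h : f g = 1) : g = 1 := by
  obtain ⟨k, hk⟩ := hf g h
  have h1 : orderOf g ∣ 2 ^ k := orderOf_dvd_of_pow_eq_one hk
  have h2 : Nat.Coprime (orderOf g) (2 ^ k) := Nat.Coprime.pow_right _ hg.coprime_two_right
  exact orderOf_eq_one_iff.1 (Nat.Coprime.eq_one_of_dvd h2 h1)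

theorem Ker2.commute_iff (hf : Ker2 f) (hD : OT D) {a b : X} (ha : a ∈ D) (hb : b ∈ D) :
    Commute (f a) (f b) ↔ Commute a b := by
  refine ⟨fun h => ?_, fun h => h.map f⟩
  rcases hD.pair a ha b hb with h1 | h1
  · exact h1
  · have h2 : f ((a * b) * (a * b)) = 1 := by
      calc f ((a * b) * (a * b)) = f a * (f b * f a) * f b := by simp only [map_mul]; group
        _ = f a * (f a * f b) * f b := by rw [h.eq]
        _ = f (a * a) * f (b * b) := by simp only [map_mul]; group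
        _ = 1 := by rw [hD.sq a ha, hD.sq b hb, map_one, one_mul]
    have h3 : (a * b) * (a * b) = 1 := by
      refine hf.eq_one_of_odd ?_ h2
      refine Odd.of_dvd_nat h1 ?_
      rw [← pow_two]; exact orderOf_pow_dvd 2
    exact hD.commute_of_sq ha hb h3

theorem Ker2.map_mem (hf : Ker2 f) (hD : OT D) {a b : X} (ha : a ∈ D) (hb : b ∈ D)
    (h : ¬ Commute b a) : f a ∈ Im f D := by
  refine ⟨?_, a, ha, rfl⟩
  intro h1
  apply h
  rw [← hf.commute_iff hD hb ha, h1]
  exact Commute.one_right _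

theorem Ker2.cls_map (hf : Ker2 f) (hD : OT D) {d a b : X} (hd : d ∈ D)
    (ha : a ∈ Cls D d) (hb : b ∈ D) (h : ¬ Commute b d) : f a ∈ Cls (Im f D) (f d) := by
  have hba : ¬ Commute b a := fun h1 => h ((ha.2 b hb).2 h1)
  refine ⟨hf.map_mem hD ha.1 hb hba, ?_⟩
  rintro _ ⟨-, c, hc, rfl⟩
  rw [hf.commute_iff hD hc hd, hf.commute_iff hD hc ha.1]
  exact ha.2 c hc

theorem ker2_mk (P : Subgroup X) [P.Normal] (hP : IsPGroup 2 P) : Ker2 (QuotientGroup.mk' P) := by
  intro g hg
  have h1 : g ∈ P := (QuotientGroup.eq_one_iff g).1 hg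
  obtain ⟨k, hk⟩ := hP ⟨g, h1⟩
  refine ⟨k, ?_⟩
  have := congrArg Subtype.val hk
  simpa only [_root_.SubmonoidClass.mk_pow, _root_.OneMemClass.coe_one] using this

end Image

/-! ### Transitivity of commuting -/

section

variable {G : Type*} [Group G] {D : Set G}

theorem Gen.cls_conj {d x : G} (h : Gen D d x) {a b g : G} (hab : a ∈ Cls D b) :
    g * a * g⁻¹ ∈ Cls D (g * b * g⁻¹) := by
  refine ⟨h.conj_mem hab.1 g, ?_⟩
  intro y hy
  have e : ∀ c : G, Commute y (g * c * g⁻¹) ↔ Commute (g⁻¹ * y * g) c := by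
    intro c
    constructor
    · intro h1
      show g⁻¹ * y * g * c = c * (g⁻¹ * y * g)
      calc g⁻¹ * y * g * c = g⁻¹ * (y * (g * c * g⁻¹)) * g := by group
        _ = g⁻¹ * ((g * c * g⁻¹) * y) * g := by rw [h1.eq]
        _ = _ := by group
    · intro h1
      show y * (g * c * g⁻¹) = g * c * g⁻¹ * y
      calc y * (g * c * g⁻¹) = g * ((g⁻¹ * y * g) * c) * g⁻¹ := by group
        _ = g * (c * (g⁻¹ * y * g)) * g⁻¹ := by rw [h1.eq]
        _ = _ := by group
  rw [e, e]
  refine hab.2 _ ?_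
  have := h.conj_mem hy g⁻¹
  rwa [inv_inv] at this

/-- Members of `D` that do not commute are conjugate. -/
theorem OT.exists_conj (hD : OT D) {a b : G} (ha : a ∈ D) (hb : b ∈ D) (h : ¬ Commute a b) :
    ∃ g ∈ Subgroup.closure {a, b}, g * a * g⁻¹ = b := by
  have h1 := hD.odd_of ha hb h
  obtain ⟨m, hm⟩ := h1
  set ρ : G := a * b with hρ
  have hbcl : ρ ∈ Subgroup.closure {a, b} :=
    mul_mem (Subgroup.subset_closure (by simp)) (Subgroup.subset_closure (by simp))
  refine ⟨ρ ^ m, pow_mem hbcl m, ?_⟩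
  have haa := hD.sq a ha
  have hinv : a * ρ * a⁻¹ = ρ⁻¹ := by
    rw [hρ, mul_inv_rev, hD.inv ha, hD.inv hb, ← mul_assoc, haa, one_mul]
  have h1 : a * (ρ ^ m)⁻¹ * a⁻¹ = ρ ^ m := by
    rw [← inv_pow, ← conj_pow]
    rw [show a * ρ⁻¹ * a⁻¹ = (a * ρ * a⁻¹)⁻¹ by group, hinv, inv_inv]
  have h2 : a * (ρ ^ m)⁻¹ = ρ ^ m * a := by
    calc a * (ρ ^ m)⁻¹ = (a * (ρ ^ m)⁻¹ * a⁻¹) * a := by group
      _ = ρ ^ m * a := by rw [h1]
  have h3 : ρ ^ (2 * m + 1) = 1 := by rw [← hm, pow_orderOf_eq_one]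
  calc ρ ^ m * a * (ρ ^ m)⁻¹ = ρ ^ m * (a * (ρ ^ m)⁻¹) := by group
    _ = ρ ^ m * (ρ ^ m * a) := by rw [h2]
    _ = (ρ ^ (2 * m + 1)) * ρ⁻¹ * a := by rw [pow_succ, two_mul, pow_add]; group
    _ = b := by
      rw [h3, hρ, mul_inv_rev, hD.inv ha, hD.inv hb, one_mul, mul_assoc, haa, mul_one]

theorem Gen.class {d x a : G} (h : Gen D d x) (ha : a ∈ Cls D d) (had : a ≠ d) {y : G}
    (hy : y ∈ D) : ∃ g : G, g * d * g⁻¹ = y := by
  obtain ⟨g, -, hg⟩ := h.ot.exists_conj h.hd h.hx (fun h1 => h.nc h1.symm)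
  by_cases h1 : Commute y d
  · have h2 := h.eqv_of_commute ha had hy h1
    have h3 : ¬ Commute x y := h.nc_cls h2
    obtain ⟨k, -, hk⟩ := h.ot.exists_conj h.hx hy h3
    exact ⟨k * g, by rw [← hk, ← hg]; group⟩
  · obtain ⟨k, -, hk⟩ := h.ot.exists_conj h.hd hy (fun h2 => h1 h2.symm)
    exact ⟨k, hk⟩

/-- Commuting is transitive on `D`. -/
theorem Gen.trans {d x a : G} (h : Gen D d x) (ha : a ∈ Cls D d) (had : a ≠ d) {y₁ y₂ y₃ : G}
    (h1 : y₁ ∈ D) (h2 : y₂ ∈ D) (h3 : y₃ ∈ D) (h12 : Commute y₁ y₂) (h23 : Commute y₂ y₃) :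
    Commute y₁ y₃ := by
  obtain ⟨g, rfl⟩ := h.class ha had h2
  have e : ∀ c c' : G, Commute c c' ↔ Commute (g⁻¹ * c * g) (g⁻¹ * c' * g) := by
    intro c c'
    constructor
    · intro h1
      show g⁻¹ * c * g * (g⁻¹ * c' * g) = g⁻¹ * c' * g * (g⁻¹ * c * g)
      calc g⁻¹ * c * g * (g⁻¹ * c' * g) = g⁻¹ * (c * c') * g := by group
        _ = g⁻¹ * (c' * c) * g := by rw [h1.eq]
        _ = _ := by group
    · intro h1
      show c * c' = c' * c
      calc c * c' = g * ((g⁻¹ * c * g) * (g⁻¹ * c' * g)) * g⁻¹ := by group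
        _ = g * ((g⁻¹ * c' * g) * (g⁻¹ * c * g)) * g⁻¹ := by rw [h1.eq]
        _ = _ := by group
  have e2 : g⁻¹ * (g * d * g⁻¹) * g = d := by group
  rw [e, e2] at h12 h23
  have c1 : g⁻¹ * y₁ * g ∈ D := by
    have := h.conj_mem h1 g⁻¹
    rwa [inv_inv] at this
  have c3 : g⁻¹ * y₃ * g ∈ D := by
    have := h.conj_mem h3 g⁻¹
    rwa [inv_inv] at this
  rw [e]
  exact h.commute (h.eqv_of_commute ha had c1 h12) (h.eqv_of_commute ha had c3 h23.symm)

/-- An involution centralizing a generating set is trivial if there are no normal 2-subgroups. -/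
theorem eq_one_of_central' {S : Set G} (hS : Subgroup.closure S = ⊤)
    (hO : ∀ N : Subgroup G, N.Normal → IsPGroup 2 N → N = ⊥) {j : G} (hj : j * j = 1)
    (h1 : ∀ e ∈ S, Commute j e) : j = 1 := by
  have hc : ∀ g : G, Commute j g := by
    intro g
    have hg : g ∈ Subgroup.closure S := by rw [hS]; exact Subgroup.mem_top g
    induction hg using Subgroup.closure_induction with
    | mem y hy => exact h1 y hy
    | one => exact Commute.one_right _
    | mul a b _ _ ha hb => exact ha.mul_right hb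
    | inv a _ ha => exact ha.inv_right
  have hn : (Subgroup.closure {j} : Subgroup G).Normal := by
    constructor
    intro n hn g
    have : g * n * g⁻¹ = n := by
      have h3 : Commute n g := by
        induction hn using Subgroup.closure_induction with
        | mem y hy => rw [Set.mem_singleton_iff.1 hy]; exact hc g
        | one => exact Commute.one_left _
        | mul a b _ _ ha hb => exact ha.mul_left hb
        | inv a _ ha => exact ha.inv_left
      rw [← h3.eq]; group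
    rwa [this]
  have hp : IsPGroup 2 (Subgroup.closure {j} : Subgroup G) := by
    apply isPGroup_of_commuting
    · intro s hs; rw [Set.mem_singleton_iff.1 hs]; exact hj
    · intro s hs t ht
      rw [Set.mem_singleton_iff.1 hs, Set.mem_singleton_iff.1 ht]
  have h3 := hO _ hn hp
  have h4 : j ∈ Subgroup.closure {j} := Subgroup.subset_closure rfl
  rw [h3] at h4
  exact Subgroup.mem_bot.1 h4

/-- **Claim 1 (core).** In `⟨E_d, E_e, x⟩` with `O₂ = 1` and `d` on a line, `d` and `e` are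
equivalent. -/
theorem eqv_of_gen2 (hD : OT D) (hO : ∀ N : Subgroup G, N.Normal → IsPGroup 2 N → N = ⊥)
    {d e x a : G} (hd : d ∈ D) (he : e ∈ D) (hde : Commute d e) (hx : x ∈ D)
    (hxd : ¬ Commute x d)
    (hgen : Subgroup.closure (Cls D d ∪ Cls D e ∪ {x}) = ⊤)
    (ha : a ∈ D) (had : Commute a d) (hadD : a * d ∈ D) : Eqv D d e := by
  by_contra hcon
  have hgt : Subgroup.closure D = ⊤ := by
    rw [eq_top_iff, ← hgen, Subgroup.closure_le]
    rintro y ((hy | hy) | hy)
    · exact Subgroup.subset_closure hy.1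
    · exact Subgroup.subset_closure hy.1
    · rw [Set.mem_singleton_iff.1 hy]
      exact Subgroup.subset_closure hx
  have hdc : ∀ y ∈ Cls D d, Commute y d := fun y hy =>
    ((hy.2 d hd).1 (Commute.refl d)).symm
  have hec : ∀ y ∈ Cls D e, Commute y e := fun y hy =>
    ((hy.2 e he).1 (Commute.refl e)).symm
  -- `E_d`, `E_e` commute elementwise
  have hdd : ∀ y ∈ Cls D d, ∀ z ∈ Cls D d, Commute y z := fun y hy z hz =>
    (hz.2 y hy.1).1 (hdc y hy)
  have hee : ∀ y ∈ Cls D e, ∀ z ∈ Cls D e, Commute y z := fun y hy z hz =>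
    (hz.2 y hy.1).1 (hec y hy)
  have hdE : ∀ y ∈ Cls D d, ∀ z ∈ Cls D e, Commute y z := by
    intro y hy z hz
    refine (hz.2 y hy.1).1 ?_
    exact ((hy.2 e he).1 hde.symm).symm
  have haC : a ∈ Cls D d := ⟨ha, hD.line_eqv hd ha had.symm (by rw [← had.eq]; exact hadD)⟩
  have hadC : a * d ∈ Cls D d := ⟨hadD, haC.2.trans (hD.line_eqv_mul ha hd had hadD)⟩
  have hne : ∀ y ∈ Cls D d, y ≠ e := by
    rintro y hy rfl
    exact hcon hy.2
  have hbad : ∀ y ∈ Cls D d, Commute x (y * e * x * (y * e)) := by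
    intro y hy
    have hye : Commute y e := ((hy.2 e he).1 hde.symm).symm
    have ht : (y * e) * (y * e) = 1 := by
      calc y * e * (y * e) = y * (e * y) * e := by group
        _ = y * (y * e) * e := by rw [hye.eq]
        _ = (y * y) * (e * e) := by group
        _ = 1 := by rw [hD.sq y hy.1, hD.sq e he, one_mul]
    have htS : ∀ z ∈ Cls D d ∪ Cls D e, Commute (y * e) z := by
      rintro z (hz | hz)
      · exact (hdd y hy z hz).mul_left (hdE z hz e ⟨he, Eqv.refl _ _⟩).symm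
      · exact (hdE y hy z hz).mul_left (hec z hz).symm
    have hxt : y * e * x * (y * e) ∈ D := by
      have h1 : y * e * x * (y * e)⁻¹ ∈ D :=
        hD.conj_closure (by rw [hgt]; exact Subgroup.mem_top _) hx
      rwa [inv_of_sq ht] at h1
    rcases hD.tri hx ht hxt with h1 | h1 | ⟨c, hc, hct, hcx, htc, -, -⟩
    · exfalso
      have h2 : y * e = 1 := by
        refine eq_one_of_central' hgen hO ht ?_
        rintro z (hz | hz)
        · exact htS z hz
        · rw [Set.mem_singleton_iff.1 hz]; exact h1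
      apply hne y hy
      calc y = y * (e * e) := by rw [hD.sq e he, mul_one]
        _ = (y * e) * e := by group
        _ = e := by rw [h2, one_mul]
    · exact h1.2
    · exfalso
      have hcy : Commute c y := hD.commute_of_commute_mul hy.1 he hye (hne y hy) hc hct
      have hce : Commute c e := hD.commute_of_commute_mul' hy.1 he hye (hne y hy) hc hct
      have hcd : Commute c d := (hy.2 c hc).2 hcy
      have h2 : (y * e) * c = 1 := by
        refine eq_one_of_central' hgen hO ?_ ?_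
        · calc y * e * c * (y * e * c) = (y * e) * (c * (y * e)) * c := by group
            _ = (y * e) * ((y * e) * c) * c := by rw [hct.eq]
            _ = ((y * e) * (y * e)) * (c * c) := by group
            _ = 1 := by rw [ht, hD.sq c hc, one_mul]
        · rintro z ((hz | hz) | hz)
          · exact (htS z (Or.inl hz)).mul_left ((hz.2 c hc).1 hcd)
          · exact (htS z (Or.inr hz)).mul_left ((hz.2 c hc).1 hce)
          · rw [Set.mem_singleton_iff.1 hz]; exact htc
      have h3 : y * e = c := by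
        calc y * e = (y * e) * (c * c) := by rw [hD.sq c hc, mul_one]
          _ = (y * e) * c * c := by group
          _ = c := by rw [h2, one_mul]
      apply hcon
      have h4 : y * e ∈ D := by rw [h3]; exact hc
      exact hy.2.trans (hD.line_eqv hy.1 he hye h4)
  have hea : Commute e a := (haC.2 e he).1 hde.symm
  exact hD.no_two_bad ha hd had hadD he hea (hne a haC) (hne _ hadC) hx hxd (hbad a haC)
    (hbad _ hadC)

end

/-! ### Subgroups -/

section Sub

variable {G : Type*} [Group G] {D : Set G}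

/-- The members of `D` in `Y`. -/
def Sub (D : Set G) (Y : Subgroup G) : Set ↥Y := {y | (y : G) ∈ D}

theorem sub_ot (hD : OT D) (Y : Subgroup G) : OT (Sub D Y) where
  sq := fun a ha => Subtype.ext (hD.sq _ ha)
  ne := fun a ha h => hD.ne _ ha (by rw [h]; rfl)
  conj := fun a ha b hb => hD.conj _ ha _ hb
  pair := by
    intro a ha b hb
    rcases hD.pair _ ha _ hb with h1 | h1
    · left
      exact Subtype.ext h1
    · right
      rw [← Subgroup.orderOf_coe]
      exact h1

theorem commute_coe {Y : Subgroup G} {a b : ↥Y} : Commute (a : G) (b : G) ↔ Commute a b :=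
  ⟨fun h => Subtype.ext h, fun h => congrArg Subtype.val h⟩

theorem cls_sub_of {Y : Subgroup G} {d a : ↥Y} (h : (a : G) ∈ Cls D (d : G)) :
    a ∈ Cls (Sub D Y) d :=
  ⟨h.1, fun y hy => by
    rw [← commute_coe, ← commute_coe]
    exact h.2 _ hy⟩

/-- A subgroup generated by a set is generated by the same set as a group. -/
theorem closure_sub {S : Set G} {Y : Subgroup G} (hS : Subgroup.closure S = Y) {T : Set ↥Y}
    (hT : ∀ y : ↥Y, (y : G) ∈ S → y ∈ T) : Subgroup.closure T = ⊤ := by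
  have hSY : S ⊆ Y := by rw [← hS]; exact Subgroup.subset_closure
  rw [eq_top_iff]
  rintro ⟨y, hy⟩ -
  have hy' : y ∈ Subgroup.closure S := by rw [hS]; exact hy
  have key : ∀ z (hz : z ∈ Subgroup.closure S), ∀ hzY : z ∈ Y, (⟨z, hzY⟩ : ↥Y) ∈ Subgroup.closure T := by
    intro z hz
    induction hz using Subgroup.closure_induction with
    | mem z hz => intro hzY; exact Subgroup.subset_closure (hT _ hz)
    | one => intro _; exact one_mem _
    | mul a b ha hb iha ihb =>
      intro _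
      rw [hS] at ha hb
      exact mul_mem (iha ha) (ihb hb)
    | inv a ha iha =>
      intro _
      rw [hS] at ha
      exact inv_mem (iha ha)
  exact key y hy' hy

theorem closure_image {X K : Type*} [Group X] [Group K] {f : X →* K} (hf : Function.Surjective f)
    {S : Set X} (hS : Subgroup.closure S = ⊤) {T : Set K} (hT : ∀ s ∈ S, f s ∈ T) :
    Subgroup.closure T = ⊤ := by
  rw [eq_top_iff]
  intro y _
  obtain ⟨x, rfl⟩ := hf y
  have hx : x ∈ Subgroup.closure S := by rw [hS]; exact Subgroup.mem_top x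
  induction hx using Subgroup.closure_induction with
  | mem z hz => exact Subgroup.subset_closure (hT z hz)
  | one => rw [map_one]; exact one_mem _
  | mul a b _ _ iha ihb =>
    rw [map_mul]
    exact mul_mem (iha (Subgroup.mem_top _)) (ihb (Subgroup.mem_top _))
  | inv a _ iha =>
    rw [map_inv]
    exact inv_mem (iha (Subgroup.mem_top _))

/-- The canonical map onto `Y / O₂(Y)`. -/
noncomputable def red (Y : Subgroup G) : ↥Y →* ↥Y ⧸ pCore 2 ↥Y := QuotientGroup.mk' _

theorem red_surj (Y : Subgroup G) : Function.Surjective (red Y) := QuotientGroup.mk'_surjective _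

theorem red_ker2 (Y : Subgroup G) : Ker2 (red Y) := ker2_mk _ (Lib.Cores.pCore_isPGroup 2)

theorem red_o2 (Y : Subgroup G) : ∀ N : Subgroup (↥Y ⧸ pCore 2 ↥Y), N.Normal → IsPGroup 2 N → N = ⊥ := by
  intro N hN hP
  have h1 := Lib.Cores.le_pCore hN hP
  rwa [Lib.Cores.pCore_quotient_pCore, le_bot_iff] at h1

/-- The group `⟨E_d, x⟩` modulo `O₂` satisfies the hypotheses of `Gen`. -/
theorem gen_red (hD : OT D) {d x : G} (hd : d ∈ D) (hx : x ∈ D) (hxd : ¬ Commute x d)
    {Y : Subgroup G} (hY : Subgroup.closure (Cls D d ∪ {x}) = Y) (hdY : d ∈ Y) (hxY : x ∈ Y) :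
    Gen (Im (red Y) (Sub D Y)) (red Y ⟨d, hdY⟩) (red Y ⟨x, hxY⟩) := by
  have hS := sub_ot hD Y
  have hK := red_ker2 Y
  have hnc : ¬ Commute (⟨x, hxY⟩ : ↥Y) ⟨d, hdY⟩ := fun h => hxd (commute_coe.2 h)
  refine ⟨im_ot _ hS, hK.map_mem hS hd hx hnc, hK.map_mem hS hx hd (fun h => hnc h.symm), ?_, ?_,
    red_o2 Y⟩
  · rw [hK.commute_iff hS hx hd]; exact hnc
  · refine closure_image (red_surj Y) (closure_sub (T := Cls (Sub D Y) ⟨d, hdY⟩ ∪ {⟨x, hxY⟩}) hY ?_) ?_
    · rintro ⟨y, hyY⟩ (hy | hy)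
      · exact Or.inl (cls_sub_of hy)
      · right
        rw [Set.mem_singleton_iff] at hy ⊢
        exact Subtype.ext hy
    · rintro y (hy | hy)
      · exact Or.inl (hK.cls_map hS hd hy hx hnc)
      · right
        rw [Set.mem_singleton_iff] at hy ⊢
        rw [hy]

/-- **Claim 1.** The group `⟨E_d, E_e, x⟩` modulo `O₂` satisfies the hypotheses of `Gen`, if
`d` lies on a line. -/
theorem gen_red2 (hD : OT D) {d e x a : G} (hd : d ∈ D) (he : e ∈ D) (hde : Commute d e)
    (hx : x ∈ D) (hxd : ¬ Commute x d) (hxe : ¬ Commute x e)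
    (ha : a ∈ D) (had : Commute a d) (hadD : a * d ∈ D)
    {Y : Subgroup G} (hY : Subgroup.closure (Cls D d ∪ Cls D e ∪ {x}) = Y) (hdY : d ∈ Y)
    (heY : e ∈ Y) (hxY : x ∈ Y) :
    Gen (Im (red Y) (Sub D Y)) (red Y ⟨d, hdY⟩) (red Y ⟨x, hxY⟩) ∧
    Eqv (Im (red Y) (Sub D Y)) (red Y ⟨d, hdY⟩) (red Y ⟨e, heY⟩) ∧
    ∃ a' ∈ Cls (Im (red Y) (Sub D Y)) (red Y ⟨d, hdY⟩), a' ≠ red Y ⟨d, hdY⟩ := by
  have hS := sub_ot hD Y
  have hK := red_ker2 Y
  have hnc : ¬ Commute (⟨x, hxY⟩ : ↥Y) ⟨d, hdY⟩ := fun h => hxd (commute_coe.2 h)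
  have hnce : ¬ Commute (⟨x, hxY⟩ : ↥Y) ⟨e, heY⟩ := fun h => hxe (commute_coe.2 h)
  have haC : a ∈ Cls D d := ⟨ha, hD.line_eqv hd ha had.symm (by rw [← had.eq]; exact hadD)⟩
  have haY : a ∈ Y := by
    rw [← hY]; exact Subgroup.subset_closure (Or.inl (Or.inl haC))
  have haC' : (⟨a, haY⟩ : ↥Y) ∈ Cls (Sub D Y) ⟨d, hdY⟩ := cls_sub_of haC
  have hxa : ¬ Commute (⟨x, hxY⟩ : ↥Y) ⟨a, haY⟩ := fun h => hnc ((haC'.2 _ hx).2 h)
  have hadY : (⟨a, haY⟩ : ↥Y) * ⟨d, hdY⟩ ∈ Sub D Y := hadD
  have hadC : Eqv D d (a * d) := haC.2.trans (hD.line_eqv_mul ha hd had hadD)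
  have hxad : ¬ Commute (⟨x, hxY⟩ : ↥Y) (⟨a, haY⟩ * ⟨d, hdY⟩) := by
    intro h
    exact hxd ((hadC x hx).2 (commute_coe.2 h))
  have hmad := hK.map_mem hS hadY hx hxad
  have hma := hK.map_mem hS (show (⟨a, haY⟩ : ↥Y) ∈ Sub D Y from ha) hx hxa
  have hmd := hK.map_mem hS (show (⟨d, hdY⟩ : ↥Y) ∈ Sub D Y from hd) hx hnc
  have hclos : Subgroup.closure (Cls (Im (red Y) (Sub D Y)) (red Y ⟨d, hdY⟩) ∪
      Cls (Im (red Y) (Sub D Y)) (red Y ⟨e, heY⟩) ∪ {red Y ⟨x, hxY⟩}) = ⊤ := by
    refine closure_image (red_surj Y) (closure_sub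
      (T := Cls (Sub D Y) ⟨d, hdY⟩ ∪ Cls (Sub D Y) ⟨e, heY⟩ ∪ {⟨x, hxY⟩}) hY ?_) ?_
    · rintro ⟨y, hyY⟩ ((hy | hy) | hy)
      · exact Or.inl (Or.inl (cls_sub_of hy))
      · exact Or.inl (Or.inr (cls_sub_of hy))
      · right
        rw [Set.mem_singleton_iff] at hy ⊢
        exact Subtype.ext hy
    · rintro y ((hy | hy) | hy)
      · exact Or.inl (Or.inl (hK.cls_map hS hd hy hx hnc))
      · exact Or.inl (Or.inr (hK.cls_map hS he hy hx hnce))
      · right
        rw [Set.mem_singleton_iff] at hy ⊢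
        rw [hy]
  have hncr : ¬ Commute (red Y ⟨x, hxY⟩) (red Y ⟨d, hdY⟩) := by
    rw [hK.commute_iff hS hx hd]; exact hnc
  have heqv : Eqv (Im (red Y) (Sub D Y)) (red Y ⟨d, hdY⟩) (red Y ⟨e, heY⟩) := by
    refine eqv_of_gen2 (im_ot _ hS) (red_o2 Y) hmd
      (hK.map_mem hS (show (⟨e, heY⟩ : ↥Y) ∈ Sub D Y from he) hx hnce) ?_
      (hK.map_mem hS (show (⟨x, hxY⟩ : ↥Y) ∈ Sub D Y from hx) hd (fun h => hnc h.symm))
      hncr hclos hma ?_ ?_
    · rw [hK.commute_iff hS hd he]; exact commute_coe.1 hde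
    · rw [hK.commute_iff hS ha hd]; exact commute_coe.1 had
    · rw [← map_mul]; exact hmad
  refine ⟨⟨im_ot _ hS, hmd, hK.map_mem hS hx hd (fun h => hnc h.symm), hncr, ?_, red_o2 Y⟩, heqv,
    red Y ⟨a, haY⟩, hK.cls_map hS hd haC' hx hnc, ?_⟩
  · rw [eq_top_iff, ← hclos, Subgroup.closure_le]
    rintro y ((hy | hy) | hy)
    · exact Subgroup.subset_closure (Or.inl hy)
    · exact Subgroup.subset_closure (Or.inl ⟨hy.1, heqv.trans hy.2⟩)
    · exact Subgroup.subset_closure (Or.inr hy)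
  · intro h1
    apply hmad.1
    rw [map_mul, h1, ← map_mul]
    have : (⟨d, hdY⟩ : ↥Y) * ⟨d, hdY⟩ = 1 := Subtype.ext (hD.sq d hd)
    rw [this, map_one]

/-- Commuting is transitive on the noncentral members of `⟨E_d, E_e, x⟩`. -/
theorem trans_of_gen2 (hD : OT D) {d e x a : G} (hd : d ∈ D) (he : e ∈ D) (hde : Commute d e)
    (hx : x ∈ D) (hxd : ¬ Commute x d) (hxe : ¬ Commute x e)
    (ha : a ∈ D) (had : Commute a d) (hadD : a * d ∈ D)
    {Y : Subgroup G} (hY : Subgroup.closure (Cls D d ∪ Cls D e ∪ {x}) = Y)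
    {y₁ y₂ y₃ : G} (h1 : y₁ ∈ D) (h1Y : y₁ ∈ Y) (h2 : y₂ ∈ D) (h2Y : y₂ ∈ Y)
    (h3 : y₃ ∈ D) (h3Y : y₃ ∈ Y) (n1 : ∃ z ∈ D, z ∈ Y ∧ ¬ Commute z y₁)
    (n2 : ∃ z ∈ D, z ∈ Y ∧ ¬ Commute z y₂) (n3 : ∃ z ∈ D, z ∈ Y ∧ ¬ Commute z y₃)
    (h12 : Commute y₁ y₂) (h23 : Commute y₂ y₃) : Commute y₁ y₃ := by
  have hdY : d ∈ Y := by
    rw [← hY]; exact Subgroup.subset_closure (Or.inl (Or.inl ⟨hd, Eqv.refl _ _⟩))
  have heY : e ∈ Y := by
    rw [← hY]; exact Subgroup.subset_closure (Or.inl (Or.inr ⟨he, Eqv.refl _ _⟩))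
  have hxY : x ∈ Y := by
    rw [← hY]; exact Subgroup.subset_closure (Or.inr rfl)
  obtain ⟨hg, -, a', ha', hne⟩ := gen_red2 hD hd he hde hx hxd hxe ha had hadD hY hdY heY hxY
  have hS := sub_ot hD Y
  have hK := red_ker2 Y
  have hm : ∀ y (hy : y ∈ D) (hyY : y ∈ Y), (∃ z ∈ D, z ∈ Y ∧ ¬ Commute z y) →
      red Y ⟨y, hyY⟩ ∈ Im (red Y) (Sub D Y) := by
    rintro y hy hyY ⟨z, hz, hzY, hzy⟩
    exact hK.map_mem hS (show (⟨y, hyY⟩ : ↥Y) ∈ Sub D Y from hy)
      (show (⟨z, hzY⟩ : ↥Y) ∈ Sub D Y from hz) (fun h => hzy (commute_coe.2 h))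
  have h5 := hg.trans ha' hne (hm y₁ h1 h1Y n1) (hm y₂ h2 h2Y n2) (hm y₃ h3 h3Y n3)
    ((commute_coe.1 h12 : Commute (⟨y₁, h1Y⟩ : ↥Y) ⟨y₂, h2Y⟩).map _)
    ((commute_coe.1 h23 : Commute (⟨y₂, h2Y⟩ : ↥Y) ⟨y₃, h3Y⟩).map _)
  rw [hK.commute_iff hS h1 h3] at h5
  exact commute_coe.2 h5

/-- **Claim 2.** Noncentral members of `X = ⟨E_d, x⟩` commuting with `d` lie in `E_d`. -/
theorem mem_cls_of_commute [Finite G] (hD : OT D)
    (hconj : ∀ y ∈ D, ∀ g : G, g * y * g⁻¹ ∈ D)
    {d x a c : G} (hd : d ∈ D)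
    (hx : x ∈ D) (hxd : ¬ Commute x d) (ha : a ∈ D) (had : Commute a d) (hadD : a * d ∈ D)
    (hcl : ∃ g : G, g * d * g⁻¹ = c)
    (hc : c ∈ D) (hcX : c ∈ Subgroup.closure (Cls D d ∪ {x})) (hcd : Commute c d)
    (hcn : ∃ z ∈ D, z ∈ Subgroup.closure (Cls D d ∪ {x}) ∧ ¬ Commute z c) : c ∈ Cls D d := by
  by_contra hcon
  -- there is `y ∈ D` commuting with `d`, but not with `c`
  obtain ⟨y, hy, hyd, hyc⟩ : ∃ y ∈ D, Commute y d ∧ ¬ Commute y c := by
    by_contra hno
    push Not at hno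
    have hsub : {y | y ∈ D ∧ Commute y d} ⊆ {y | y ∈ D ∧ Commute y c} :=
      fun y hy => ⟨hy.1, hno y hy.1 hy.2⟩
    obtain ⟨g, hg⟩ := hcl
    have hcard : ({y | y ∈ D ∧ Commute y c} : Set G).ncard ≤ ({y | y ∈ D ∧ Commute y d} : Set G).ncard := by
      refine Set.ncard_le_ncard_of_injOn (fun y => g⁻¹ * y * g) ?_ ?_ (Set.toFinite _)
      · rintro y ⟨hy, hyc⟩
        refine ⟨?_, ?_⟩
        · have := hconj y hy g⁻¹
          rwa [inv_inv] at this
        · rw [← hg] at hyc
          show g⁻¹ * y * g * d = d * (g⁻¹ * y * g)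
          calc g⁻¹ * y * g * d = g⁻¹ * (y * (g * d * g⁻¹)) * g := by group
            _ = g⁻¹ * ((g * d * g⁻¹) * y) * g := by rw [hyc.eq]
            _ = _ := by group
      · intro y₁ _ y₂ _ h
        have := congrArg (fun z => g * z * g⁻¹) h
        simpa only [mul_assoc, _root_.mul_inv_cancel_left, _root_.mul_inv_cancel, _root_.mul_one] using this
    have heq := Set.eq_of_subset_of_ncard_le hsub hcard (Set.toFinite _)
    apply hcon
    refine ⟨hc, fun y hy => ?_⟩
    have := congrArg (fun s => y ∈ s) heq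
    simp only [Set.mem_setOf_eq, hy, true_and, eq_iff_iff] at this
    exact this
  have hyx : ¬ Commute x y := by
    intro hyx
    apply hyc
    -- `y` centralizes `X`
    have hall : ∀ g ∈ Subgroup.closure (Cls D d ∪ {x}), Commute y g := by
      intro g hg
      induction hg using Subgroup.closure_induction with
      | mem z hz =>
        rcases hz with hz | hz
        · exact (hz.2 y hy).1 hyd
        · rw [Set.mem_singleton_iff.1 hz]; exact hyx.symm
      | one => exact Commute.one_right _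
      | mul a b _ _ ha hb => exact ha.mul_right hb
      | inv a _ ha => exact ha.inv_right
    exact hall c hcX
  have hsub : Subgroup.closure (Cls D d ∪ {x}) ≤ Subgroup.closure (Cls D d ∪ Cls D y ∪ {x}) := by
    apply Subgroup.closure_mono
    rintro z (hz | hz)
    · exact Or.inl (Or.inl hz)
    · exact Or.inr hz
  obtain ⟨z, hz, hzX, hzc⟩ := hcn
  have hxX : x ∈ Subgroup.closure (Cls D d ∪ Cls D y ∪ {x}) :=
    Subgroup.subset_closure (Or.inr rfl)
  have h5 : Commute c y := by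
    refine trans_of_gen2 hD hd hy hyd.symm hx hxd hyx ha had hadD rfl hc (hsub hcX) hd
      (hsub (Subgroup.subset_closure (Or.inl ⟨hd, Eqv.refl _ _⟩))) hy
      (Subgroup.subset_closure (Or.inl (Or.inr ⟨hy, Eqv.refl _ _⟩))) ⟨z, hz, hsub hzX, hzc⟩
      ⟨x, hx, hxX, hxd⟩ ⟨x, hx, hxX, hyx⟩ hcd hyd.symm
  exact hyc h5.symm

end Sub

end Cfsg.Agent.H738
end

-- part: H738/GTrick
section
/-!
# Rank one groups: a common involution; conjugacy of fibres

* `R1 K`: the properties of `L₂(2ⁿ)`, `Sz(2ⁿ)` used: one class of involutions, Sylow 2-subgroups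
  are TI, act transitively on the other Sylow 2-subgroups, and their involutions commute.
* `R1.common_involution`: two `R1`-subgroups `K₁`, `K₂` of an `R1`-group, both containing the
  involution `d`, and containing commuting involutions `a₁`, `a₂` not commuting with `d`, have a
  common involution commuting with `a₁` and `a₂`.
* `exists_conj_fibre`: members of `D` congruent modulo a normal 2-subgroup, and not commuting with
  `d`, are conjugate under `C(d)`.
-/

set_option autoImplicit false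

namespace Cfsg.Agent.H738

open Cfsg.Agent.H737

/-- Properties of the groups `L₂(q)`, `Sz(q)`, `q > 2` even. -/
structure R1 (K : Type*) [Group K] : Prop where
  conj : ∀ s t : K, s * s = 1 → s ≠ 1 → t * t = 1 → t ≠ 1 → ∃ g : K, g * s * g⁻¹ = t
  trans : ∀ P Q R : Sylow 2 K, Q ≠ P → R ≠ P → ∃ g ∈ P, ∀ y ∈ Q, g * y * g⁻¹ ∈ R
  ti : ∀ P Q : Sylow 2 K, ∀ y : K, y ∈ P → y ∈ Q → y ≠ 1 → P = Q
  comm : ∀ P : Sylow 2 K, ∀ s ∈ P, ∀ t ∈ P, s * s = 1 → t * t = 1 → Commute s t

section

variable {K : Type*} [Group K]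

/-- An involution normalizing a Sylow 2-subgroup lies in it. -/
theorem mem_sylow_of_normalizes (P : Sylow 2 K) {d : K} (hd : d * d = 1)
    (h : ∀ y ∈ P, d * y * d⁻¹ ∈ P) : d ∈ P := by
  have hP2 : IsPGroup 2 (Subgroup.zpowers d) := by
    rintro ⟨x, hx⟩
    obtain ⟨n, rfl⟩ := Subgroup.mem_zpowers_iff.1 hx
    refine ⟨1, Subtype.ext ?_⟩
    have h1 : (d ^ n) ^ 2 = 1 := by
      rw [pow_two, ← zpow_add, ← two_mul, zpow_mul]
      norm_cast
      rw [pow_two, hd, one_zpow]
    simpa only [_root_.pow_one, _root_.SubmonoidClass.mk_pow, _root_.OneMemClass.coe_one] using h1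
  have hdinv : d⁻¹ = d := inv_of_sq hd
  have hn : Subgroup.zpowers d ≤ Subgroup.normalizer ((P : Subgroup K) : Set K) := by
    rw [Subgroup.zpowers_le, Subgroup.mem_normalizer_iff]
    intro y
    refine ⟨fun hy => h y hy, fun hy => ?_⟩
    have h1 := h _ hy
    rw [hdinv] at h1
    have h2 : d * (d * y * d) * d = y := conj_conj_of_sq hd
    rwa [h2] at h1
  have h3 : IsPGroup 2 ((P : Subgroup K) ⊔ Subgroup.zpowers d : Subgroup K) :=
    IsPGroup.to_sup_of_normal_left' P.isPGroup' hP2 hn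
  have h4 := P.is_maximal' h3 le_sup_left
  have h5 : d ∈ ((P : Subgroup K) ⊔ Subgroup.zpowers d : Subgroup K) :=
    Subgroup.mem_sup_right (Subgroup.mem_zpowers d)
  rw [h4] at h5
  exact h5

/-- Every involution lies in a Sylow 2-subgroup. -/
theorem exists_sylow {d : K} (hd : d * d = 1) : ∃ P : Sylow 2 K, d ∈ P := by
  have : Fact (Nat.Prime 2) := ⟨Nat.prime_two⟩
  have hP2 : IsPGroup 2 (Subgroup.closure {d} : Subgroup K) := by
    apply isPGroup_of_commuting
    · intro s hs; rw [Set.mem_singleton_iff.1 hs]; exact hd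
    · intro s hs t ht
      rw [Set.mem_singleton_iff.1 hs, Set.mem_singleton_iff.1 ht]
  obtain ⟨P, hP⟩ := hP2.exists_le_sylow
  exact ⟨P, hP (Subgroup.subset_closure rfl)⟩

theorem exists_sylow_pair {a b : K} (ha : a * a = 1) (hb : b * b = 1) (hab : Commute a b) :
    ∃ P : Sylow 2 K, a ∈ P ∧ b ∈ P := by
  have : Fact (Nat.Prime 2) := ⟨Nat.prime_two⟩
  have hP2 : IsPGroup 2 (Subgroup.closure {a, b} : Subgroup K) := by
    apply isPGroup_of_commuting
    · rintro s (rfl | hs)
      · exact ha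
      · rw [Set.mem_singleton_iff.1 hs]; exact hb
    · rintro s (rfl | hs) t (rfl | ht)
      · exact Commute.refl _
      · rw [Set.mem_singleton_iff.1 ht]; exact hab
      · rw [Set.mem_singleton_iff.1 hs]; exact hab.symm
      · rw [Set.mem_singleton_iff.1 hs, Set.mem_singleton_iff.1 ht]
  obtain ⟨P, hP⟩ := hP2.exists_le_sylow
  exact ⟨P, hP (Subgroup.subset_closure (by simp)), hP (Subgroup.subset_closure (by simp))⟩

/-- A 2-subgroup sharing a nontrivial element with a Sylow 2-subgroup is contained in it. -/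
theorem R1.le_of_mem (h : R1 K) (P : Sylow 2 K) {S : Subgroup K} (hS : IsPGroup 2 S) {y : K}
    (hy : y ∈ S) (hyP : y ∈ P) (hy1 : y ≠ 1) : S ≤ P := by
  have : Fact (Nat.Prime 2) := ⟨Nat.prime_two⟩
  obtain ⟨Q, hQ⟩ := hS.exists_le_sylow
  rw [h.ti P Q y hyP (hQ hy) hy1]
  exact hQ

variable [Finite K]

/-- The Sylow subgroup `d P d`. -/
theorem exists_conj_sylow (P : Sylow 2 K) (g : K) : ∃ Q : Sylow 2 K, ∀ y, y ∈ Q ↔ g⁻¹ * y * g ∈ P := by
  refine ⟨g • P, fun y => ?_⟩
  rw [← SetLike.mem_coe, Sylow.coe_smul, Set.mem_smul_set_iff_inv_smul_mem]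
  simp only [← map_inv, MulAut.smul_def, mul_assoc, ← _root_.map_inv, _root_.MulAut.smul_def, _root_.MulAut.conj_apply, _root_.inv_inv, _root_.mul_assoc, _root_.SetLike.mem_coe]

theorem R1.core (h : R1 K) {P P' : Sylow 2 K} (hne : P' ≠ P) {d : K} (hd : d * d = 1)
    {g k : K} (hg : g ∈ P) (hk : k ∈ P)
    (hg' : ∃ y ∈ P', y ≠ 1 ∧ d * (g * y * g⁻¹) * d ∈ P)
    (hk' : ∃ y ∈ P', y ≠ 1 ∧ d * (k * y * k⁻¹) * d ∈ P) : g = k := by
  have hdinv : d⁻¹ = d := inv_of_sq hd
  -- both `g P' g⁻¹` and `k P' k⁻¹` are `d P d`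
  obtain ⟨R, hR⟩ := exists_conj_sylow P d
  have key : ∀ c : K, c ∈ P → (∃ y ∈ P', y ≠ 1 ∧ d * (c * y * c⁻¹) * d ∈ P) →
      ∀ y, y ∈ R ↔ c⁻¹ * y * c ∈ P' := by
    intro c hc hy
    obtain ⟨y, hy, hy1, hyd⟩ := hy
    obtain ⟨T, hT⟩ := exists_conj_sylow P' c
    have h1 : T = R := by
      refine h.ti T R (c * y * c⁻¹) ?_ ?_ ?_
      · rw [hT]
        have : c⁻¹ * (c * y * c⁻¹) * c = y := by group
        rwa [this]
      · rw [hR, hdinv]; exact hyd
      · intro h2
        apply hy1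
        have : y = c⁻¹ * (c * y * c⁻¹) * c := by group
        rw [this, h2]; group
    intro z
    rw [← h1, hT]
  have hg2 := key g hg hg'
  have hk2 := key k hk hk'
  -- `k⁻¹ g` normalizes `P'`
  by_contra hgk
  have h3 : ∀ y ∈ P', (k⁻¹ * g) * y * (k⁻¹ * g)⁻¹ ∈ P' := by
    intro y hy
    have h4 : g * y * g⁻¹ ∈ R := by
      rw [hg2]
      have : g⁻¹ * (g * y * g⁻¹) * g = y := by group
      rwa [this]
    rw [hk2] at h4
    have : k⁻¹ * g * y * (k⁻¹ * g)⁻¹ = k⁻¹ * (g * y * g⁻¹) * k := by group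
    rwa [this]
  have h5 : k⁻¹ * g ∈ P := mul_mem (inv_mem hk) hg
  -- hence it lies in `P'`
  have h6 : k⁻¹ * g ∈ P' := by
    have hz : IsPGroup 2 (Subgroup.zpowers (k⁻¹ * g)) :=
      P.isPGroup'.to_le (by rw [Subgroup.zpowers_le]; exact h5)
    have hn : Subgroup.zpowers (k⁻¹ * g) ≤ Subgroup.normalizer ((P' : Subgroup K) : Set K) := by
      rw [Subgroup.zpowers_le, Subgroup.mem_normalizer_iff]
      intro y
      refine ⟨fun hy => h3 y hy, fun hy => ?_⟩
      -- finite order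
      have h7 : ∀ n : ℕ, ∀ z ∈ P', (k⁻¹ * g) ^ n * z * ((k⁻¹ * g) ^ n)⁻¹ ∈ P' := by
        intro n
        induction n with
        | zero => intro z hz; simpa using hz
        | succ n ih =>
          intro z hz
          have h8 := ih _ (h3 z hz)
          have : (k⁻¹ * g) ^ (n + 1) * z * ((k⁻¹ * g) ^ (n + 1))⁻¹ =
            (k⁻¹ * g) ^ n * (k⁻¹ * g * z * (k⁻¹ * g)⁻¹) * ((k⁻¹ * g) ^ n)⁻¹ := by
              rw [pow_succ]; group
          rwa [this]
      have h9 := h7 (orderOf (k⁻¹ * g) - 1) _ hy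
      have ho : 0 < orderOf (k⁻¹ * g) := orderOf_pos _
      have h10 : (k⁻¹ * g) ^ (orderOf (k⁻¹ * g) - 1) = (k⁻¹ * g)⁻¹ := by
        rw [eq_inv_iff_mul_eq_one, ← pow_succ, Nat.sub_add_cancel ho, pow_orderOf_eq_one]
      rw [h10] at h9
      have : (k⁻¹ * g)⁻¹ * (k⁻¹ * g * y * (k⁻¹ * g)⁻¹) * ((k⁻¹ * g)⁻¹)⁻¹ = y := by group
      rwa [this] at h9
    have h11 : IsPGroup 2 ((P' : Subgroup K) ⊔ Subgroup.zpowers (k⁻¹ * g) : Subgroup K) :=
      IsPGroup.to_sup_of_normal_left' P'.isPGroup' hz hn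
    have h12 := P'.is_maximal' h11 le_sup_left
    have h13 : k⁻¹ * g ∈ ((P' : Subgroup K) ⊔ Subgroup.zpowers (k⁻¹ * g) : Subgroup K) :=
      Subgroup.mem_sup_right (Subgroup.mem_zpowers _)
    rw [h12] at h13
    exact h13
  apply hne
  refine h.ti P' P _ h6 h5 ?_
  intro h7
  apply hgk
  calc g = k * (k⁻¹ * g) := by group
    _ = k := by rw [h7, mul_one]

/-- The element `g₁` of a rank one subgroup. -/
theorem R1.exists_g (h : R1 K) {P P' : Sylow 2 K} {d a : K} (hd : d * d = 1) (hd1 : d ≠ 1)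
    (ha : a * a = 1) (ha1 : a ≠ 1) (hdP' : d ∈ P') (haP : a ∈ P) (hda : ¬ Commute d a)
    {K₁ : Subgroup K} (h₁ : R1 ↥K₁) (hdK : d ∈ K₁) (haK : a ∈ K₁) :
    ∃ g ∈ P, g ∈ K₁ ∧ g ≠ 1 ∧ ∃ y ∈ P', y ≠ 1 ∧ d * (g * y * g⁻¹) * d ∈ P := by
  have hdinv : d⁻¹ = d := inv_of_sq hd
  obtain ⟨P₁, hP₁⟩ := exists_sylow (K := ↥K₁) (d := ⟨a, haK⟩) (Subtype.ext ha)
  obtain ⟨P₁', hP₁'⟩ := exists_sylow (K := ↥K₁) (d := ⟨d, hdK⟩) (Subtype.ext hd)
  have hle : ∀ (S : Sylow 2 ↥K₁) (T : Sylow 2 K) (y : ↥K₁), y ∈ S → (y : K) ∈ T → y ≠ 1 →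
      ∀ z ∈ S, (z : K) ∈ T := by
    intro S T y hy hyT hy1 z hz
    refine h.le_of_mem T (S := (S : Subgroup ↥K₁).map K₁.subtype) ?_ (y := y) ?_ hyT ?_ ?_
    · exact S.isPGroup'.map _
    · exact Subgroup.mem_map_of_mem _ hy
    · intro h1; exact hy1 (Subtype.ext h1)
    · exact Subgroup.mem_map_of_mem K₁.subtype hz
  have hP : ∀ z ∈ P₁, (z : K) ∈ P :=
    hle P₁ P ⟨a, haK⟩ hP₁ haP (fun h1 => ha1 (congrArg Subtype.val h1))
  have hP' : ∀ z ∈ P₁', (z : K) ∈ P' :=
    hle P₁' P' ⟨d, hdK⟩ hP₁' hdP' (fun h1 => hd1 (congrArg Subtype.val h1))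
  have hne : P₁' ≠ P₁ := by
    intro h1
    rw [h1] at hP₁'
    apply hda
    exact commute_coe.2 (h₁.comm P₁ ⟨d, hdK⟩ hP₁' ⟨a, haK⟩ hP₁ (Subtype.ext hd) (Subtype.ext ha))
  obtain ⟨R, hR⟩ := exists_conj_sylow P₁ (⟨d, hdK⟩ : ↥K₁)
  have hdd : (⟨d, hdK⟩ : ↥K₁)⁻¹ = ⟨d, hdK⟩ := Subtype.ext hdinv
  have hRne : R ≠ P₁ := by
    intro h1
    have h2 : (⟨d, hdK⟩ : ↥K₁) ∈ P₁ := by
      apply mem_sylow_of_normalizes P₁ (Subtype.ext hd)
      intro y hy
      rw [← h1, hR] at hy
      rw [hdd] at hy ⊢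
      exact hy
    have h3 := hP _ h2
    apply hda
    exact h.comm P d h3 a haP hd ha
  obtain ⟨g, hg, hgy⟩ := h₁.trans P₁ P₁' R hne hRne
  refine ⟨g, hP g hg, g.2, ?_, d, hdP', hd1, ?_⟩
  · intro h1
    have h1' : g = 1 := Subtype.ext h1
    have h2 := hgy ⟨d, hdK⟩ hP₁'
    rw [h1', hR] at h2
    have h3 : (⟨d, hdK⟩ : ↥K₁)⁻¹ * (1 * ⟨d, hdK⟩ * 1⁻¹) * ⟨d, hdK⟩ = ⟨d, hdK⟩ := by group
    rw [h3] at h2
    apply hda
    exact h.comm P d (hP _ h2) a haP hd ha
  · have h2 := hgy ⟨d, hdK⟩ hP₁'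
    rw [hR, hdd] at h2
    exact hP _ h2

/-- **The common involution.** -/
theorem R1.common_involution (h : R1 K) {K₁ K₂ : Subgroup K} (h₁ : R1 ↥K₁) (h₂ : R1 ↥K₂)
    {d a₁ a₂ : K} (hd : d * d = 1) (hd1 : d ≠ 1) (ha₁ : a₁ * a₁ = 1) (ha₁1 : a₁ ≠ 1)
    (ha₂ : a₂ * a₂ = 1) (ha₂1 : a₂ ≠ 1) (h12 : Commute a₁ a₂) (hda₁ : ¬ Commute d a₁)
    (hda₂ : ¬ Commute d a₂) (hd₁ : d ∈ K₁) (hd₂ : d ∈ K₂) (hK₁ : a₁ ∈ K₁) (hK₂ : a₂ ∈ K₂) :
    ∃ i ∈ K₁, i ∈ K₂ ∧ i * i = 1 ∧ i ≠ 1 ∧ Commute i a₁ ∧ Commute i a₂ := by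
  obtain ⟨P, hP₁, hP₂⟩ := exists_sylow_pair ha₁ ha₂ h12
  obtain ⟨P', hP'⟩ := exists_sylow hd
  have hne : P' ≠ P := by
    intro h1
    rw [h1] at hP'
    exact hda₁ (h.comm P d hP' a₁ hP₁ hd ha₁)
  obtain ⟨g, hg, hgK, hg1, hgy⟩ := h.exists_g hd hd1 ha₁ ha₁1 hP' hP₁ hda₁ h₁ hd₁ hK₁
  obtain ⟨k, hk, hkK, -, hky⟩ := h.exists_g hd hd1 ha₂ ha₂1 hP' hP₂ hda₂ h₂ hd₂ hK₂
  have hgk := h.core hne hd hg hk hgy hky
  subst hgk
  -- a power of `g` is an involution
  obtain ⟨m, hm⟩ := (P.isPGroup' ⟨g, hg⟩)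
  have hm' : g ^ 2 ^ m = 1 := by
    have := congrArg Subtype.val hm
    simpa only [_root_.SubmonoidClass.mk_pow, _root_.OneMemClass.coe_one] using this
  have hex : ∃ n : ℕ, g ^ 2 ^ n = 1 := ⟨m, hm'⟩
  classical
  obtain ⟨n, hn, hmin⟩ : ∃ n : ℕ, g ^ 2 ^ n = 1 ∧ ∀ l < n, g ^ 2 ^ l ≠ 1 :=
    ⟨Nat.find hex, Nat.find_spec hex, fun l hl => Nat.find_min hex hl⟩
  have hn0 : n ≠ 0 := by
    rintro rfl
    simp at hn
    exact hg1 hn
  obtain ⟨l, rfl⟩ := Nat.exists_eq_succ_of_ne_zero hn0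
  have hi : g ^ 2 ^ l * g ^ 2 ^ l = 1 := by
    rw [← pow_add, ← two_mul, ← pow_succ']; exact hn
  refine ⟨g ^ 2 ^ l, pow_mem hgK _, pow_mem hkK _, hi, hmin l (Nat.lt_succ_self l), ?_, ?_⟩
  · exact h.comm P _ (pow_mem hg _) a₁ hP₁ hi ha₁
  · exact h.comm P _ (pow_mem hg _) a₂ hP₂ hi ha₂

/-- A subgroup of an `R1`-group containing two noncommuting involutions has no normal
2-subgroup. -/
theorem R1.o2 (h : R1 K) {K₁ : Subgroup K} {a d : K} (ha : a * a = 1) (hd : d * d = 1)
    (haK : a ∈ K₁) (hdK : d ∈ K₁) (hda : ¬ Commute d a) (N : Subgroup ↥K₁) (hN : N.Normal)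
    (hP : IsPGroup 2 N) : N = ⊥ := by
  have : Fact (Nat.Prime 2) := ⟨Nat.prime_two⟩
  by_contra hne
  obtain ⟨y, hyN, hy1⟩ := N.bot_or_exists_ne_one.resolve_left hne
  obtain ⟨P, hPN⟩ := (hP.map K₁.subtype).exists_le_sylow
  have hyP : ∀ z ∈ N, (z : K) ∈ P := fun z hz => hPN (Subgroup.mem_map_of_mem K₁.subtype hz)
  have key : ∀ c : K, c * c = 1 → c ∈ K₁ → c ∈ P := by
    intro c hc hcK
    obtain ⟨Q, hQ⟩ := exists_conj_sylow P c
    have h1 : Q = P := by
      refine h.ti Q P (y : K) ?_ (hyP y hyN) (fun h1 => hy1 (Subtype.ext h1))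
      rw [hQ]
      have h2 := hN.conj_mem y hyN (⟨c, hcK⟩⁻¹)
      rw [inv_inv] at h2
      exact hyP _ h2
    refine mem_sylow_of_normalizes P hc ?_
    intro z hz
    rw [← h1, hQ] at hz
    rw [inv_of_sq hc] at hz ⊢
    exact hz
  exact hda (h.comm P d (key d hd hdK) a (key a ha haK) hd ha)

end

/-! ### Fibres -/

section Fibre

variable {G : Type*} [Group G] {D : Set G}

/-- **Claim A.** Members of `D` congruent modulo a normal 2-subgroup and not commuting with `d`
are conjugate under the centralizer of `d`. -/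
theorem exists_conj_fibre [Finite G] (hD : OT D) (hconj : ∀ y ∈ D, ∀ g : G, g * y * g⁻¹ ∈ D)
    {Q : Subgroup G} [Q.Normal] (hQ : IsPGroup 2 Q) {d f₁ f₂ : G} (hd : d ∈ D) (h1 : f₁ ∈ D)
    (h2 : f₂ ∈ D) (hn : ¬ Commute d f₁) (hq : f₁ * f₂ ∈ Q) :
    ∃ p : G, Commute p d ∧ p * f₁ * p⁻¹ = f₂ := by
  have hK := ker2_mk Q hQ
  have hdd := hD.sq d hd
  have h11 := hD.sq f₁ h1
  have h22 := hD.sq f₂ h2
  have hm12 : QuotientGroup.mk' Q f₁ = QuotientGroup.mk' Q f₂ := by
    have h3 : QuotientGroup.mk' Q (f₁ * f₂) = 1 := (QuotientGroup.eq_one_iff _).2 hq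
    have h4 : QuotientGroup.mk' Q (f₂ * f₂) = 1 := by rw [h22, map_one]
    rw [map_mul] at h3 h4
    calc QuotientGroup.mk' Q f₁ = QuotientGroup.mk' Q f₁ * (QuotientGroup.mk' Q f₂ *
          QuotientGroup.mk' Q f₂) := by rw [h4, mul_one]
      _ = QuotientGroup.mk' Q f₂ := by rw [← mul_assoc, h3, one_mul]
  have hn2 : ¬ Commute d f₂ := by
    rw [← hK.commute_iff hD hd h2, ← hm12, hK.commute_iff hD hd h1]
    exact hn
  have hu := hD.odd_of hd h1 hn
  have hw := hD.odd_of hd h2 hn2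
  have hcardQ : ∃ k, Nat.card Q = 2 ^ k := by
    have : Fact (Nat.Prime 2) := ⟨Nat.prime_two⟩
    exact (IsPGroup.iff_card).1 hQ
  obtain ⟨k, hk⟩ := hcardQ
  have hcop : ∀ g : G, Odd (orderOf g) → (orderOf g).Coprime (Nat.card Q) := by
    intro g hg
    rw [hk]
    exact Nat.Coprime.pow_right _ hg.coprime_two_right
  obtain ⟨p, hp, hpc⟩ := H466.RealLift.exists_conj_of_coset Q (hcop _ hu) (hcop _ hw) (by
    have : (d * f₁)⁻¹ * (d * f₂) = f₁ * f₂ := by
      rw [mul_inv_rev, hD.inv h1, hD.inv hd]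
      calc f₁ * d * (d * f₂) = f₁ * (d * d) * f₂ := by group
        _ = f₁ * f₂ := by rw [hdd, mul_one]
    rwa [this])
  -- `d' = p d p⁻¹`
  set! d' : G := p * d * p⁻¹ with hd'
  have hd'D : d' ∈ D := hconj d hd p
  have hmp : QuotientGroup.mk' Q p = 1 := (QuotientGroup.eq_one_iff _).2 hp
  have hmd : QuotientGroup.mk' Q d' = QuotientGroup.mk' Q d := by
    rw [hd', map_mul, map_mul, map_inv, hmp]; group
  have hcomm : Commute d d' := by
    rw [← hK.commute_iff hD hd hd'D, hmd]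
  set w : G := d * f₂ with hwdef
  have hdw : d * w * d = w⁻¹ := by
    rw [hwdef, mul_inv_rev, hD.inv h2, hD.inv hd]
    calc d * (d * f₂) * d = (d * d) * f₂ * d := by group
      _ = f₂ * d := by rw [hdd, one_mul]
  have hd'w : d' * w * d' = w⁻¹ := by
    rw [← hpc, hd']
    have e1 : p * d * p⁻¹ * (p * (d * f₁) * p⁻¹) * (p * d * p⁻¹) = p * (d * (d * f₁) * d) * p⁻¹ := by
      group
    rw [e1]
    have e2 : d * (d * f₁) * d = (d * f₁)⁻¹ := by
      rw [mul_inv_rev, hD.inv h1, hD.inv hd]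
      calc d * (d * f₁) * d = (d * d) * f₁ * d := by group
        _ = f₁ * d := by rw [hdd, one_mul]
    rw [e2]; group
  have heq : d = d' := by
    by_contra hne
    apply hn2
    have hd'd' := hD.sq d' hd'D
    have hcw : Commute (d * d') w := by
      show d * d' * w = w * (d * d')
      calc d * d' * w = d * (d' * w * d') * d' := by
            calc d * d' * w = d * d' * w * (d' * d') := by rw [hd'd', mul_one]
              _ = _ := by group
        _ = d * (d * w * d) * d' := by rw [hd'w, hdw]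
        _ = (d * d) * w * (d * d') := by group
        _ = w * (d * d') := by rw [hdd, one_mul]
    have hf2 : f₂ = d * w := by rw [hwdef, ← mul_assoc, hdd, one_mul]
    have hcf : Commute f₂ (d * d') := by
      rw [hf2]
      exact ((Commute.refl d).mul_right hcomm).mul_left hcw.symm
    exact (hD.commute_of_commute_mul hd hd'D hcomm hne h2 hcf).symm
  have hpd : Commute p d := by
    show p * d = d * p
    calc p * d = d' * p := by rw [hd']; group
      _ = d * p := by rw [← heq]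
  refine ⟨p, hpd, ?_⟩
  have hf1 : f₁ = d * (d * f₁) := by rw [← mul_assoc, hdd, one_mul]
  calc p * f₁ * p⁻¹ = (p * d * p⁻¹) * (p * (d * f₁) * p⁻¹) := by
        rw [hf1]
        calc p * (d * (d * f₁)) * p⁻¹ = p * d * (p⁻¹ * p) * (d * f₁) * p⁻¹ := by group
          _ = (p * d * p⁻¹) * (p * (d * f₁) * p⁻¹) := by group
          _ = (p * d * p⁻¹) * (p * (d * (d * (d * f₁))) * p⁻¹) := by rw [← hf1]
    _ = d' * w := by rw [hpc]
    _ = d * w := by rw [← heq]
    _ = f₂ := by rw [hwdef, ← mul_assoc, hdd, one_mul]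

end Fibre

end Cfsg.Agent.H738
end

-- part: H738/Pair
section
/-!
# Odd transpositions: noncommuting pairs have a common neighbour (modulo the rank one theorem)

`exists_common`: `D` a class of odd transpositions of the finite group `G`, commuting graph
connected, containing a line.  For all `d, x ∈ D` some member of `D` commutes with both.  The
hypothesis `hR` is the rank one theorem (consequence of S5044).
-/

set_option autoImplicit false

universe u

namespace Cfsg.Agent.H738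

open Cfsg.Agent.H737

/-- The consequence of the rank one theorem used here. -/
def RankOneR1 : Prop :=
  ∀ (K : Type u) [Group K] [Finite K] (D : Set K) (d x a : K), Gen D d x → a ∈ Cls D d → a ≠ d → R1 K

variable {G : Type u} [Group G] [Finite G] {D : Set G}

/-- A pair `d, x` without common neighbour, `f` commuting with `x`, not with `d`, and `w` commuting
with `f` and `d`, is impossible. -/
theorem common_core (hR : RankOneR1.{u}) (hD : OT D) (hconj : ∀ y ∈ D, ∀ g : G, g * y * g⁻¹ ∈ D)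
    (hcl : ∀ y ∈ D, ∀ z ∈ D, ∃ g : G, g * y * g⁻¹ = z)
    (hline : ∀ y ∈ D, ∃ a ∈ D, Commute a y ∧ a * y ∈ D)
    {d x f w : G} (hd : d ∈ D) (hx : x ∈ D) (hf : f ∈ D) (hw : w ∈ D)
    (hno : ∀ e ∈ D, Commute e d → ¬ Commute e x)
    (hfx : Commute f x) (hwf : Commute w f) (hwd : Commute w d) : False := by
  have hxd : ¬ Commute d x := fun h => hno d hd (Commute.refl d) h
  have hfd : ¬ Commute d f := fun h => hno f hf h.symm hfx
  obtain ⟨a, ha, hax, haxD⟩ := hline x hx
  obtain ⟨b, hb, hbf, hbfD⟩ := hline f hf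
  -- `Y = ⟨E_x, E_f, d⟩`
  obtain ⟨Y, hY⟩ : ∃ Y : Subgroup G, Y = Subgroup.closure (Cls D x ∪ Cls D f ∪ {d}) := ⟨_, rfl⟩
  have hYm : ∀ z ∈ Cls D x ∪ Cls D f ∪ {d}, z ∈ Y := fun z hz => by rw [hY]; exact Subgroup.subset_closure hz
  have hxY : x ∈ Y := hYm _ (Or.inl (Or.inl ⟨hx, Eqv.refl _ _⟩))
  have hfY : f ∈ Y := hYm _ (Or.inl (Or.inr ⟨hf, Eqv.refl _ _⟩))
  have hdY : d ∈ Y := hYm _ (Or.inr rfl)
  obtain ⟨hg, heqv, a', ha', hne⟩ := gen_red2 hD hx hf hfx.symm hd hxd hfd ha hax haxD hY.symm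
    hxY hfY hdY
  have hK : R1 (↥Y ⧸ pCore 2 ↥Y) := hR _ _ _ _ _ hg ha' hne
  have hS := sub_ot hD Y
  have hker := red_ker2 Y
  have hom := im_ot (red Y) hS
  -- the subgroups `⟨E_x, d⟩` and `⟨E_f, d⟩` of `Y / O₂(Y)`
  have main : ∀ (y : G) (hyY : y ∈ Y), y ∈ D → ¬ Commute d y → (∀ e ∈ Cls D y, e ∈ Y) →
      ∃ K₁ : Subgroup (↥Y ⧸ pCore 2 ↥Y), R1 ↥K₁ ∧ red Y ⟨d, hdY⟩ ∈ K₁ ∧ red Y ⟨y, hyY⟩ ∈ K₁ ∧
        ∀ i ∈ K₁, i * i = 1 → i ≠ 1 → Commute i (red Y ⟨y, hyY⟩) →
          ∃ c, ∃ hcY : c ∈ Y, c ∈ Cls D y ∧ red Y ⟨c, hcY⟩ = i := by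
    intro y hyY hy hyd hsub
    obtain ⟨X, hX⟩ : ∃ X : Subgroup G, X = Subgroup.closure (Cls D y ∪ {d}) := ⟨_, rfl⟩
    have hXm : ∀ z ∈ Cls D y ∪ {d}, z ∈ X := fun z hz => by rw [hX]; exact Subgroup.subset_closure hz
    have hXY : X ≤ Y := by
      rw [hX, Subgroup.closure_le]
      rintro z (hz | hz)
      · exact hsub z hz
      · rw [Set.mem_singleton_iff.1 hz]; exact hdY
    have hdX : d ∈ X := hXm _ (Or.inr rfl)
    have hyX : y ∈ X := hXm _ (Or.inl ⟨hy, Eqv.refl _ _⟩)
    -- the image of `X`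
    set! ι : ↥X →* (↥Y ⧸ pCore 2 ↥Y) := (red Y).comp (Subgroup.inclusion hXY) with hι
    set! f₁ : ↥X →* ↥ι.range := ι.rangeRestrict with hf₁
    have hf₁s : Function.Surjective f₁ := MonoidHom.rangeRestrict_surjective ι
    have hval : ∀ z : ↥X, ((f₁ z : ↥ι.range) : ↥Y ⧸ pCore 2 ↥Y) = red Y ⟨z, hXY z.2⟩ := fun z => rfl
    have hker₁ : Ker2 f₁ := by
      intro z hz
      have h1 : red Y ⟨z, hXY z.2⟩ = 1 := by rw [← hval, hz]; rfl
      obtain ⟨k, hk⟩ := hker _ h1
      refine ⟨k, Subtype.ext ?_⟩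
      have := congrArg Subtype.val hk
      simpa only [_root_.SubmonoidClass.coe_pow, _root_.OneMemClass.coe_one, _root_.SubmonoidClass.mk_pow] using this
    have hSX := sub_ot hD X
    have hncX : ¬ Commute (⟨d, hdX⟩ : ↥X) ⟨y, hyX⟩ := fun h => hyd (commute_coe.2 h)
    have hyK : ¬ Commute (red Y ⟨d, hdY⟩) (red Y ⟨y, hyY⟩) := by
      rw [hker.commute_iff hS hd hy]
      exact fun h => hyd (commute_coe.2 h)
    have hsqd : red Y ⟨d, hdY⟩ * red Y ⟨d, hdY⟩ = 1 := by
      rw [← map_mul, show (⟨d, hdY⟩ : ↥Y) * ⟨d, hdY⟩ = 1 from Subtype.ext (hD.sq d hd), map_one]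
    have hsqy : red Y ⟨y, hyY⟩ * red Y ⟨y, hyY⟩ = 1 := by
      rw [← map_mul, show (⟨y, hyY⟩ : ↥Y) * ⟨y, hyY⟩ = 1 from Subtype.ext (hD.sq y hy), map_one]
    have hgen₁ : Gen (Im f₁ (Sub D X)) (f₁ ⟨y, hyX⟩) (f₁ ⟨d, hdX⟩) := by
      refine ⟨im_ot _ hSX, hker₁.map_mem hSX hy hd hncX,
        hker₁.map_mem hSX hd hy (fun h => hncX h.symm), ?_, ?_, ?_⟩
      · rw [hker₁.commute_iff hSX hd hy]; exact hncX
      · refine closure_image hf₁s
          (closure_sub (T := Cls (Sub D X) ⟨y, hyX⟩ ∪ {⟨d, hdX⟩}) hX.symm ?_) ?_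
        · rintro ⟨z, hzX⟩ (hz | hz)
          · exact Or.inl (cls_sub_of hz)
          · right
            rw [Set.mem_singleton_iff] at hz ⊢
            exact Subtype.ext hz
        · rintro z (hz | hz)
          · exact Or.inl (hker₁.cls_map hSX hy hz hd hncX)
          · right
            rw [Set.mem_singleton_iff] at hz ⊢
            rw [hz]
      · intro N hN hP
        exact hK.o2 hsqy hsqd (hval ⟨y, hyX⟩ ▸ (f₁ ⟨y, hyX⟩).2) (hval ⟨d, hdX⟩ ▸ (f₁ ⟨d, hdX⟩).2)
          hyK N hN hP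
    -- a second member of the class of `y`
    obtain ⟨a, ha, hay, hayD⟩ := hline y hy
    have haC : a ∈ Cls D y := ⟨ha, hD.line_eqv hy ha hay.symm (by rw [← hay.eq]; exact hayD)⟩
    have haX : a ∈ X := hXm _ (Or.inl haC)
    have haC' : (⟨a, haX⟩ : ↥X) ∈ Cls (Sub D X) ⟨y, hyX⟩ := cls_sub_of haC
    have hayne : f₁ ⟨a, haX⟩ ≠ f₁ ⟨y, hyX⟩ := by
      intro h1
      have h2 : f₁ (⟨a, haX⟩ * ⟨y, hyX⟩) = 1 := by
        rw [map_mul, h1, ← map_mul, show (⟨y, hyX⟩ : ↥X) * ⟨y, hyX⟩ = 1 from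
          Subtype.ext (hD.sq y hy), map_one]
      have h3 : ¬ Commute (⟨d, hdX⟩ : ↥X) (⟨a, haX⟩ * ⟨y, hyX⟩) := by
        intro h4
        apply hyd
        exact ((haC.2.trans (hD.line_eqv_mul ha hy hay hayD)) d hd).2 (commute_coe.2 h4)
      exact (hker₁.map_mem hSX (show (⟨a, haX⟩ : ↥X) * ⟨y, hyX⟩ ∈ Sub D X from hayD)
        (show (⟨d, hdX⟩ : ↥X) ∈ Sub D X from hd) h3).1 h2
    have hR₁ : R1 ↥ι.range := hR _ _ _ _ _ hgen₁ (hker₁.cls_map hSX hy haC' hd hncX) hayne
    refine ⟨ι.range, hR₁, (f₁ ⟨d, hdX⟩).2, (f₁ ⟨y, hyX⟩).2, ?_⟩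
    intro i hi hii hi1 hiy
    -- `i` is conjugate to the image of `y`
    have hsq₁ : f₁ ⟨y, hyX⟩ * f₁ ⟨y, hyX⟩ = 1 := Subtype.ext hsqy
    obtain ⟨g, hg⟩ := hR₁.conj (f₁ ⟨y, hyX⟩) ⟨i, hi⟩ hsq₁ (hgen₁.ot.ne _ hgen₁.hd)
      (Subtype.ext hii) (fun h => hi1 (congrArg Subtype.val h))
    have hiD : (⟨i, hi⟩ : ↥ι.range) ∈ Im f₁ (Sub D X) := by
      rw [← hg]; exact hgen₁.conj_mem hgen₁.hd g
    have hzD : g * f₁ ⟨d, hdX⟩ * g⁻¹ ∈ Im f₁ (Sub D X) := hgen₁.conj_mem hgen₁.hx g
    obtain ⟨-, c, hc, hci⟩ := hiD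
    obtain ⟨-, z, hz, hzi⟩ := hzD
    have hcy : Commute (c : G) y := by
      have h1 : Commute (f₁ c) (f₁ ⟨y, hyX⟩) := by
        rw [hci]; exact Subtype.ext hiy
      exact commute_coe.2 ((hker₁.commute_iff hSX hc hy).1 h1)
    have hzc : ¬ Commute (z : G) c := by
      intro h1
      have h2 : Commute (f₁ z) (f₁ c) := (commute_coe.1 h1).map f₁
      rw [hzi, hci, ← hg] at h2
      apply hgen₁.nc
      have h3 : (g * f₁ ⟨d, hdX⟩ * g⁻¹) * (g * f₁ ⟨y, hyX⟩ * g⁻¹) =
        (g * f₁ ⟨y, hyX⟩ * g⁻¹) * (g * f₁ ⟨d, hdX⟩ * g⁻¹) := h2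
      show f₁ ⟨d, hdX⟩ * f₁ ⟨y, hyX⟩ = f₁ ⟨y, hyX⟩ * f₁ ⟨d, hdX⟩
      calc f₁ ⟨d, hdX⟩ * f₁ ⟨y, hyX⟩ =
            g⁻¹ * ((g * f₁ ⟨d, hdX⟩ * g⁻¹) * (g * f₁ ⟨y, hyX⟩ * g⁻¹)) * g := by group
        _ = g⁻¹ * ((g * f₁ ⟨y, hyX⟩ * g⁻¹) * (g * f₁ ⟨d, hdX⟩ * g⁻¹)) * g := by rw [h3]
        _ = _ := by group
    refine ⟨c, hXY c.2, ?_, ?_⟩
    · refine mem_cls_of_commute hD hconj hy hd hyd ha hay hayD ?_ hc (hX.le c.2) hcy ⟨z, hz, hX.le z.2, hzc⟩
      exact hcl y hy c hc
    · have := congrArg Subtype.val hci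
      exact this
  obtain ⟨K₁, hR₁, hd₁, hx₁, hm₁⟩ := main x hxY hx hxd
    (fun e he => hYm _ (Or.inl (Or.inl he)))
  obtain ⟨K₂, hR₂, hd₂, hf₂, hm₂⟩ := main f hfY hf hfd
    (fun e he => hYm _ (Or.inl (Or.inr he)))
  have hsq : ∀ y (hyY : y ∈ Y), y ∈ D → red Y ⟨y, hyY⟩ * red Y ⟨y, hyY⟩ = 1 := by
    intro y hyY hy
    rw [← map_mul, show (⟨y, hyY⟩ : ↥Y) * ⟨y, hyY⟩ = 1 from Subtype.ext (hD.sq y hy), map_one]
  have hnc : ∀ y (hyY : y ∈ Y), y ∈ D → ¬ Commute d y →
      ¬ Commute (red Y ⟨d, hdY⟩) (red Y ⟨y, hyY⟩) := by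
    intro y hyY hy h
    rw [hker.commute_iff hS hd hy]
    exact fun h' => h (commute_coe.2 h')
  have hne1 : ∀ y (hyY : y ∈ Y), y ∈ D → ¬ Commute d y → red Y ⟨y, hyY⟩ ≠ 1 := by
    intro y hyY hy h h1
    apply hnc y hyY hy h
    rw [h1]; exact Commute.one_right _
  have hd1 : red Y ⟨d, hdY⟩ ≠ 1 := by
    intro h1
    apply hnc x hxY hx hxd
    rw [h1]; exact Commute.one_left _
  obtain ⟨i, hi₁, hi₂, hii, hi1, hix, hif⟩ := hK.common_involution hR₁ hR₂ (hsq d hdY hd) hd1
    (hsq x hxY hx) (hne1 x hxY hx hxd) (hsq f hfY hf) (hne1 f hfY hf hfd)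
    ((commute_coe.1 hfx.symm : Commute (⟨x, hxY⟩ : ↥Y) ⟨f, hfY⟩).map _)
    (hnc x hxY hx hxd) (hnc f hfY hf hfd) hd₁ hd₂ hx₁ hf₂
  obtain ⟨c, hcY, hc, hci⟩ := hm₁ i hi₁ hii hi1 hix
  obtain ⟨e, heY, he, hei⟩ := hm₂ i hi₂ hii hi1 hif
  -- `e` and `c` are conjugate under `C(d)`
  have hconjY : ∀ y ∈ Sub D Y, ∀ g : ↥Y, g * y * g⁻¹ ∈ Sub D Y := fun y hy g => hconj _ hy _
  have hec : (⟨e, heY⟩ : ↥Y) * ⟨c, hcY⟩ ∈ pCore 2 ↥Y := by
    have h1 : red Y (⟨e, heY⟩ * ⟨c, hcY⟩) = 1 := by
      rw [map_mul, hei, hci, hii]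
    exact (QuotientGroup.eq_one_iff _).1 h1
  have hde : ¬ Commute (⟨d, hdY⟩ : ↥Y) ⟨e, heY⟩ := by
    intro h1
    exact hfd ((he.2 d hd).2 (commute_coe.2 h1))
  have hn2 : (pCore 2 ↥Y).Normal := Lib.Cores.pCore_normal 2
  obtain ⟨p, hpd, hpc⟩ := exists_conj_fibre hS hconjY (Lib.Cores.pCore_isPGroup 2)
    (show (⟨d, hdY⟩ : ↥Y) ∈ Sub D Y from hd) (show (⟨e, heY⟩ : ↥Y) ∈ Sub D Y from he.1)
    (show (⟨c, hcY⟩ : ↥Y) ∈ Sub D Y from hc.1) hde hec
  have hpd' : (p : G) * d = d * p := congrArg Subtype.val hpd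
  have hpc' : (p : G) * e * (p : G)⁻¹ = c := congrArg Subtype.val hpc
  have hwe : Commute w e := (he.2 w hw).1 hwf
  have hw'd : Commute ((p : G) * w * (p : G)⁻¹) d := by
    show (p : G) * w * (p : G)⁻¹ * d = d * ((p : G) * w * (p : G)⁻¹)
    have h1 : (p : G)⁻¹ * d = d * (p : G)⁻¹ := by
      calc (p : G)⁻¹ * d = (p : G)⁻¹ * (d * p) * (p : G)⁻¹ := by group
        _ = (p : G)⁻¹ * (p * d) * (p : G)⁻¹ := by rw [hpd']
        _ = d * (p : G)⁻¹ := by group
    calc (p : G) * w * (p : G)⁻¹ * d = (p : G) * w * ((p : G)⁻¹ * d) := by group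
      _ = (p : G) * (w * d) * (p : G)⁻¹ := by rw [h1]; group
      _ = (p : G) * (d * w) * (p : G)⁻¹ := by rw [hwd.eq]
      _ = ((p : G) * d) * w * (p : G)⁻¹ := by group
      _ = d * ((p : G) * w * (p : G)⁻¹) := by rw [hpd']; group
  have hw'c : Commute ((p : G) * w * (p : G)⁻¹) c := by
    rw [← hpc']
    show (p : G) * w * (p : G)⁻¹ * (p * e * (p : G)⁻¹) = p * e * (p : G)⁻¹ * (p * w * (p : G)⁻¹)
    calc (p : G) * w * (p : G)⁻¹ * (p * e * (p : G)⁻¹) = p * (w * e) * (p : G)⁻¹ := by group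
      _ = p * (e * w) * (p : G)⁻¹ := by rw [hwe.eq]
      _ = _ := by group
  have hw'D : (p : G) * w * (p : G)⁻¹ ∈ D := hconj w hw p
  exact hno _ hw'D hw'd ((hc.2 _ hw'D).2 hw'c)

/-- **Noncommuting members have a common neighbour** if the commuting graph is connected. -/
theorem exists_common (hR : RankOneR1.{u}) (hD : OT D) (hconj : ∀ y ∈ D, ∀ g : G, g * y * g⁻¹ ∈ D)
    (hcl : ∀ y ∈ D, ∀ z ∈ D, ∃ g : G, g * y * g⁻¹ = z)
    (hline : ∀ y ∈ D, ∃ a ∈ D, Commute a y ∧ a * y ∈ D)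
    (hc : IsConnectedSet (CommAdj D) D) {d x : G} (hd : d ∈ D) (hx : x ∈ D) :
    ∃ e ∈ D, Commute e d ∧ Commute e x := by
  have h1 := hc d hd x hx
  clear hx
  induction h1 with
  | refl => exact ⟨d, hd, Commute.refl d, Commute.refl d⟩
  | tail h2 h3 ih =>
    rename_i f y
    obtain ⟨hf, hy, -, hfy⟩ := h3
    obtain ⟨w, hw, hwd, hwf⟩ := ih
    by_contra hcon
    push Not at hcon
    exact common_core hR hD hconj hcl hline hd hy hf hw hcon hfy hwf hwd

/-- A set of odd transpositions is `OT`. -/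
theorem ot_of (h : IsOddTranspositionSet D) : OT D where
  sq := fun a ha => sq_of_mem h.1 ha
  ne := fun a ha => ne_one_of_mem h.1 ha
  conj := fun a ha b hb => conj_mem' h.1 ha hb
  pair := by
    intro a ha b hb
    rcases h.1.pair a ha b hb with h1 | h1 | h1
    · exact Or.inl h1
    · exact Or.inr h1
    · exact absurd h1.1 (h.2 a ha b hb)

theorem line_of (hcl : IsRootInvolutionClass D) (hDD : (D ∩ commutingProducts D).Nonempty) :
    ∀ y ∈ D, ∃ a ∈ D, Commute a y ∧ a * y ∈ D := by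
  intro y hy
  obtain ⟨z, hz, a, ha, b, hb, hab, -, rfl⟩ := hDD
  obtain ⟨g, rfl⟩ := hcl.2.2 b hb y hy
  refine ⟨g * a * g⁻¹, hcl.1.conj_mem a ha g, ?_, ?_⟩
  · show g * a * g⁻¹ * (g * b * g⁻¹) = g * b * g⁻¹ * (g * a * g⁻¹)
    calc g * a * g⁻¹ * (g * b * g⁻¹) = g * (a * b) * g⁻¹ := by group
      _ = g * (b * a) * g⁻¹ := by rw [hab]
      _ = _ := by group
  · have : g * a * g⁻¹ * (g * b * g⁻¹) = g * (a * b) * g⁻¹ := by group
    rw [this]
    exact hcl.1.conj_mem _ hz g

/-- S5050 modulo the rank one theorem. -/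
theorem s5050 (hR : RankOneR1.{u}) (hD : IsOddTranspositionSet D) (hcl : IsRootInvolutionClass D)
    (hc : IsConnectedSet (CommAdj D) D) (hDD : (D ∩ commutingProducts D).Nonempty)
    {d x : G} (hd : d ∈ D) (hx : x ∈ oddPartners D d) : ∃ e ∈ D, e * d = d * e ∧ e * x = x * e := by
  obtain ⟨e, he, h1, h2⟩ := exists_common hR (ot_of hD) hD.1.conj_mem
    (fun y hy z hz => by
      obtain ⟨g, hg⟩ := hcl.2.2 y hy z hz
      exact ⟨g, hg.symm⟩) (line_of hcl hDD) hc hd hx.1
  exact ⟨e, he, h1, h2⟩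

end Cfsg.Agent.H738
end

-- part: H738/Rank1
section
/-!
# The groups `⟨E_d, x⟩` modulo `O₂` (modulo the rank one theorem)
-/

set_option autoImplicit false

universe u

namespace Cfsg.Agent.H738

open Cfsg.Agent.H737

/-- `K` is `L₂(q)` or `Sz(q)`, `q > 2` a power of 2. -/
def IsL2Sz (K : Type u) [Group K] : Prop :=
  (∃ (F : Type) (_ : Field F) (_ : Fintype F), CharP F 2 ∧ 4 ≤ Fintype.card F ∧
      Nonempty (K ≃* Matrix.ProjectiveSpecialLinearGroup (Fin 2) F)) ∨ Lie.IsoSuzuki K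

/-- The rank one theorem. -/
def RankOneThm : Prop :=
  ∀ (K : Type u) [Group K] [Finite K] (D : Set K) (d x a : K), Gen D d x → a ∈ Cls D d → a ≠ d →
    IsL2Sz K

theorem sameCommutingClass_eq {G : Type u} [Group G] {D : Set G} (d : G) :
    sameCommutingClass D d = Cls D d := by
  ext e
  constructor
  · rintro ⟨h1, h2⟩
    refine ⟨h1, fun y hy => ?_⟩
    have h3 := congrArg (fun s => y ∈ s) h2
    simp only [commutingMembers, eq_iff_iff] at h3
    constructor
    · intro h4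
      exact (h3.1 ⟨hy, h4⟩).2
    · intro h4
      exact (h3.2 ⟨hy, h4⟩).2
  · rintro ⟨h1, h2⟩
    refine ⟨h1, ?_⟩
    ext y
    constructor
    · rintro ⟨hy, h4⟩
      exact ⟨hy, (h2 y hy).1 h4⟩
    · rintro ⟨hy, h4⟩
      exact ⟨hy, (h2 y hy).2 h4⟩

theorem not_commute_of_oddPartner {G : Type u} [Group G] {D : Set G} (hD : OT D) {d x : G}
    (hd : d ∈ D) (hx : x ∈ oddPartners D d) : ¬ Commute x d := by
  intro h
  obtain ⟨hxD, hne, hodd⟩ := hx
  have h1 : d * x = 1 := by
    refine eq_one_of_odd_of_sq hodd ?_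
    calc d * x * (d * x) = d * (x * d) * x := by group
      _ = d * (d * x) * x := by rw [h.eq]
      _ = (d * d) * (x * x) := by group
      _ = 1 := by rw [hD.sq d hd, hD.sq x hxD, one_mul]
  apply hne
  calc x = (d * d) * x := by rw [hD.sq d hd, one_mul]
    _ = d * (d * x) := by group
    _ = d := by rw [h1, mul_one]

/-- The group in the situation of `Gen`: dihedral, `L₂(q)` or `Sz(q)`. -/
theorem gen_cases (hR : RankOneThm.{u}) {K : Type u} [Group K] [Finite K] {D : Set K} {d x : K}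
    (h : Gen D d x) : IsL2Sz K ∨ ∃ n : ℕ, Nonempty (K ≃* DihedralGroup n) := by
  by_cases h1 : ∃ a ∈ Cls D d, a ≠ d
  · obtain ⟨a, ha, had⟩ := h1
    exact Or.inl (hR K D d x a h ha had)
  · right
    push Not at h1
    have hset : Cls D d ∪ {x} = {d, x} := by
      ext y
      constructor
      · rintro (hy | hy)
        · exact Or.inl (h1 y hy)
        · exact Or.inr hy
      · rintro (hy | hy)
        · rw [hy]; exact Or.inl ⟨h.hd, Eqv.refl _ _⟩
        · exact Or.inr hy
    have hgen := h.gen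
    rw [hset] at hgen
    have ho : ∀ a ∈ D, orderOf a = 2 := fun a ha =>
      orderOf_eq_prime (by rw [pow_two]; exact h.ot.sq a ha) (h.ot.ne a ha)
    have hne : d ≠ x := by
      rintro rfl
      exact h.nc (Commute.refl _)
    obtain ⟨e⟩ := S0206.result d x (ho d h.hd) (ho x h.hx) hne
    refine ⟨orderOf (d * x), ⟨?_⟩⟩
    refine MulEquiv.trans ?_ e
    exact (Subgroup.topEquiv.symm).trans (MulEquiv.subgroupCongr hgen.symm)

/-- S5051 modulo the rank one theorem. -/
theorem s5051 (hR : RankOneThm.{u}) {G : Type u} [Group G] [Finite G] {D : Set G}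
    (hD : IsOddTranspositionSet D) {d x : G} (hd : d ∈ D) (hx : x ∈ oddPartners D d) :
    (∃ (F : Type) (_ : Field F) (_ : Fintype F), CharP F 2 ∧ 4 ≤ Fintype.card F ∧
      Nonempty ((↥(Subgroup.closure (Cfsg.sameCommutingClass D d ∪ {x})) ⧸
        Cfsg.pCore 2 ↥(Subgroup.closure (Cfsg.sameCommutingClass D d ∪ {x}))) ≃* Matrix.ProjectiveSpecialLinearGroup (Fin 2) F)) ∨
    Cfsg.Lie.IsoSuzuki ((↥(Subgroup.closure (Cfsg.sameCommutingClass D d ∪ {x})) ⧸
        Cfsg.pCore 2 ↥(Subgroup.closure (Cfsg.sameCommutingClass D d ∪ {x})))) ∨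
    (∃ n : ℕ, Nonempty ((↥(Subgroup.closure (Cfsg.sameCommutingClass D d ∪ {x})) ⧸
        Cfsg.pCore 2 ↥(Subgroup.closure (Cfsg.sameCommutingClass D d ∪ {x}))) ≃* DihedralGroup n)) := by
  have hOT := ot_of hD
  have hnc := not_commute_of_oddPartner hOT hd hx
  have hgen := gen_red hOT hd hx.1 hnc (Y := Subgroup.closure (sameCommutingClass D d ∪ {x}))
    (by rw [sameCommutingClass_eq])
    (by
      rw [sameCommutingClass_eq]
      exact Subgroup.subset_closure (Or.inl ⟨hd, Eqv.refl _ _⟩))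
    (Subgroup.subset_closure (Or.inr rfl))
  rcases gen_cases hR hgen with (h1 | h1) | h1
  · exact Or.inl h1
  · exact Or.inr (Or.inl h1)
  · exact Or.inr (Or.inr h1)

end Cfsg.Agent.H738
end

-- part: H803/NotPSU
section
/-!
# `PSU₃(2^n)` is not generated by an elementary abelian 2-group and an involution (helper803)

`not_psu`: no `A` with `a² = 1` for all `a ∈ A` and no `x` with `x² = 1` satisfy `⟨A, x⟩ = PSU₃(2^n)`, `n ≥ 2`.
-/
set_option autoImplicit false

namespace Cfsg.Agent.H803.RankOne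
open Cfsg Cfsg.Agent.LieRecognition Cfsg.Agent.LieRecognition.HermHeis
  Cfsg.Agent.LieRecognition.PSUThreeSylow Cfsg.Agent.AschCrit.PSUTorus

seal _root_.Finset.sum _root_.dotProduct in
theorem not_psu {F : Type*} [Field F] [Finite F] {n : ℕ} (hn : 2 ≤ n)
    (hF : Nat.card F = (2 ^ n) ^ 2) (hZ : Subgroup.center (Cfsg.PSU 3 F (2 ^ n)) = ⊥)
    (A : Subgroup (Cfsg.PSU 3 F (2 ^ n))) (hA : ∀ a ∈ A, a * a = 1) (x : Cfsg.PSU 3 F (2 ^ n))
    (hx : x * x = 1) (hgen : A ⊔ Subgroup.zpowers x = ⊤) : False := by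
  have hn1 : 1 ≤ n := by omega
  have h2p : Fact (Nat.Prime 2) := ⟨Nat.prime_two⟩
  have hq : 1 < 2 ^ n := Nat.one_lt_two_pow (by omega)
  have hq4 : 3 < 2 ^ n := by
    calc 3 < 2 ^ 2 := by norm_num
      _ ≤ 2 ^ n := Nat.pow_le_pow_right (by norm_num) hn
  obtain ⟨hch, σ, hσ, hs, -⟩ := exists_heis_equiv F hn1 hF
  obtain ⟨H, S, w, ψ, hfaith, hS, hcl, -, htor, -, -⟩ :=
    Cfsg.Agent.AschCrit.PSUTorus.exists_model (F := F) (σ := σ) hn1 hs hF
  obtain ⟨u, hu1, hu3⟩ := Cfsg.Agent.TwoFusion.GoldBenPSU.exists_unit hq4 hF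
  have hu : (u : F) * σ u = 1 := by
    rw [hs, ← pow_succ', ← Units.val_pow_eq_pow_val, hu1, Units.val_one]
  obtain ⟨y, hyH, hwy, hy⟩ := htor u hu
  -- `y ≠ 1`
  obtain ⟨x₀, hx₀⟩ := HermHeis.exists_heis_a (σ := σ) hq hs hF 1
  have hy1 : y ≠ 1 := by
    rintro rfl
    have h1 := hy x₀
    rw [one_mul, mul_one] at h1
    have h2 : x₀ = twist (u : F) hu x₀ := ψ.injective (Subtype.ext h1)
    have h3 : x₀.a = (u : F) ^ 3 * x₀.a := congrArg Heis.a h2
    rw [hx₀, mul_one] at h3
    exact hu3 (Units.ext (by rw [Units.val_pow_eq_pow_val, ← h3, Units.val_one]))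
  -- `y` commutes with the involutions of `S`
  have hyS : ∀ s ∈ S, s * s = 1 → s * y = y * s := by
    intro s hs' hss
    obtain ⟨v, hv⟩ := ψ.surjective ⟨s, hs'⟩
    have h1 : v * v = 1 := by
      apply ψ.injective
      rw [map_mul, hv, map_one]
      exact Subtype.ext hss
    have h2 : v.a = 0 := (mul_self_eq_one_iff v).1 h1
    have h3 : twist (u : F) hu v = v := by
      ext
      · show (u : F) ^ 3 * v.a = v.a
        rw [h2, mul_zero]
      · rfl
    have h4 := hy v
    rw [h3, hv] at h4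
    exact h4.symm
  -- `S` is a Sylow subgroup
  have hcardS : Nat.card S = 2 ^ (n * 3) := by
    rw [← Nat.card_congr ψ.toEquiv, HermHeis.card_heis hq hs hF, ← pow_mul]
  have hSp : IsPGroup 2 S := IsPGroup.of_card hcardS
  have hSi : ¬ 2 ∣ S.index := by
    have := Cfsg.Agent.SuzukiRankOne.Reduction.odd_index_of_le hS le_rfl
    exact fun h => Nat.not_even_iff_odd.mpr this (even_iff_two_dvd.mpr h)
  set! S' : Sylow 2 (Cfsg.PSU 3 F (2 ^ n)) := hSp.toSylow hSi with hS'
  have hS'S : (S' : Subgroup (Cfsg.PSU 3 F (2 ^ n))) = S := rfl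
  have hAp : IsPGroup 2 A := fun a => ⟨1, Subtype.ext (by
    have := hA a a.2
    simpa only [pow_two, _root_.pow_one, _root_.Subgroup.coe_mul, _root_.OneMemClass.coe_one] using this)⟩
  have hxp : IsPGroup 2 (Subgroup.zpowers x) := by
    rintro ⟨_, m, rfl⟩
    refine ⟨1, Subtype.ext ?_⟩
    show (x ^ m) ^ 2 ^ 1 = 1
    rw [pow_one, ← zpow_natCast, zpow_comm, zpow_natCast, pow_two, hx, one_zpow]
  obtain ⟨T, hAT⟩ := hAp.exists_le_sylow
  obtain ⟨T', hxT'⟩ := hxp.exists_le_sylow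
  obtain ⟨g, hg⟩ := MulAction.exists_smul_eq (Cfsg.PSU 3 F (2 ^ n)) S' T
  obtain ⟨g', hg'⟩ := MulAction.exists_smul_eq (Cfsg.PSU 3 F (2 ^ n)) S' T'
  have hmem : ∀ (k : Cfsg.PSU 3 F (2 ^ n)) (a : Cfsg.PSU 3 F (2 ^ n)),
      a ∈ ((k • S' : Sylow 2 (Cfsg.PSU 3 F (2 ^ n))) : Subgroup (Cfsg.PSU 3 F (2 ^ n))) ↔
        k⁻¹ * a * k ∈ S := by
    intro k a
    rw [Sylow.coe_subgroup_smul, Subgroup.mem_pointwise_smul_iff_inv_smul_mem, hS'S]
    simp only [MulAut.smul_def, _root_.MulAut.smul_def, _root_.MulAut.inv_apply, _root_.MulAut.conj_symm_apply]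
  have hTm : ∀ a, a ∈ (T : Subgroup (Cfsg.PSU 3 F (2 ^ n))) ↔ g⁻¹ * a * g ∈ S := by
    intro a; rw [← hg]; exact hmem g a
  have hTm' : ∀ a, a ∈ (T' : Subgroup (Cfsg.PSU 3 F (2 ^ n))) ↔ g'⁻¹ * a * g' ∈ S := by
    intro a; rw [← hg']; exact hmem g' a
  -- the two Sylow subgroups fix different points
  have hstab : MulAction.stabilizer (Cfsg.PSU 3 F (2 ^ n))
      ((QuotientGroup.mk 1 : _) : Cfsg.PSU 3 F (2 ^ n) ⧸ H) = H := by
    ext k
    rw [MulAction.mem_stabilizer_iff]
    show ((k * 1 : Cfsg.PSU 3 F (2 ^ n)) : Cfsg.PSU 3 F (2 ^ n) ⧸ H) = ((1 : Cfsg.PSU 3 F (2 ^ n)) : _ ⧸ H) ↔ _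
    rw [mul_one, QuotientGroup.eq, mul_one, inv_mem_iff]
  have hSH : ∀ h ∈ H, ∀ s ∈ S, h * s * h⁻¹ ∈ S := fun h hh s hs' =>
    hS.conj_mem h (by rw [hstab]; exact hh) s hs'
  have hwS : w ∉ S := fun h => hS.not_mem (hS.le h)
  have hgg' : g⁻¹ * g' ∉ H := by
    intro hh
    -- `T = T'`
    have hTT : ∀ a, a ∈ (T' : Subgroup (Cfsg.PSU 3 F (2 ^ n))) → a ∈ (T : Subgroup (Cfsg.PSU 3 F (2 ^ n))) := by
      intro a ha
      rw [hTm]
      have h1 := hSH _ hh _ ((hTm' a).1 ha)
      have h2 : g⁻¹ * g' * (g'⁻¹ * a * g') * (g⁻¹ * g')⁻¹ = g⁻¹ * a * g := by group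
      rwa [h2] at h1
    have hle : (⊤ : Subgroup (Cfsg.PSU 3 F (2 ^ n))) ≤ T := by
      rw [← hgen]
      exact sup_le hAT (fun a ha => hTT a (hxT' ha))
    have h3 := ((hTm (g * w * g⁻¹)).1 (hle (Subgroup.mem_top _)) :)
    apply hwS
    have h4 : g⁻¹ * (g * w * g⁻¹) * g = w := by group
    rwa [h4] at h3
  obtain ⟨k, hk1, hk2⟩ : ∃ k : Cfsg.PSU 3 F (2 ^ n), g⁻¹ * k ∈ H ∧ g'⁻¹ * (k * w) ∈ H := by
    have h2t := hS.two_transitive
    rw [MulAction.is_two_pretransitive_iff] at h2t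
    have hne1 : ((QuotientGroup.mk 1 : _) : Cfsg.PSU 3 F (2 ^ n) ⧸ H) ≠ QuotientGroup.mk w := by
      intro h
      apply hS.not_mem
      rw [hstab]
      rw [QuotientGroup.eq] at h
      simpa only [_root_.inv_one, _root_.one_mul] using h
    have hne2 : (QuotientGroup.mk g : Cfsg.PSU 3 F (2 ^ n) ⧸ H) ≠ QuotientGroup.mk g' := by
      intro h
      exact hgg' (QuotientGroup.eq.1 h)
    obtain ⟨k, hk1, hk2⟩ := h2t hne1 hne2
    refine ⟨k, ?_, ?_⟩
    · have h3 : (QuotientGroup.mk (k * 1) : Cfsg.PSU 3 F (2 ^ n) ⧸ H) = QuotientGroup.mk g := hk1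
      rw [eq_comm, QuotientGroup.eq, mul_one] at h3
      exact h3
    · have h3 : (QuotientGroup.mk (k * w) : Cfsg.PSU 3 F (2 ^ n) ⧸ H) = QuotientGroup.mk g' := hk2
      rw [eq_comm, QuotientGroup.eq] at h3
      exact h3
  -- the element `k y k⁻¹` is central
  have hc1 : ∀ a ∈ A, a * (k * y * k⁻¹) = (k * y * k⁻¹) * a := by
    intro a ha
    have h1 : k⁻¹ * a * k ∈ S := by
      have h2 := hSH _ (H.inv_mem hk1) _ ((hTm a).1 (hAT ha))
      have h3 : (g⁻¹ * k)⁻¹ * (g⁻¹ * a * g) * (g⁻¹ * k)⁻¹⁻¹ = k⁻¹ * a * k := by group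
      rwa [h3] at h2
    have h4 := hyS _ h1 (by
      have : k⁻¹ * a * k * (k⁻¹ * a * k) = k⁻¹ * (a * a) * k := by group
      rw [this, hA a ha]; group)
    calc a * (k * y * k⁻¹) = k * (k⁻¹ * a * k * y) * k⁻¹ := by group
      _ = k * (y * (k⁻¹ * a * k)) * k⁻¹ := by rw [h4]
      _ = _ := by group
  have hc2 : x * (k * y * k⁻¹) = (k * y * k⁻¹) * x := by
    have h1 : (k * w)⁻¹ * x * (k * w) ∈ S := by
      have h2 := hSH _ (H.inv_mem hk2) _ ((hTm' x).1 (hxT' (Subgroup.mem_zpowers x)))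
      have h3 : (g'⁻¹ * (k * w))⁻¹ * (g'⁻¹ * x * g') * (g'⁻¹ * (k * w))⁻¹⁻¹ = (k * w)⁻¹ * x * (k * w) := by
        group
      rwa [h3] at h2
    have h4 := hyS _ h1 (by
      have : (k * w)⁻¹ * x * (k * w) * ((k * w)⁻¹ * x * (k * w)) = (k * w)⁻¹ * (x * x) * (k * w) := by group
      rw [this, hx]; group)
    have h5 : w * y * w⁻¹ = y := by rw [hwy]; group
    calc x * (k * y * k⁻¹) = x * (k * (w * y * w⁻¹) * k⁻¹) := by rw [h5]
      _ = (k * w) * ((k * w)⁻¹ * x * (k * w) * y) * (k * w)⁻¹ := by group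
      _ = (k * w) * (y * ((k * w)⁻¹ * x * (k * w))) * (k * w)⁻¹ := by rw [h4]
      _ = (k * (w * y * w⁻¹) * k⁻¹) * x := by group
      _ = _ := by rw [h5]
  have hcen : k * y * k⁻¹ ∈ Subgroup.center (Cfsg.PSU 3 F (2 ^ n)) := by
    have h1 : A ⊔ Subgroup.zpowers x ≤ Subgroup.centralizer {k * y * k⁻¹} := by
      refine sup_le (fun a ha => ?_) ?_
      · rw [Subgroup.mem_centralizer_singleton_iff]
        exact hc1 a ha
      · rw [Subgroup.zpowers_le, Subgroup.mem_centralizer_singleton_iff]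
        exact hc2
    rw [hgen] at h1
    rw [Subgroup.mem_center_iff]
    intro b
    exact (Subgroup.mem_centralizer_singleton_iff.1 (h1 (Subgroup.mem_top b)))
  rw [hZ, Subgroup.mem_bot] at hcen
  apply hy1
  have : y = k⁻¹ * (k * y * k⁻¹) * k := by group
  rw [this, hcen]; group

end Cfsg.Agent.H803.RankOne
end

-- part: H803/RankOne
section
/-!
# Identification of groups generated by a "root subgroup" and one odd transposition (helper803)

`rank_one`: `X` is generated by odd transpositions, commuting is an equivalence relation on them, `A` is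
a subgroup of order at least 4 whose involutions form one commuting class, `X = ⟨A, x⟩` and `O₂(X) = 1`.
Then `X ≅ L₂(q)` or `Sz(q)`.
-/
set_option autoImplicit false

namespace Cfsg.Agent.H803.RankOne
open Cfsg

/-- A central extension of a finite group with cyclic odd Sylow subgroups by a perfect group without normal
2-subgroups is an isomorphism. -/
theorem ker_eq_bot {X K : Type*} [Group X] [Finite X] [Group K] [Finite K]
    (hperf : commutator X = ⊤) (hO2 : pCore 2 X = ⊥) (σ : X →* K) (hσ : Function.Surjective σ)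
    (hz : σ.ker ≤ Subgroup.center X)
    (hcyc : ∀ p : ℕ, p.Prime → p ≠ 2 → ∀ P : Sylow p K, IsCyclic P) : σ.ker = ⊥ := by
  have hpK : commutator K = ⊤ := by
    rw [eq_top_iff]
    rintro y -
    obtain ⟨x, rfl⟩ := hσ y
    have hx : x ∈ commutator X := by rw [hperf]; exact Subgroup.mem_top _
    have h1 : σ x ∈ (commutator X).map σ := ⟨x, hx, rfl⟩
    have h2 : (commutator X).map σ ≤ commutator K := by
      rw [commutator_def, commutator_def, Subgroup.map_commutator]
      exact Subgroup.commutator_mono le_top le_top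
    exact h2 h1
  by_contra hne
  have h1 : Nat.card σ.ker ≠ 1 := fun h => hne (Subgroup.card_eq_one.1 h)
  obtain ⟨p, hp, hpd⟩ := Nat.exists_prime_and_dvd h1
  have : Fact p.Prime := ⟨hp⟩
  by_cases hp2 : p = 2
  · subst hp2
    obtain ⟨z, hz2⟩ := exists_prime_orderOf_dvd_card' 2 hpd
    have hz2' : orderOf (z : X) = 2 := by rw [Subgroup.orderOf_coe, hz2]
    have hzc : (z : X) ∈ Subgroup.center X := hz z.2
    have hn : (Subgroup.zpowers (z : X)).Normal := by
      refine ⟨fun n hn g => ?_⟩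
      have hnc : n ∈ Subgroup.center X :=
        (Subgroup.zpowers_le.2 hzc) hn
      rw [(Subgroup.mem_center_iff.1 hnc g), mul_inv_cancel_right]
      exact hn
    have hpg : IsPGroup 2 (Subgroup.zpowers (z : X)) :=
      IsPGroup.of_card (n := 1) (by rw [Nat.card_zpowers, hz2', pow_one])
    have hle : Subgroup.zpowers (z : X) ≤ pCore 2 X := le_sSup ⟨hn, hpg⟩
    rw [hO2] at hle
    have : (z : X) = 1 := Subgroup.mem_bot.1 (hle (Subgroup.mem_zpowers _))
    rw [this, orderOf_one] at hz2'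
    omega
  · exact Cfsg.Agent.S0102.result hpK (hcyc p hp hp2) σ hσ hz hperf hpd

theorem twoZCore_eq_center {X : Type*} [Group X] (hO2 : pCore 2 X = ⊥) :
    twoZCore X = Subgroup.center X := by
  ext z
  rw [twoZCore, Subgroup.mem_comap, Subgroup.mem_center_iff, Subgroup.mem_center_iff]
  have hinj : Function.Injective (QuotientGroup.mk' (pCore 2 X)) := by
    rw [← MonoidHom.ker_eq_bot_iff, QuotientGroup.ker_mk', hO2]
  constructor
  · intro h g
    apply hinj
    rw [map_mul, map_mul]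
    exact h _
  · intro h g
    obtain ⟨g, rfl⟩ := QuotientGroup.mk'_surjective _ g
    rw [← map_mul, ← map_mul, h g]

/-- **Identification lemma**: `X = ⟨A, x⟩`, `A#` a commuting class of odd transpositions. -/
theorem rank_one {X : Type*} [Group X] [Finite X] {D : Set X} (hD : IsOddTranspositionSet D)
    (A : Subgroup X) (hA : 4 ≤ Nat.card A) {d x : X} (hd : d ∈ D) (hx : x ∈ D) (hdA : d ∈ A)
    (hAD : ∀ a ∈ A, a ≠ 1 → a ∈ D)
    (hTI : ∀ a ∈ D, ∀ b ∈ D, ∀ c ∈ D, a * b = b * a → b * c = c * b → a * c = c * a)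
    (hX : A ⊔ Subgroup.zpowers x = ⊤) (hxd : x * d ≠ d * x) (hO2 : pCore 2 X = ⊥) :
    (∃ (F : Type) (_ : Field F) (_ : Fintype F), CharP F 2 ∧ 4 ≤ Fintype.card F ∧
      Nonempty (X ≃* Matrix.ProjectiveSpecialLinearGroup (Fin 2) F)) ∨ Lie.IsoSuzuki X := by
  have hsq : ∀ e ∈ D, e * e = 1 := fun e he => by
    rw [← pow_two, ← hD.1.orderOf_eq e he, pow_orderOf_eq_one]
  have hAsq : ∀ a ∈ A, a * a = 1 := by
    intro a ha
    by_cases h1 : a = 1
    · rw [h1, one_mul]
    · exact hsq a (hAD a ha h1)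
  have hAcomm : ∀ a ∈ A, ∀ b ∈ A, a * b = b * a := by
    intro a ha b hb
    have h1 := hAsq (a * b) (A.mul_mem ha hb)
    have ha1 := hAsq a ha
    have hb1 := hAsq b hb
    calc a * b = a * b * (a * b) * (b * a) := by
          rw [mul_assoc (a * b) (a * b) (b * a), mul_assoc a b (b * a), ← mul_assoc b b a, hb1, one_mul,
            ha1, mul_one]
      _ = b * a := by rw [h1, one_mul]
  have hd1 : d ≠ 1 := by
    rintro rfl
    exact hxd (by rw [mul_one, one_mul])
  -- a product of two commuting members of `D` in `D`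
  have hDD : (D ∩ Cfsg.commutingProducts D).Nonempty := by
    have h1 : ∃ b ∈ A, b ≠ 1 ∧ b ≠ d := by
      by_contra hcon
      push Not at hcon
      have h2 : (A : Set X) ⊆ {1, d} := by
        intro b hb
        by_cases hb1 : b = 1
        · exact Or.inl hb1
        · exact Or.inr (hcon b hb hb1)
      have h3 := Set.ncard_le_ncard h2 (Set.toFinite _)
      have h4 : ({1, d} : Set X).ncard ≤ 2 := by
        have := Set.ncard_insert_le (1 : X) {d}
        rw [Set.ncard_singleton] at this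
        exact this
      have h5 : Nat.card A = (A : Set X).ncard := rfl
      omega
    obtain ⟨b, hb, hb1, hbd⟩ := h1
    have hne : d * b ≠ 1 := by
      intro h
      apply hbd
      have : d * (d * b) = d := by rw [h, mul_one]
      rw [← mul_assoc, hAsq d hdA, one_mul] at this
      exact this
    exact ⟨d * b, hAD _ (A.mul_mem hdA hb) hne, d, hd, b, hAD b hb hb1, hAcomm d hdA b hb, hne, rfl⟩
  have hdis : ¬ Cfsg.IsConnectedSet (Cfsg.CommAdj D) D := by
    intro hc
    have h1 := hc d hd x hx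
    have h2 : ∀ y, Relation.ReflTransGen (Cfsg.CommAdj D) d y → y ∈ D ∧ d * y = y * d := by
      intro y hy
      induction hy with
      | refl => exact ⟨hd, rfl⟩
      | tail _ hbc ih =>
        exact ⟨hbc.2.1, hTI d hd _ hbc.1 _ hbc.2.1 ih.2 hbc.2.2.2⟩
    exact hxd (h2 x h1).2.symm
  have hodd := Cfsg.Agent.H736.RootDisc.isConnectedSet_oddAdj hD.1 hdis
  have hperf := Cfsg.Agent.H737.commutator_eq_top hD.1 hodd hDD
  have hsim : IsSimpleGroup (X ⧸ twoZCore X) := (Cfsg.Agent.S5048.result hD.1 hodd hDD).2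
  have hzc := twoZCore_eq_center hO2
  -- transport along an isomorphism with the quotient
  have key : ∀ {K : Type} [Group K] [Finite K] (e : X ⧸ twoZCore X ≃* K),
      (∀ p : ℕ, p.Prime → p ≠ 2 → ∀ P : Sylow p K, IsCyclic P) → Nonempty (X ≃* K) := by
    intro K _ _ e hcyc
    let σ : X →* K := e.toMonoidHom.comp (QuotientGroup.mk' (twoZCore X))
    have hσ : Function.Surjective σ := e.surjective.comp (QuotientGroup.mk'_surjective _)
    have hker : σ.ker = Subgroup.center X := by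
      rw [← hzc]
      ext z
      rw [MonoidHom.mem_ker]
      change e (QuotientGroup.mk' (twoZCore X) z) = 1 ↔ _
      rw [map_eq_one_iff e e.injective]
      exact QuotientGroup.eq_one_iff z
    have hbot := ker_eq_bot hperf hO2 σ hσ hker.le hcyc
    exact ⟨MulEquiv.ofBijective σ ⟨(MonoidHom.ker_eq_bot_iff σ).1 hbot, hσ⟩⟩
  rcases Cfsg.Agent.S5044.result hD.1 hDD with h | h | h | h
  · exact absurd h hdis
  · left
    obtain ⟨F, iF, iF', hF2, hF4, ⟨e⟩⟩ := h
    refine ⟨F, iF, iF', hF2, hF4, ?_⟩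
    obtain ⟨n, -, hn⟩ := FiniteField.card F 2
    refine key e fun p hp hp2 P => ?_
    have : Fact p.Prime := ⟨hp⟩
    exact Cfsg.Agent.StdL2.Cover.isCyclic_sylow_even n.2 hn hp2 P
  · right
    have h0 := h
    obtain ⟨F, iF, iF', m, hm, hF, ⟨e⟩⟩ := h
    refine ⟨F, iF, iF', m, hm, hF, ?_⟩
    refine key e fun p hp hp2 P => ?_
    have : Fact p.Prime := ⟨hp⟩
    exact Cfsg.Agent.OddRank.SzTits.isCyclic_of_isPGroup
      (X := _) ⟨F, iF, iF', m, hm, hF, ⟨MulEquiv.refl _⟩⟩ hp2 (P : Subgroup _) P.2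
  · exfalso
    obtain ⟨F, iF, iF', q, hF2, hFq, hq4, ⟨e⟩⟩ := h
    obtain ⟨m, -, hm⟩ := FiniteField.card F 2
    have hqd : q ∣ 2 ^ (m : ℕ) := by
      rw [← hm, hFq, pow_two]; exact Dvd.intro _ rfl
    obtain ⟨n, -, rfl⟩ := (Nat.dvd_prime_pow Nat.prime_two).1 hqd
    have hn : 2 ≤ n := by
      by_contra hlt
      have : n = 0 ∨ n = 1 := by omega
      rcases this with rfl | rfl <;> norm_num at hq4
    have hcard : Nat.card F = (2 ^ n) ^ 2 := by rw [Nat.card_eq_fintype_card, hFq]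
    let σ : X →* Cfsg.PSU 3 F (2 ^ n) := e.toMonoidHom.comp (QuotientGroup.mk' (twoZCore X))
    have hσ : Function.Surjective σ := e.surjective.comp (QuotientGroup.mk'_surjective _)
    have hsim' : IsSimpleGroup (Cfsg.PSU 3 F (2 ^ n)) := by
      have : Nontrivial (Cfsg.PSU 3 F (2 ^ n)) := e.symm.toEquiv.nontrivial
      exact IsSimpleGroup.isSimpleGroup_of_surjective e.toMonoidHom e.surjective
    have hZ : Subgroup.center (Cfsg.PSU 3 F (2 ^ n)) = ⊥ := by
      rcases hsim'.eq_bot_or_eq_top_of_normal _ (inferInstance :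
        (Subgroup.center (Cfsg.PSU 3 F (2 ^ n))).Normal) with h | h
      · exact h
      · exfalso
        have h1 : commutator (Cfsg.PSU 3 F (2 ^ n)) = ⊥ := by
          rw [commutator_def, Subgroup.commutator_eq_bot_iff_le_centralizer, ← h]
          intro z _
          rw [Subgroup.mem_centralizer_iff]
          intro y hy
          exact Subgroup.mem_center_iff.1 (by rw [h]; exact Subgroup.mem_top z) y
        have h2 : (⊤ : Subgroup (Cfsg.PSU 3 F (2 ^ n))) ≤ ⊥ := by
          rw [← h1, commutator_def]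
          calc (⊤ : Subgroup (Cfsg.PSU 3 F (2 ^ n))) = (commutator X).map σ := by
                rw [hperf, ← MonoidHom.range_eq_map, MonoidHom.range_eq_top.2 hσ]
            _ ≤ _ := by
                rw [commutator_def, Subgroup.map_commutator]
                exact Subgroup.commutator_mono le_top le_top
        obtain ⟨a, b, hab⟩ := hsim'.exists_pair_ne
        apply hab
        rw [Subgroup.mem_bot.1 (h2 (Subgroup.mem_top a)), Subgroup.mem_bot.1 (h2 (Subgroup.mem_top b))]
    refine not_psu hn hcard hZ (A.map σ) ?_ (σ x) ?_ ?_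
    · rintro _ ⟨a, ha, rfl⟩
      rw [← map_mul, hAsq a ha, map_one]
    · rw [← map_mul, hsq x hx, map_one]
    · rw [← MonoidHom.map_zpowers, ← Subgroup.map_sup, hX, ← MonoidHom.range_eq_map,
        MonoidHom.range_eq_top.2 hσ]

end Cfsg.Agent.H803.RankOne
end

-- part: H738/Final
section
/-!
# The rank one theorem for `⟨E_d, x⟩` and its consequences
-/

set_option autoImplicit false

universe u

namespace Cfsg.Agent.H738

open Cfsg.Agent.H737

section

variable {G : Type u} [Group G] {D : Set G} {d x : G}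

theorem Gen.isOdd [Finite G] (h : Gen D d x) : IsOddTranspositionSet D := by
  have ho : ∀ a ∈ D, orderOf a = 2 := fun a ha =>
    orderOf_eq_prime (by rw [pow_two]; exact h.ot.sq a ha) (h.ot.ne a ha)
  refine ⟨⟨ho, h.gen_top, fun a ha g => h.conj_mem ha g, ?_⟩, ?_⟩
  · intro a ha b hb
    rcases h.ot.pair a ha b hb with h1 | h1
    · exact Or.inl h1
    · exact Or.inr (Or.inl h1)
  · intro a ha b hb h4
    rcases h.ot.pair a ha b hb with h1 | h1
    · have h2 : orderOf (a * b) ∣ 2 := by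
        apply orderOf_dvd_of_pow_eq_one
        rw [pow_two]
        exact h.sq_mul ha hb h1
      rw [h4] at h2
      revert h2; decide
    · rw [h4] at h1
      revert h1; decide

/-- The root group `E ∪ {1}`. -/
def Gen.rootGroup (h : Gen D d x) : Subgroup G where
  carrier := {g | g = 1 ∨ g ∈ Cls D d}
  one_mem' := Or.inl rfl
  mul_mem' := by
    rintro a b (rfl | ha) (rfl | hb)
    · left; simp
    · right; simpa using hb
    · right; simpa using ha
    · by_cases hab : a = b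
      · left
        rw [hab]; exact h.ot.sq b hb.1
      · exact Or.inr (h.mul_mem ha hb hab)
  inv_mem' := by
    rintro a (rfl | ha)
    · left; simp
    · right
      rw [h.ot.inv ha.1]; exact ha

theorem Gen.mem_rootGroup (h : Gen D d x) {g : G} : g ∈ h.rootGroup ↔ g = 1 ∨ g ∈ Cls D d :=
  Iff.rfl

end

theorem rankOneThm : RankOneThm.{u} := by
  intro K _ _ D d x a h ha had
  have hdd : d ∈ Cls D d := ⟨h.hd, Eqv.refl _ _⟩
  have h4 : 4 ≤ Nat.card h.rootGroup := by
    have hsub : ({1, d, a, a * d} : Set K) ⊆ (h.rootGroup : Set K) := by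
      intro y hy
      rw [SetLike.mem_coe, h.mem_rootGroup]
      rcases hy with rfl | rfl | rfl | hy
      · exact Or.inl rfl
      · exact Or.inr hdd
      · exact Or.inr ha
      · rw [Set.mem_singleton_iff.1 hy]; exact Or.inr (h.mul_mem ha hdd had)
    have hd1 := h.ot.ne d h.hd
    have ha1 := h.ot.ne a ha.1
    have hne : a * d ≠ 1 := by
      intro h1
      apply had
      calc a = a * (d * d) := by rw [h.ot.sq d h.hd, mul_one]
        _ = (a * d) * d := by group
        _ = d := by rw [h1, one_mul]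
    have hne2 : a * d ≠ d := by
      intro h1
      apply ha1
      calc a = (a * d) * d⁻¹ := by group
        _ = 1 := by rw [h1]; group
    have hne3 : a * d ≠ a := by
      intro h1
      apply hd1
      calc d = a⁻¹ * (a * d) := by group
        _ = 1 := by rw [h1]; group
    have hcard : ({1, d, a, a * d} : Set K).ncard = 4 := by
      rw [Set.ncard_insert_of_notMem, Set.ncard_insert_of_notMem, Set.ncard_insert_of_notMem,
        Set.ncard_singleton]
      · simp only [Set.mem_singleton_iff]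
        exact fun h => hne3 h.symm
      · simp only [Set.mem_insert_iff, Set.mem_singleton_iff, not_or]
        exact ⟨fun h => had h.symm, fun h => hne2 h.symm⟩
      · simp only [Set.mem_insert_iff, Set.mem_singleton_iff, not_or]
        exact ⟨fun h => hd1 h.symm, fun h => ha1 h.symm, fun h => hne h.symm⟩
    rw [← hcard]
    exact Set.ncard_le_ncard hsub (Set.toFinite _)
  refine H803.RankOne.rank_one (D := D) h.isOdd h.rootGroup h4 h.hd h.hx (Or.inr hdd) ?_ ?_ ?_ ?_ ?_
  · rintro b (rfl | hb) hb1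
    · exact absurd rfl hb1
    · exact hb.1
  · intro b hb c hc e he hbc hce
    exact h.trans ha had hb hc he hbc hce
  · rw [eq_top_iff, ← h.gen, Subgroup.closure_le]
    rintro y (hy | hy)
    · exact Subgroup.mem_sup_left (Or.inr hy)
    · rw [Set.mem_singleton_iff.1 hy]
      exact Subgroup.mem_sup_right (Subgroup.mem_zpowers x)
  · exact h.nc
  · exact h.o2 _ (Lib.Cores.pCore_normal 2) (Lib.Cores.pCore_isPGroup 2)

theorem r1_of {K : Type u} [Group K] [Finite K] (h : IsL2Sz K) : R1 K := by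
  have h1 : H803.RankOneFacts.R1 K := by
    rcases h with ⟨F, _, _, hF, -, he⟩ | h
    · exact H803.RankOneFacts.R1.of_psl he
    · exact H803.RankOneFacts.R1.of_suzuki h
  refine ⟨?_, ?_, ?_, ?_⟩
  · intro s t hs hs1 ht ht1
    have := h1.conj s t (orderOf_eq_prime (by rw [pow_two]; exact hs) hs1)
      (orderOf_eq_prime (by rw [pow_two]; exact ht) ht1)
    obtain ⟨c, hc⟩ := isConj_iff.1 this
    exact ⟨c, hc⟩
  · intro P Q R hQ hR
    obtain ⟨g, hg, hgQ⟩ := h1.trans P Q R hQ hR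
    refine ⟨g, hg, fun y hy => ?_⟩
    rw [← hgQ, H803.RankOneFacts.mem_smul_iff]
    have : g⁻¹ * (g * y * g⁻¹) * g = y := by group
    rwa [this]
  · intro P Q y hP hQ hy
    by_contra hne
    have h2 := h1.ti P Q hne
    have h3 : y ∈ (P : Subgroup K) ⊓ Q := ⟨hP, hQ⟩
    rw [h2] at h3
    exact hy (Subgroup.mem_bot.1 h3)
  · intro P s hs t ht hss htt
    exact h1.comm P s hs t ht hss htt

theorem rankOneR1 : RankOneR1.{u} := fun K _ _ D d x a h ha had =>
  r1_of (rankOneThm K D d x a h ha had)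

end Cfsg.Agent.H738
end

private theorem dce_9aff8375cca6 : _root_.True := by
  try have : _root_.True := by simp only [_root_.Cfsg.commutingMembers.eq_1]
  exact _root_.True.intro
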