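import Cfsg.Agent.H738.Final
import Cfsg.Agent.S5044
import Cfsg.Agent.S5048
import Cfsg.Agent.Involutions.BaerSuzuki
import Cfsg.Agent.BenderType.Classify
import Cfsg.Agent.H629.PslTwoEven
import Cfsg.Agent.Lib.Cores
import Cfsg.Agent.FastGrp
import Cfsg.Agent.Prune
set_option linter.all false
prune_inst 0x7ff8fefbcff8bddfffff7e7fffdddffdfdfdffffffdffbfbfffcfbffbfff6b0efde5fbad7ff8daff0ef7e29e30f87b13fffffeffef6fdc7ffffd5ff45ffbff9fffffbd8971f68c3e1fbc6ffff3f17fce7f3fffffffffffffffffffffffffffbeffffffffffff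
open scoped Cfsg.Agent.FastGrp

-- part: H738/Deep
section
/-!
# Odd transpositions: `E(d) ∩ C(x) ≤ O₂(G)`

`deep`: `G` finite, `D` a generating class of odd transpositions containing a line, `d, x ∈ D` not
commuting, `j ∈ ⟨E_d⟩` commuting with `x`.  Then `j ∈ O₂(G)`.
-/

set_option autoImplicit false

universe u

namespace Cfsg.Agent.H738

open Cfsg.Agent.H737

/-! ### Generalities -/

section Gen

variable {G : Type*} [Group G]

theorem closure_commute {S : Set G} (h2 : ∀ s ∈ S, ∀ t ∈ S, Commute s t) {x y : G}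
    (hx : x ∈ Subgroup.closure S) (hy : y ∈ Subgroup.closure S) : Commute x y := by
  have h3 : ∀ n ∈ S, Commute n y := by
    intro n hn
    induction hy using Subgroup.closure_induction with
    | mem y hy => exact h2 n hn y hy
    | one => exact Commute.one_right _
    | mul a b _ _ ha hb => exact ha.mul_right hb
    | inv a _ ha => exact ha.inv_right
  induction hx using Subgroup.closure_induction with
  | mem x hx => exact h3 x hx
  | one => exact Commute.one_left _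
  | mul a b _ _ ha hb => exact ha.mul_left hb
  | inv a _ ha => exact ha.inv_left

theorem closure_sq {S : Set G} (h1 : ∀ s ∈ S, s * s = 1)
    (h2 : ∀ s ∈ S, ∀ t ∈ S, Commute s t) {x : G} (hx : x ∈ Subgroup.closure S) : x * x = 1 := by
  induction hx using Subgroup.closure_induction with
  | mem x hx => exact h1 x hx
  | one => simp
  | mul a b ha hb iha ihb =>
    have := (closure_commute h2 ha hb).eq
    calc a * b * (a * b) = a * (b * a) * b := by group
      _ = a * (a * b) * b := by rw [← this]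
      _ = (a * a) * (b * b) := by group
      _ = 1 := by rw [iha, ihb, one_mul]
  | inv a ha iha =>
    rw [inv_of_sq iha]; exact iha

/-- An element commuting with generators commutes with the group. -/
theorem commute_closure {S : Set G} {j : G} (h : ∀ s ∈ S, Commute j s) {x : G}
    (hx : x ∈ Subgroup.closure S) : Commute j x := by
  induction hx using Subgroup.closure_induction with
  | mem y hy => exact h y hy
  | one => exact Commute.one_right _
  | mul a b _ _ ha hb => exact ha.mul_right hb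
  | inv a _ ha => exact ha.inv_right

theorem conj_mem_closure {S T : Set G} {g : G} (h : ∀ s ∈ S, g * s * g⁻¹ ∈ T) {x : G}
    (hx : x ∈ Subgroup.closure S) : g * x * g⁻¹ ∈ Subgroup.closure T := by
  induction hx using Subgroup.closure_induction with
  | mem y hy => exact Subgroup.subset_closure (h y hy)
  | one => simp
  | mul a b _ _ ha hb =>
    have := mul_mem ha hb
    simpa only [mul_assoc, _root_.inv_mul_cancel_left] using this
  | inv a _ ha =>
    have := inv_mem ha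
    simpa only [mul_assoc, _root_.mul_inv_rev, _root_.inv_inv] using this

theorem map_mem_closure' {K : Type*} [Group K] (f : G →* K) {S : Set G} {T : Set K}
    (h : ∀ s ∈ S, f s ∈ T) {x : G} (hx : x ∈ Subgroup.closure S) : f x ∈ Subgroup.closure T := by
  induction hx using Subgroup.closure_induction with
  | mem y hy => exact Subgroup.subset_closure (h y hy)
  | one => rw [map_one]; exact one_mem _
  | mul a b _ _ ha hb => rw [map_mul]; exact mul_mem ha hb
  | inv a _ ha => rw [map_inv]; exact inv_mem ha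

theorem mem_closure_sub {S : Set G} {L : Subgroup G} (hS : ∀ s ∈ S, s ∈ L) {T : Set ↥L}
    (hT : ∀ y : ↥L, (y : G) ∈ S → y ∈ T) {x : G} (hx : x ∈ Subgroup.closure S) (hxL : x ∈ L) :
    (⟨x, hxL⟩ : ↥L) ∈ Subgroup.closure T := by
  have key : ∀ z (_ : z ∈ Subgroup.closure S), ∀ hzL : z ∈ L,
      (⟨z, hzL⟩ : ↥L) ∈ Subgroup.closure T := by
    intro z hz
    have hle : Subgroup.closure S ≤ L := (Subgroup.closure_le L).2 hS
    induction hz using Subgroup.closure_induction with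
    | mem z hz => intro hzL; exact Subgroup.subset_closure (hT _ hz)
    | one => intro _; exact one_mem _
    | mul a b ha hb iha ihb =>
      intro _
      exact mul_mem (iha (hle ha)) (ihb (hle hb))
    | inv a ha iha =>
      intro _
      exact inv_mem (iha (hle ha))
  exact key x hx hxL

/-- Members whose product lies in a 2-group commute. -/
theorem OT.commute_of_mul_mem {D : Set G} (hD : OT D) {a b : G} (ha : a ∈ D) (hb : b ∈ D)
    {P : Subgroup G} (hP : IsPGroup 2 P) (hab : a * b ∈ P) : Commute a b := by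
  rcases hD.pair a ha b hb with h1 | h1
  · exact h1
  · have h2 : a * b = 1 := eq_one_of_odd_of_mem hP h1 (pow_mem hab 2)
    have h3 : a = b := by
      calc a = (a * b) * b⁻¹ := by group
        _ = b := by rw [h2, hD.inv hb, one_mul]
    rw [h3]

/-! ### Components for noncommuting -/

/-- The component of `d` in the graph "not commuting" on `S`. -/
def Comp (S : Set G) (d : G) : Set G :=
  {z | z ∈ S ∧ Relation.ReflTransGen (fun a b => a ∈ S ∧ b ∈ S ∧ ¬ Commute a b) d z}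

theorem self_mem_comp {S : Set G} {d : G} (hd : d ∈ S) : d ∈ Comp S d := ⟨hd, .refl⟩

theorem mem_comp_of {S : Set G} {d y z : G} (hz : z ∈ Comp S d) (hy : y ∈ S)
    (h : ¬ Commute z y) : y ∈ Comp S d := ⟨hy, hz.2.tail ⟨hz.1, hy, h⟩⟩

theorem commute_of_not_mem_comp {S : Set G} {d y z : G} (hz : z ∈ Comp S d) (hy : y ∈ S)
    (h : y ∉ Comp S d) : Commute z y := by
  by_contra h1
  exact h (mem_comp_of hz hy h1)

end Gen

/-- `D` is a generating class of odd transpositions; every member lies on a line. -/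
structure Hyp {G : Type u} [Group G] (D : Set G) : Prop where
  ot : OT D
  gen : Subgroup.closure D = ⊤
  cls : ∀ y ∈ D, ∀ z ∈ D, ∃ g : G, g * y * g⁻¹ = z
  line : ∀ y ∈ D, ∃ a ∈ D, Commute a y ∧ a * y ∈ D

namespace Hyp

variable {G : Type u} [Group G] {D : Set G}

theorem conj (h : Hyp D) {y : G} (hy : y ∈ D) (g : G) : g * y * g⁻¹ ∈ D :=
  h.ot.conj_closure (by rw [h.gen]; exact Subgroup.mem_top g) hy

theorem conj' (h : Hyp D) {a t : G} (ha : a ∈ D) (ht : t * t = 1) : t * a * t ∈ D := by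
  have h1 := h.conj ha t
  rwa [inv_of_sq ht] at h1

/-- Every member has a noncommuting partner. -/
theorem exists_nc (h : Hyp D) {d x : G} (hd : d ∈ D) (hx : x ∈ D) (hdx : ¬ Commute d x) {y : G}
    (hy : y ∈ D) : ∃ z ∈ D, ¬ Commute z y := by
  obtain ⟨g, hg⟩ := h.cls d hd y hy
  refine ⟨g * x * g⁻¹, h.conj hx g, ?_⟩
  rw [← hg]
  intro h1
  apply hdx
  have h2 : g * x * g⁻¹ * (g * d * g⁻¹) = g * d * g⁻¹ * (g * x * g⁻¹) := h1
  show d * x = x * d
  calc d * x = g⁻¹ * (g * d * g⁻¹ * (g * x * g⁻¹)) * g := by group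
    _ = g⁻¹ * (g * x * g⁻¹ * (g * d * g⁻¹)) * g := by rw [h2]
    _ = x * d := by group

theorem isRoot (h : Hyp D) : IsRootInvolutionSet D := by
  have ho : ∀ a ∈ D, orderOf a = 2 := fun a ha =>
    orderOf_eq_prime (by rw [pow_two]; exact h.ot.sq a ha) (h.ot.ne a ha)
  refine ⟨ho, h.gen, fun a ha g => h.conj ha g, ?_⟩
  intro a ha b hb
  rcases h.ot.pair a ha b hb with h1 | h1
  · exact Or.inl h1
  · exact Or.inr (Or.inl h1)

theorem line_cls (h : Hyp D) {y a : G} (hy : y ∈ D) (ha : a ∈ D) (hay : Commute a y)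
    (hayD : a * y ∈ D) : a ∈ Cls D y ∧ a * y ∈ Cls D y ∧ a ≠ y := by
  have h1 : Eqv D y a := h.ot.line_eqv hy ha hay.symm (by rw [← hay.eq]; exact hayD)
  refine ⟨⟨ha, h1⟩, ⟨hayD, h1.trans (h.ot.line_eqv_mul ha hy hay hayD)⟩, ?_⟩
  rintro rfl
  exact h.ot.ne _ hayD (h.ot.sq a ha)

theorem nonempty_line (h : Hyp D) {d : G} (hd : d ∈ D) : (D ∩ commutingProducts D).Nonempty := by
  obtain ⟨a, ha, had, hadD⟩ := h.line d hd
  exact ⟨a * d, hadD, a, ha, d, hd, had.eq, h.ot.ne _ hadD, rfl⟩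

/-- Equivalent members and conjugation. -/
theorem cls_conj (h : Hyp D) {a b : G} (g : G) (hab : a ∈ Cls D b) :
    g * a * g⁻¹ ∈ Cls D (g * b * g⁻¹) := by
  refine ⟨h.conj hab.1 g, ?_⟩
  intro y hy
  have e : ∀ c : G, Commute y (g * c * g⁻¹) ↔ Commute (g⁻¹ * y * g) c := by
    intro c
    constructor
    · intro h1
      show g⁻¹ * y * g * c = c * (g⁻¹ * y * g)
      calc g⁻¹ * y * g * c = g⁻¹ * (y * (g * c * g⁻¹)) * g := by group
        _ = g⁻¹ * ((g * c * g⁻¹) * y) * g := by rw [h1.eq]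
        _ = _ := by group
    · intro h1
      show y * (g * c * g⁻¹) = g * c * g⁻¹ * y
      calc y * (g * c * g⁻¹) = g * ((g⁻¹ * y * g) * c) * g⁻¹ := by group
        _ = g * (c * (g⁻¹ * y * g)) * g⁻¹ := by rw [h1.eq]
        _ = _ := by group
  rw [e, e]
  refine hab.2 _ ?_
  have := h.conj hy g⁻¹
  rwa [inv_inv] at this

theorem cls_comm (h : Hyp D) {d : G} (hd : d ∈ D) : ∀ a ∈ Cls D d, ∀ b ∈ Cls D d, Commute a b := by
  intro a ha b hb
  have h1 : Commute d a := (ha.2 d hd).1 (Commute.refl d)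
  exact ((hb.2 a ha.1).1 h1.symm)

theorem cls_sq (h : Hyp D) {d : G} : ∀ a ∈ Cls D d, a * a = 1 := fun a ha => h.ot.sq a ha.1

theorem commute_closure_cls (_h : Hyp D) {d y : G} (hy : y ∈ D) (hyd : Commute y d) {j : G}
    (hj : j ∈ Subgroup.closure (Cls D d)) : Commute y j :=
  commute_closure (fun s hs => (hs.2 y hy).1 hyd) hj

/-- The image modulo a normal 2-subgroup. -/
theorem image (h : Hyp D) {K : Type u} [Group K] {f : G →* K} (hf : Function.Surjective f)
    (hker : Ker2 f) {d x : G} (hd : d ∈ D) (hx : x ∈ D) (hdx : ¬ Commute d x) : Hyp (Im f D) := by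
  have hmem : ∀ y ∈ D, f y ∈ Im f D := by
    intro y hy
    obtain ⟨z, hz, hzy⟩ := h.exists_nc hd hx hdx hy
    exact hker.map_mem h.ot hy hz hzy
  refine ⟨im_ot f h.ot, closure_image hf h.gen hmem, ?_, ?_⟩
  · rintro _ ⟨-, a, ha, rfl⟩ _ ⟨-, b, hb, rfl⟩
    obtain ⟨g, hg⟩ := h.cls a ha b hb
    exact ⟨f g, by rw [← map_mul, ← map_inv, ← map_mul, hg]⟩
  · rintro _ ⟨-, a, ha, rfl⟩
    obtain ⟨b, hb, hba, hbaD⟩ := h.line a ha
    exact ⟨f b, hmem b hb, hba.map f, by rw [← map_mul]; exact hmem _ hbaD⟩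

end Hyp

/-! ### The disconnected case -/

theorem deep_disconnected {G : Type u} [Group G] [Finite G] {D : Set G} (h : Hyp D)
    (hO : pCore 2 G = ⊥) (hdis : ¬ IsConnectedSet (CommAdj D) D) {d x j : G} (hd : d ∈ D)
    (hx : x ∈ D) (hdx : ¬ Commute d x) (hj : j ∈ Subgroup.closure (Cls D d)) (hjx : Commute j x) :
    j = 1 := by
  have hD := h.isRoot
  have hDD := h.nonempty_line hd
  have hc := H736.RootDisc.isConnectedSet_oddAdj hD hdis
  have hsim : IsSimpleGroup (G ⧸ twoZCore G) := (S5048.result hD hc hDD).2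
  have hne : twoZCore G ≠ ⊤ := by
    intro htop
    obtain ⟨a, ha, c, hcD, hca⟩ := H737.exists_opp_of_line hD hc hDD
    apply H737.mul_not_mem_twoZCore hD ha hcD hca
    rw [htop]; exact Subgroup.mem_top _
  have hDN : ∀ d ∈ D, d ∉ twoZCore G := fun d hd =>
    H737.not_mem_of_normal_ne_top hD hc inferInstance hne hd
  have hroot := H736.RootDisc.image_root hD hDN
  have hdis' := H736.RootDisc.image_disconnected hD hdis
  have hmul : ∀ a ∈ QuotientGroup.mk' (twoZCore G) '' D, ∀ b ∈ QuotientGroup.mk' (twoZCore G) '' D,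
      Commute a b → a ≠ b → a * b ∈ QuotientGroup.mk' (twoZCore G) '' D :=
    fun a ha b hb hab hne =>
      H736.RootDisc.mul_mem_root hroot (H736.RootDisc.faithful hroot hdis') ha hb hab hne
  set f := QuotientGroup.mk' (twoZCore G) with hf
  -- members not commuting do not commute modulo `Z_*`
  have hncf : ∀ a ∈ D, ∀ b ∈ D, ¬ Commute a b → ¬ Commute (f a) (f b) := by
    intro a ha b hb hab hcon
    have hodd := h.ot.odd_of ha hb hab
    have hne : a ≠ b := by rintro rfl; exact hab (Commute.refl _)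
    apply mul_not_mem_twoZCore hD hb ha ⟨hne, hodd⟩
    have h1 : (a * b) ^ 2 ∈ twoZCore G := by
      rw [← QuotientGroup.eq_one_iff]
      show f ((a * b) ^ 2) = 1
      rw [pow_two]
      have e : a * b * (a * b) = a * (b * a) * b := by group
      rw [e, map_mul, map_mul, map_mul, ← hcon.eq, ← map_mul, ← map_mul, ← map_mul]
      have e2 : a * (a * b) * b = (a * a) * (b * b) := by group
      rw [e2, h.ot.sq a ha, h.ot.sq b hb, one_mul, map_one]
    obtain ⟨k, hk⟩ := exists_pow_sq hodd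
    rw [← hk]
    exact pow_mem h1 k
  have hcf : ∀ a ∈ D, ∀ b ∈ D, (Commute (f a) (f b) ↔ Commute a b) := fun a ha b hb =>
    ⟨fun h1 => by
      by_contra h2
      exact hncf a ha b hb h2 h1, fun h1 => h1.map f⟩
  -- the image of `⟨E_d⟩` consists of `1` and images of elements of `D` not commuting with `f x`
  have key : ∀ k ∈ Subgroup.closure (Cls D d), f k = 1 ∨
      ((∃ e ∈ D, f e = f k) ∧ ∀ y ∈ D, Commute (f y) (f k) ↔ Commute y d) := by
    intro k hk
    induction hk using Subgroup.closure_induction with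
    | mem e he =>
      refine Or.inr ⟨⟨e, he.1, rfl⟩, fun y hy => ?_⟩
      rw [hcf y hy e he.1]
      exact (he.2 y hy).symm
    | one => exact Or.inl (map_one f)
    | mul a b ha hb iha ihb =>
      rcases iha with h1 | ⟨⟨e, he, hea⟩, h1⟩
      · rcases ihb with h2 | h2
        · left; rw [map_mul, h1, h2, one_mul]
        · right
          rw [map_mul, h1, one_mul]; exact h2
      · rcases ihb with h2 | ⟨⟨e', he', heb⟩, h2⟩
        · right
          rw [map_mul, h2, mul_one]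
          exact ⟨⟨e, he, hea⟩, h1⟩
        · by_cases hab : f a = f b
          · left
            rw [map_mul, hab, ← heb, ← map_mul, h.ot.sq e' he', map_one]
          · right
            -- `f a`, `f b` commute, and `f a * f b` is in the image
            have hed : Commute e d := (h1 e he).1 (by rw [hea])
            have hcomm : Commute (f a) (f b) := by
              rw [← hea]; exact (h2 e he).2 hed
            obtain ⟨c, hcD, hce⟩ := hmul (f a) ⟨e, he, hea⟩ (f b) ⟨e', he', heb⟩ hcomm hab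
            have hce' : f c = f (a * b) := by rw [hce, map_mul]
            refine ⟨⟨c, hcD, hce'⟩, fun y hy => ?_⟩
            -- use the line `f a, f b, f c`
            have hline : ∀ y ∈ D, Commute (f y) (f a) → Commute (f y) (f a * f b) := by
              intro y hy h3
              refine h3.mul_right ?_
              exact (h2 y hy).2 ((h1 y hy).1 h3)
            rw [map_mul]
            constructor
            · intro h3
              -- `c` commutes with `e`, so `e c ∈ D` modulo `Z_*`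
              by_contra hyd
              have hya : ¬ Commute (f y) (f a) := fun h4 => hyd ((h1 y hy).1 h4)
              have hyb : ¬ Commute (f y) (f b) := fun h4 => hyd ((h2 y hy).1 h4)
              -- `y` commutes with `f a * f b`, both noncommuting: use `OT` of the image
              have hot := im_ot f h.ot
              have m : ∀ z ∈ D, f z ∈ Im f D := fun z hz =>
                ⟨fun h5 => hDN z hz ((QuotientGroup.eq_one_iff z).1 h5), z, hz, rfl⟩
              apply hya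
              rw [← hea] at hcomm h3 hab ⊢
              rw [← heb] at hcomm h3 hab
              exact hot.commute_of_commute_mul (m e he) (m e' he') hcomm hab (m y hy) h3
            · intro h3
              exact hline y hy ((h1 y hy).2 h3)
    | inv a ha iha =>
      have haa : a * a = 1 := closure_sq h.cls_sq (h.cls_comm hd) ha
      rw [inv_of_sq haa]; exact iha
  rcases key j hj with h1 | h1
  · -- `j ∈ Z_*(G) = Z(G)`
    have h2 : j ∈ twoZCore G := (QuotientGroup.eq_one_iff j).1 h1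
    have hjj : j * j = 1 := closure_sq h.cls_sq (h.cls_comm hd) hj
    have hc' : ∀ g : G, Commute j g := by
      intro g
      rw [twoZCore, Subgroup.mem_comap, Subgroup.mem_center_iff] at h2
      have h3 := h2 (QuotientGroup.mk' (pCore 2 G) g)
      have h4 : QuotientGroup.mk' (pCore 2 G) (g * j * (j * g)⁻¹) = 1 := by
        rw [map_mul, map_mul, map_inv, h3, map_mul, mul_inv_cancel]
      have h5 : g * j * (j * g)⁻¹ ∈ pCore 2 G := (QuotientGroup.eq_one_iff _).1 h4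
      rw [hO, Subgroup.mem_bot, mul_inv_eq_one] at h5
      exact h5.symm
    have h6 : ∀ N : Subgroup G, N.Normal → IsPGroup 2 N → N = ⊥ := by
      intro N hN hP
      have := Lib.Cores.le_pCore hN hP
      rwa [hO, le_bot_iff] at this
    exact eq_one_of_central' h.gen h6 hjj (fun e _ => hc' e)
  · exfalso
    apply hdx
    exact ((h1.2 x hx).1 ((hjx.map f).symm)).symm

/-- **Baer–Suzuki step**: an element `j` of `⟨E_d⟩` such that every `y ∈ D` commutes with `y^j` lies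
in `O₂(G)`. -/
theorem mem_pCore_of_main {G : Type u} [Group G] [Finite G] {D : Set G} (h : Hyp D) {d j : G}
    (hd : d ∈ D) (hj : j ∈ Subgroup.closure (Cls D d)) (main : ∀ y ∈ D, Commute y (j * y * j)) :
    j ∈ pCore 2 G := by
  have hjj : j * j = 1 := closure_sq h.cls_sq (h.cls_comm hd) hj
  have hfact : Fact (Nat.Prime 2) := ⟨Nat.prime_two⟩
  have hconj : ∀ g : G, ∀ y ∈ D, Commute y ((g * j * g⁻¹) * y * (g * j * g⁻¹)) := by
    intro g y hy
    have h1 := main (g⁻¹ * y * g) (by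
      have := h.conj hy g⁻¹
      rwa [inv_inv] at this)
    have h2 : g⁻¹ * y * g * (j * (g⁻¹ * y * g) * j) = j * (g⁻¹ * y * g) * j * (g⁻¹ * y * g) := h1
    show y * (g * j * g⁻¹ * y * (g * j * g⁻¹)) = g * j * g⁻¹ * y * (g * j * g⁻¹) * y
    calc y * (g * j * g⁻¹ * y * (g * j * g⁻¹)) =
          g * (g⁻¹ * y * g * (j * (g⁻¹ * y * g) * j)) * g⁻¹ := by group
      _ = g * (j * (g⁻¹ * y * g) * j * (g⁻¹ * y * g)) * g⁻¹ := by rw [h2]
      _ = _ := by group
  have hpair : ∀ g : G, Commute j ((g * j * g⁻¹) * j * (g * j * g⁻¹)) := by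
    intro g
    set k : G := g * j * g⁻¹ with hk
    have hkk : k * k = 1 := by
      calc k * k = g * (j * j) * g⁻¹ := by rw [hk]; group
        _ = 1 := by rw [hjj]; group
    -- `k E k` commutes with `E`
    have h1 : ∀ e ∈ Cls D d, ∀ e' ∈ Cls D d, Commute e' (k * e * k) := by
      intro e he e' he'
      have h2 : Commute (k * e * k) e := (hconj g e he.1).symm
      have h3 : Commute (k * e * k) d := (he.2 _ (h.conj' he.1 hkk)).2 h2
      exact ((he'.2 _ (h.conj' he.1 hkk)).1 h3).symm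
    have h2 : ∀ e ∈ Cls D d, Commute e (k * j * k) := by
      intro e he
      have h3 : k * j * k⁻¹ ∈ Subgroup.closure ((fun e => k * e * k) '' Cls D d) :=
        conj_mem_closure (S := Cls D d) (T := (fun e => k * e * k) '' Cls D d) (g := k)
          (fun s hs => ⟨s, hs, by
          show k * s * k = k * s * k⁻¹
          rw [inv_of_sq hkk]⟩) hj
      rw [inv_of_sq hkk] at h3
      refine commute_closure ?_ h3
      rintro _ ⟨s, hs, rfl⟩
      exact h1 s hs e he
    exact (commute_closure (fun s hs => (h2 s hs).symm) hj).symm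
  have hp4 : ∀ g : G, IsPGroup 2 (Subgroup.closure {j, g * j * g⁻¹} : Subgroup G) := by
    intro g
    have hkk : (g * j * g⁻¹) * (g * j * g⁻¹) = 1 := by
      calc (g * j * g⁻¹) * (g * j * g⁻¹) = g * (j * j) * g⁻¹ := by group
        _ = 1 := by rw [hjj]; group
    have h1 := hpair g
    set k : G := g * j * g⁻¹ with hk
    have h4 : (j * k) ^ 4 = 1 := by
      have e : (j * k) ^ 4 = (j * (k * j * k)) * (j * (k * j * k)) := by
        simp only [pow_succ, pow_zero, one_mul, mul_assoc]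
      rw [e]
      have hkjk : (k * j * k) * (k * j * k) = 1 := by
        calc (k * j * k) * (k * j * k) = k * j * (k * k) * j * k := by group
          _ = k * (j * j) * k := by rw [hkk]; group
          _ = 1 := by rw [hjj, mul_one, hkk]
      calc j * (k * j * k) * (j * (k * j * k)) = j * ((k * j * k) * j) * (k * j * k) := by group
        _ = j * (j * (k * j * k)) * (k * j * k) := by rw [h1.eq]
        _ = (j * j) * ((k * j * k) * (k * j * k)) := by group
        _ = 1 := by rw [hjj, hkjk, one_mul]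
    have h5 : orderOf (j * k) ∣ 2 ^ 2 := orderOf_dvd_of_pow_eq_one h4
    obtain ⟨l, -, hl⟩ := (Nat.dvd_prime_pow Nat.prime_two).1 h5
    exact two_group_of_pair hjj hkk hl
  have hK := Cfsg.Agent.Involutions.BaerSuzuki.baer_suzuki_set (p := 2) (K := {z : G | ∃ g : G, z = g * j * g⁻¹})
    (by
      rintro g _ ⟨k, rfl⟩
      exact ⟨g * k, by group⟩)
    (by
      rintro _ ⟨g, rfl⟩ _ ⟨k, rfl⟩
      have h1 := hp4 (g⁻¹ * k)
      have h2 := h1.map (MulAut.conj g).toMonoidHom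
      rw [MonoidHom.map_closure] at h2
      refine h2.to_le ?_
      rw [Subgroup.closure_le]
      rintro z (rfl | hz)
      · exact Subgroup.subset_closure ⟨j, by simp, by simp⟩
      · rw [Set.mem_singleton_iff.1 hz]
        refine Subgroup.subset_closure ⟨g⁻¹ * k * j * (g⁻¹ * k)⁻¹, by simp only [_root_.mul_inv_rev, _root_.inv_inv, _root_.Set.mem_insert_iff, _root_.Set.mem_singleton_iff, _root_.or_true], ?_⟩
        simp only [mul_assoc, _root_.MulEquiv.toMonoidHom_eq_coe, _root_.mul_assoc, _root_.mul_inv_rev, _root_.inv_inv, _root_.MonoidHom.coe_coe, _root_.MulAut.conj_apply, _root_.mul_inv_cancel_left, _root_.mul_inv_cancel, _root_.mul_one])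
  have hKn : (Subgroup.closure {z : G | ∃ g : G, z = g * j * g⁻¹} : Subgroup G).Normal := by
    constructor
    intro z hz g
    refine conj_mem_closure (S := {z : G | ∃ g : G, z = g * j * g⁻¹}) ?_ hz
    rintro _ ⟨k, rfl⟩
    exact ⟨g * k, by group⟩
  have h1 := Lib.Cores.le_pCore hKn hK
  exact h1 (Subgroup.subset_closure ⟨1, by group⟩)

/-! ### The induction -/

theorem deep_aux (n : ℕ) : ∀ (G : Type u) [Group G] [Finite G] (D : Set G), Nat.card G = n →
    Hyp D → ∀ d ∈ D, ∀ x ∈ D, ¬ Commute d x → ∀ j ∈ Subgroup.closure (Cls D d), Commute j x →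
    j ∈ pCore 2 G := by
  induction n using Nat.strong_induction_on with
  | _ n ih =>
  intro G _ _ D hn h d hd x hx hdx j hj hjx
  by_cases hO : pCore 2 G = ⊥
  · -- `O₂(G) = 1`
    rw [hO, Subgroup.mem_bot]
    by_cases hc : IsConnectedSet (CommAdj D) D
    · -- connected case
      have hjj : j * j = 1 := closure_sq h.cls_sq (h.cls_comm hd) hj
      set S : Set G := {z | z ∈ D ∧ Commute z j} with hS
      have hdS : d ∈ S := ⟨hd, h.commute_closure_cls hd (Commute.refl d) hj⟩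
      have hxS : x ∈ S := ⟨hx, hjx.symm⟩
      have hC : ∀ z ∈ Comp S d, j ∈ Subgroup.closure (Cls D z) := by
        rintro z ⟨-, hz⟩
        induction hz with
        | refl => exact hj
        | tail _ h3 ih' =>
          rename_i y z _
          obtain ⟨hy, hz, hyz⟩ := h3
          obtain ⟨g, hg, hgz⟩ := h.ot.exists_conj hy.1 hz.1 hyz
          have hjg : Commute j g := commute_closure (by
            rintro s (rfl | hs)
            · exact hy.2.symm
            · rw [Set.mem_singleton_iff.1 hs]; exact hz.2.symm) hg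
          have h4 := conj_mem_closure (g := g) (T := Cls D z) (fun s hs => by
            have := h.cls_conj g hs
            rwa [hgz] at this) ih'
          have e : g * j * g⁻¹ = j := by rw [← hjg.eq]; group
          rwa [e] at h4
      -- members not commuting with `j`
      have main : ∀ y ∈ D, Commute y (j * y * j) := by
        intro y hy
        by_cases hyj : Commute y j
        · have : j * y * j = y := by rw [← hyj.eq, mul_assoc, hjj, mul_one]
          rw [this]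
        · have hyd : ¬ Commute y d := fun h1 => hyj (h.commute_closure_cls hy h1 hj)
          obtain ⟨m, hm, hmd, hmy⟩ := exists_common rankOneR1 h.ot (fun y hy g => h.conj hy g)
            h.cls h.line hc hd hy
          have hmS : m ∈ S := ⟨hm, h.commute_closure_cls hm hmd hj⟩
          have hmC : m ∉ Comp S d := by
            intro h1
            exact hyj (h.commute_closure_cls hy hmy.symm (hC m h1))
          have hmx : Commute x m :=
            commute_of_not_mem_comp (mem_comp_of (self_mem_comp hdS) hxS hdx) hmS hmC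
          -- the component of `C_D(m)`
          set T : Set G := {z | z ∈ D ∧ Commute z m} with hT
          have hdT : d ∈ T := ⟨hd, hmd.symm⟩
          have hxT : x ∈ T := ⟨hx, hmx⟩
          have hyT : y ∈ T := ⟨hy, hmy.symm⟩
          set Cm : Set G := Comp T d with hCm
          have hdC : d ∈ Cm := self_mem_comp hdT
          have hxC : x ∈ Cm := mem_comp_of hdC hxT hdx
          have hyC : y ∈ Cm := mem_comp_of hdC hyT (fun h1 => hyd h1.symm)
          have hCD : Cm ⊆ D := fun z hz => hz.1.1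
          set L : Subgroup G := Subgroup.closure Cm with hL
          have hCL : ∀ z ∈ Cm, z ∈ L := fun z hz => Subgroup.subset_closure hz
          have hCot : OT Cm := by
            refine ⟨fun a ha => h.ot.sq a (hCD ha), fun a ha => h.ot.ne a (hCD ha), ?_,
              fun a ha b hb => h.ot.pair a (hCD ha) b (hCD hb)⟩
            intro a ha b hb
            by_cases hab : Commute a b
            · have : b * a * b = a := by rw [← hab.eq, mul_assoc, h.ot.sq b (hCD hb), mul_one]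
              rw [this]; exact ha
            · refine mem_comp_of hb ⟨h.ot.conj a (hCD ha) b (hCD hb), ?_⟩ ?_
              · exact (hb.1.2.mul_left ha.1.2).mul_left hb.1.2
              · intro h1
                apply hab
                have h2 := commute_conj_of_sq (h.ot.sq b (hCD hb)) h1
                rw [conj_conj_of_sq (h.ot.sq b (hCD hb)), h.ot.sq b (hCD hb), one_mul] at h2
                exact h2.symm
          have hclsL : ∀ z ∈ Cm, ∃ g ∈ L, g * d * g⁻¹ = z := by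
            rintro z ⟨-, hz⟩
            have : ∀ w, Relation.ReflTransGen (fun a b => a ∈ T ∧ b ∈ T ∧ ¬ Commute a b) d w →
                (w ∈ T → w ∈ Cm) ∧ ∃ g ∈ L, g * d * g⁻¹ = w := by
              intro w hw
              induction hw with
              | refl => exact ⟨fun _ => hdC, 1, one_mem _, by group⟩
              | tail h2 h3 ih' =>
                rename_i y' z'
                obtain ⟨hy', hz', hyz⟩ := h3
                obtain ⟨h4, g, hg, hgy⟩ := ih'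
                have hy'C := h4 hy'
                have hz'C : z' ∈ Cm := mem_comp_of hy'C hz' hyz
                refine ⟨fun _ => hz'C, ?_⟩
                obtain ⟨k, hk, hkz⟩ := h.ot.exists_conj hy'.1 hz'.1 hyz
                refine ⟨k * g, mul_mem ?_ hg, by rw [← hkz, ← hgy]; group⟩
                refine (Subgroup.closure_le L).2 ?_ hk
                rintro s (rfl | hs)
                · exact hCL _ hy'C
                · rw [Set.mem_singleton_iff.1 hs]; exact hCL _ hz'C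
            exact (this z hz).2
          have hLconj : ∀ g ∈ L, ∀ z ∈ Cm, g * z * g⁻¹ ∈ Cm := fun g hg z hz =>
            hCot.conj_closure hg hz
          have hHyp : Hyp (Sub Cm L) := by
            refine ⟨sub_ot hCot L, closure_sub hL.symm (fun y hy => hy), ?_, ?_⟩
            · rintro y' hy' z' hz'
              obtain ⟨g, hg, hgy⟩ := hclsL _ hy'
              obtain ⟨k, hk, hkz⟩ := hclsL _ hz'
              refine ⟨⟨k * g⁻¹, mul_mem hk (inv_mem hg)⟩, Subtype.ext ?_⟩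
              show k * g⁻¹ * (y' : G) * (k * g⁻¹)⁻¹ = z'
              rw [← hgy, ← hkz]; group
            · rintro ⟨y', hy'L⟩ hy'
              have hy'C : y' ∈ Cm := hy'
              obtain ⟨g, hg, hgy⟩ := hclsL _ hy'C
              have hzC : g * x * g⁻¹ ∈ Cm := hLconj g hg x hxC
              have hzy : ¬ Commute (g * x * g⁻¹) y' := by
                rw [← hgy]
                intro h1
                apply hdx
                have h2 : g * x * g⁻¹ * (g * d * g⁻¹) = g * d * g⁻¹ * (g * x * g⁻¹) := h1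
                show d * x = x * d
                calc d * x = g⁻¹ * (g * d * g⁻¹ * (g * x * g⁻¹)) * g := by group
                  _ = g⁻¹ * (g * x * g⁻¹ * (g * d * g⁻¹)) * g := by rw [h2]
                  _ = x * d := by group
              obtain ⟨a, ha, hay, hayD⟩ := h.line y' (hCD hy'C)
              obtain ⟨c1, c2, -⟩ := h.line_cls (hCD hy'C) ha hay hayD
              have hin : ∀ e ∈ Cls D y', e ∈ Cm := by
                intro e he
                refine mem_comp_of hzC ⟨he.1, ?_⟩ ?_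
                · exact ((he.2 m hm).1 hy'C.1.2.symm).symm
                · intro h1
                  exact hzy ((he.2 _ (hCD hzC)).2 h1)
              refine ⟨⟨a, hCL _ (hin a c1)⟩, hin a c1, Subtype.ext hay, hin _ c2⟩
          have hlt : Nat.card ↥L < n := by
            rw [← hn]
            have hne : L ≠ ⊤ := by
              intro htop
              obtain ⟨z, hz, hzm⟩ := h.exists_nc hd hx hdx hm
              apply hzm
              have hzL : z ∈ L := by rw [htop]; exact Subgroup.mem_top z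
              exact (commute_closure (fun s hs => (hs.1.2).symm) hzL).symm
            have h1 := Subgroup.card_le_card_group L
            rcases h1.lt_or_eq with h2 | h2
            · exact h2
            · exact absurd (Subgroup.eq_top_of_card_eq L h2) hne
          have hclsC : ∀ e ∈ Cls D d, e ∈ Cm := by
            intro e he
            refine mem_comp_of hxC ⟨he.1, ?_⟩ ?_
            · exact ((he.2 m hm).1 hmd).symm
            · intro h1
              exact hdx ((he.2 x hx).2 h1).symm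
          have hjL : j ∈ L := by
            refine (Subgroup.closure_le L).2 ?_ hj
            exact fun e he => hCL e (hclsC e he)
          have hjL' : (⟨j, hjL⟩ : ↥L) ∈ Subgroup.closure (Cls (Sub Cm L) ⟨d, hCL d hdC⟩) := by
            refine mem_closure_sub (S := Cls D d) (fun e he => hCL e (hclsC e he)) ?_ hj hjL
            intro e he
            refine ⟨hclsC _ he, fun z hz => ?_⟩
            rw [← commute_coe, ← commute_coe]
            exact he.2 _ (hCD hz)
          have hres := ih _ hlt ↥L (Sub Cm L) rfl hHyp ⟨d, hCL d hdC⟩ hdC ⟨x, hCL x hxC⟩ hxC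
            (fun h1 => hdx (commute_coe.2 h1)) ⟨j, hjL⟩ hjL' (Subtype.ext hjx)
          -- hence `y` commutes with `y^j`
          have hyL : y ∈ L := hCL y hyC
          have h7 : (⟨y, hyL⟩ : ↥L) * (⟨j, hjL⟩ * ⟨y, hyL⟩ * ⟨j, hjL⟩) ∈ pCore 2 ↥L := by
            have hn2 : (pCore 2 ↥L).Normal := Lib.Cores.pCore_normal 2
            have h8 := hn2.conj_mem _ hres ⟨y, hyL⟩
            have h9 := mul_mem h8 hres
            have e : (⟨y, hyL⟩ : ↥L) * ⟨j, hjL⟩ * (⟨y, hyL⟩ : ↥L)⁻¹ * ⟨j, hjL⟩ =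
                (⟨y, hyL⟩ : ↥L) * (⟨j, hjL⟩ * ⟨y, hyL⟩ * ⟨j, hjL⟩) := by
              apply Subtype.ext
              show y * j * y⁻¹ * j = y * (j * y * j)
              rw [h.ot.inv hy]; group
            rwa [e] at h9
          have h10 := (sub_ot h.ot L).commute_of_mul_mem
            (show (⟨y, hyL⟩ : ↥L) ∈ Sub D L from hy)
            (show (⟨j, hjL⟩ * ⟨y, hyL⟩ * ⟨j, hjL⟩ : ↥L) ∈ Sub D L from h.conj' hy hjj)
            (Lib.Cores.pCore_isPGroup 2) h7
          exact commute_coe.2 h10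
      have h2 : j ∈ pCore 2 G := mem_pCore_of_main h hd hj main
      rw [hO] at h2
      exact Subgroup.mem_bot.1 h2
    · exact deep_disconnected h hO hc hd hx hdx hj hjx
  · -- pass to `G / O₂(G)`
    have hn2 : (pCore 2 G).Normal := Lib.Cores.pCore_normal 2
    set f := QuotientGroup.mk' (pCore 2 G) with hf
    have hker : Ker2 f := ker2_mk _ (Lib.Cores.pCore_isPGroup 2)
    have hsurj : Function.Surjective f := QuotientGroup.mk'_surjective _
    have hlt : Nat.card (G ⧸ pCore 2 G) < n := by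
      rw [← hn, Subgroup.card_eq_card_quotient_mul_card_subgroup (pCore 2 G)]
      have h1 : 1 < Nat.card ↥(pCore 2 G) := by
        rw [Subgroup.one_lt_card_iff_ne_bot]
        exact hO
      have h2 : 0 < Nat.card (G ⧸ pCore 2 G) := Nat.card_pos
      exact lt_mul_of_one_lt_right h2 h1
    have hjim : f j ∈ Subgroup.closure (Cls (Im f D) (f d)) :=
      map_mem_closure' f (fun e he => hker.cls_map h.ot hd he hx (fun h1 => hdx h1.symm)) hj
    have h1 := ih _ hlt (G ⧸ pCore 2 G) (Im f D) rfl (h.image hsurj hker hd hx hdx) (f d)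
      (hker.map_mem h.ot hd hx (fun h1 => hdx h1.symm)) (f x) (hker.map_mem h.ot hx hd hdx)
      (by rw [hker.commute_iff h.ot hd hx]; exact hdx) (f j) hjim (hjx.map f)
    rw [Lib.Cores.pCore_quotient_pCore, Subgroup.mem_bot] at h1
    exact (QuotientGroup.eq_one_iff j).1 h1

/-- **`E(d) ∩ C(x) ≤ O₂(G)`.** -/
theorem deep {G : Type u} [Group G] [Finite G] {D : Set G} (h : Hyp D) {d x j : G} (hd : d ∈ D)
    (hx : x ∈ D) (hdx : ¬ Commute d x) (hj : j ∈ Subgroup.closure (Cls D d)) (hjx : Commute j x) :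
    j ∈ pCore 2 G := deep_aux _ G D rfl h d hd x hx hdx j hj hjx

end Cfsg.Agent.H738
end

-- part: H738/Root
section
/-!
# Odd transpositions: `E_d ∪ {1}` is a subgroup if `O₂(G) = 1`

* `mul_cls`: `ab ∈ E_d` for different `a, b ∈ E_d`, if `O₂(G) = 1`.
* `common_fibre`: for commuting `x, f ∈ D`, both not commuting with `d ∈ D`, there are
  `c ∈ E_x`, `e ∈ E_f` with `ce` in a 2-group normalized by `⟨E_x, E_f, d⟩`.
-/

set_option autoImplicit false

universe u

namespace Cfsg.Agent.H738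

open Cfsg.Agent.H737

variable {G : Type u} [Group G] {D : Set G}

/-- **`E_d ∪ {1}` is closed under multiplication.** -/
theorem mul_cls [Finite G] (h : Hyp D) (hO : pCore 2 G = ⊥) {d x : G} (hd : d ∈ D) (hx : x ∈ D)
    (hdx : ¬ Commute d x) {a b : G} (ha : a ∈ Cls D d) (hb : b ∈ Cls D d) (hab : a ≠ b) :
    a * b ∈ Cls D d := by
  have hcab : Commute a b := h.cls_comm hd a ha b hb
  by_cases hz : a * b ∈ D
  · exact ⟨hz, ha.2.trans (h.ot.line_eqv_mul ha.1 hb.1 hcab hz)⟩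
  exfalso
  have hzz : a * b * (a * b) = 1 := by
    calc a * b * (a * b) = a * (b * a) * b := by group
      _ = a * (a * b) * b := by rw [hcab.eq]
      _ = (a * a) * (b * b) := by group
      _ = 1 := by rw [h.ot.sq a ha.1, h.ot.sq b hb.1, one_mul]
  have hz1 : a * b ≠ 1 := by
    intro h1
    apply hab
    calc a = a * (b * b) := by rw [h.ot.sq b hb.1, mul_one]
      _ = (a * b) * b := by group
      _ = b := by rw [h1, one_mul]
  have hzcl : a * b ∈ Subgroup.closure (Cls D d) :=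
    mul_mem (Subgroup.subset_closure ha) (Subgroup.subset_closure hb)
  have hmain : ∀ y ∈ D, Commute y (a * b * y * (a * b)) := by
    intro y hy
    by_cases hyd : Commute y d
    · have h1 : Commute y (a * b) := h.commute_closure_cls hy hyd hzcl
      have : a * b * y * (a * b) = y := by rw [← h1.eq, mul_assoc, hzz, mul_one]
      rw [this]
    · rcases h.ot.tri hy hzz (h.conj' hy hzz) with h1 | h1 | ⟨c, hc, hcz, hcy, hjy, hccl, hnc⟩
      · exfalso
        have h2 := deep h hd hy (fun h3 => hyd h3.symm) hzcl h1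
        rw [hO, Subgroup.mem_bot] at h2
        exact hz1 h2
      · exact h1.2
      · exfalso
        have hca : Commute c a := h.ot.commute_of_commute_mul ha.1 hb.1 hcab hab hc hcz
        have hcd : Commute c d := (ha.2 c hc).2 hca
        have hyX : y ∈ Subgroup.closure (Cls D d ∪ {y}) := Subgroup.subset_closure (Or.inr rfl)
        have hzX : a * b ∈ Subgroup.closure (Cls D d ∪ {y}) :=
          Subgroup.closure_mono Set.subset_union_left hzcl
        have hcX : c ∈ Subgroup.closure (Cls D d ∪ {y}) := by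
          refine (Subgroup.closure_le _).2 ?_ hccl
          rintro s (rfl | hs)
          · exact hyX
          · rw [Set.mem_singleton_iff.1 hs]
            exact mul_mem (mul_mem hzX hyX) hzX
        have hyc : ¬ Commute y c := by
          intro h2
          have h3 : c * y * c = y := by rw [← h2.eq, mul_assoc, h.ot.sq c hc, mul_one]
          rw [hcy] at h3
          apply hnc
          rw [h3]
        obtain ⟨a', ha', had', hadD'⟩ := h.line d hd
        have hcC : c ∈ Cls D d := mem_cls_of_commute h.ot (fun y hy g => h.conj hy g) hd hy hyd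
          ha' had' hadD' (h.cls d hd c hc) hc hcX hcd ⟨y, hy, hyX, hyc⟩
        have hj : a * b * c ∈ Subgroup.closure (Cls D d) :=
          mul_mem hzcl (Subgroup.subset_closure hcC)
        have h2 := deep h hd hy (fun h3 => hyd h3.symm) hj hjy
        rw [hO, Subgroup.mem_bot] at h2
        apply hz
        have h3 : a * b = c := by
          calc a * b = (a * b * c) * c := by rw [mul_assoc _ c c, h.ot.sq c hc, mul_one]
            _ = c := by rw [h2, one_mul]
        rw [h3]; exact hc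
  have h1 := mem_pCore_of_main h hd hzcl hmain
  rw [hO, Subgroup.mem_bot] at h1
  exact hz1 h1

/-- Common elements of fibres. -/
theorem common_fibre [Finite G] (h : Hyp D) {d x f : G} (hd : d ∈ D) (hx : x ∈ D) (hf : f ∈ D)
    (hxd : ¬ Commute d x) (hfd : ¬ Commute d f) (hfx : Commute f x) :
    ∃ Q : Subgroup G, IsPGroup 2 Q ∧
      (∀ g ∈ Subgroup.closure (Cls D x ∪ Cls D f ∪ {d}), ∀ q ∈ Q, g * q * g⁻¹ ∈ Q) ∧
      ∃ c ∈ Cls D x, ∃ e ∈ Cls D f, c * e ∈ Q := by
  have hD := h.ot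
  have hR : RankOneR1.{u} := rankOneR1
  have hcl := h.cls
  have hline := h.line
  have hconj : ∀ y ∈ D, ∀ g : G, g * y * g⁻¹ ∈ D := fun y hy g => h.conj hy g
  obtain ⟨a, ha, hax, haxD⟩ := hline x hx
  obtain ⟨b, hb, hbf, hbfD⟩ := hline f hf
  -- `Y = ⟨E_x, E_f, d⟩`
  set Y : Subgroup G := Subgroup.closure (Cls D x ∪ Cls D f ∪ {d}) with hY
  have hxY : x ∈ Y := Subgroup.subset_closure (Or.inl (Or.inl ⟨hx, Eqv.refl _ _⟩))
  have hfY : f ∈ Y := Subgroup.subset_closure (Or.inl (Or.inr ⟨hf, Eqv.refl _ _⟩))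
  have hdY : d ∈ Y := Subgroup.subset_closure (Or.inr rfl)
  obtain ⟨hg, heqv, a', ha', hne⟩ := gen_red2 hD hx hf hfx.symm hd hxd hfd ha hax haxD hY.symm
    hxY hfY hdY
  have hK : R1 (↥Y ⧸ pCore 2 ↥Y) := hR _ _ _ _ _ hg ha' hne
  have hS := sub_ot hD Y
  have hker := red_ker2 Y
  have hom := im_ot (red Y) hS
  -- the subgroups `⟨E_x, d⟩` and `⟨E_f, d⟩` of `Y / O₂(Y)`
  have main : ∀ (y : G) (hyY : y ∈ Y), y ∈ D → ¬ Commute d y → (∀ e ∈ Cls D y, e ∈ Y) →
      ∃ K₁ : Subgroup (↥Y ⧸ pCore 2 ↥Y), R1 ↥K₁ ∧ red Y ⟨d, hdY⟩ ∈ K₁ ∧ red Y ⟨y, hyY⟩ ∈ K₁ ∧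
        ∀ i ∈ K₁, i * i = 1 → i ≠ 1 → Commute i (red Y ⟨y, hyY⟩) →
          ∃ c, ∃ hcY : c ∈ Y, c ∈ Cls D y ∧ red Y ⟨c, hcY⟩ = i := by
    intro y hyY hy hyd hsub
    set X : Subgroup G := Subgroup.closure (Cls D y ∪ {d}) with hX
    have hXY : X ≤ Y := by
      rw [hX, Subgroup.closure_le]
      rintro z (hz | hz)
      · exact hsub z hz
      · rw [Set.mem_singleton_iff.1 hz]; exact hdY
    have hdX : d ∈ X := Subgroup.subset_closure (Or.inr rfl)
    have hyX : y ∈ X := Subgroup.subset_closure (Or.inl ⟨hy, Eqv.refl _ _⟩)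
    -- the image of `X`
    set ι : ↥X →* (↥Y ⧸ pCore 2 ↥Y) := (red Y).comp (Subgroup.inclusion hXY) with hι
    set f₁ : ↥X →* ↥ι.range := ι.rangeRestrict with hf₁
    have hf₁s : Function.Surjective f₁ := MonoidHom.rangeRestrict_surjective ι
    have hval : ∀ z : ↥X, ((f₁ z : ↥ι.range) : ↥Y ⧸ pCore 2 ↥Y) = red Y ⟨z, hXY z.2⟩ := fun z => rfl
    have hker₁ : Ker2 f₁ := by
      intro z hz
      have h1 : red Y ⟨z, hXY z.2⟩ = 1 := by rw [← hval, hz]; rfl
      obtain ⟨k, hk⟩ := hker _ h1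
      refine ⟨k, Subtype.ext ?_⟩
      have := congrArg Subtype.val hk
      simpa only [_root_.SubmonoidClass.coe_pow, _root_.OneMemClass.coe_one, _root_.SubmonoidClass.mk_pow] using this
    have hSX := sub_ot hD X
    have hncX : ¬ Commute (⟨d, hdX⟩ : ↥X) ⟨y, hyX⟩ := fun h => hyd (commute_coe.2 h)
    have hyK : ¬ Commute (red Y ⟨d, hdY⟩) (red Y ⟨y, hyY⟩) := by
      rw [hker.commute_iff hS hd hy]
      exact fun h => hyd (commute_coe.2 h)
    have hsqd : red Y ⟨d, hdY⟩ * red Y ⟨d, hdY⟩ = 1 := by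
      rw [← map_mul, show (⟨d, hdY⟩ : ↥Y) * ⟨d, hdY⟩ = 1 from Subtype.ext (hD.sq d hd), map_one]
    have hsqy : red Y ⟨y, hyY⟩ * red Y ⟨y, hyY⟩ = 1 := by
      rw [← map_mul, show (⟨y, hyY⟩ : ↥Y) * ⟨y, hyY⟩ = 1 from Subtype.ext (hD.sq y hy), map_one]
    have hgen₁ : Gen (Im f₁ (Sub D X)) (f₁ ⟨y, hyX⟩) (f₁ ⟨d, hdX⟩) := by
      refine ⟨im_ot _ hSX, hker₁.map_mem hSX hy hd hncX,
        hker₁.map_mem hSX hd hy (fun h => hncX h.symm), ?_, ?_, ?_⟩
      · rw [hker₁.commute_iff hSX hd hy]; exact hncX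
      · refine closure_image hf₁s
          (closure_sub (T := Cls (Sub D X) ⟨y, hyX⟩ ∪ {⟨d, hdX⟩}) hX.symm ?_) ?_
        · rintro ⟨z, hzX⟩ (hz | hz)
          · exact Or.inl (cls_sub_of hz)
          · right
            rw [Set.mem_singleton_iff] at hz ⊢
            exact Subtype.ext hz
        · rintro z (hz | hz)
          · exact Or.inl (hker₁.cls_map hSX hy hz hd hncX)
          · right
            rw [Set.mem_singleton_iff] at hz ⊢
            rw [hz]
      · intro N hN hP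
        exact hK.o2 hsqy hsqd (hval ⟨y, hyX⟩ ▸ (f₁ ⟨y, hyX⟩).2) (hval ⟨d, hdX⟩ ▸ (f₁ ⟨d, hdX⟩).2)
          hyK N hN hP
    -- a second member of the class of `y`
    obtain ⟨a, ha, hay, hayD⟩ := hline y hy
    have haC : a ∈ Cls D y := ⟨ha, hD.line_eqv hy ha hay.symm (by rw [← hay.eq]; exact hayD)⟩
    have haX : a ∈ X := Subgroup.subset_closure (Or.inl haC)
    have haC' : (⟨a, haX⟩ : ↥X) ∈ Cls (Sub D X) ⟨y, hyX⟩ := cls_sub_of haC
    have hayne : f₁ ⟨a, haX⟩ ≠ f₁ ⟨y, hyX⟩ := by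
      intro h1
      have h2 : f₁ (⟨a, haX⟩ * ⟨y, hyX⟩) = 1 := by
        rw [map_mul, h1, ← map_mul, show (⟨y, hyX⟩ : ↥X) * ⟨y, hyX⟩ = 1 from
          Subtype.ext (hD.sq y hy), map_one]
      have h3 : ¬ Commute (⟨d, hdX⟩ : ↥X) (@HMul.hMul _ _ _ instHMul ⟨a, haX⟩ ⟨y, hyX⟩) := by
        intro h4
        apply hyd
        exact ((haC.2.trans (hD.line_eqv_mul ha hy hay hayD)) d hd).2 (commute_coe.2 h4)
      exact (hker₁.map_mem hSX (show (⟨a, haX⟩ : ↥X) * ⟨y, hyX⟩ ∈ Sub D X from hayD)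
        (show (⟨d, hdX⟩ : ↥X) ∈ Sub D X from hd) h3).1 h2
    have hR₁ : R1 ↥ι.range := hR _ _ _ _ _ hgen₁ (hker₁.cls_map hSX hy haC' hd hncX) hayne
    refine ⟨ι.range, hR₁, (f₁ ⟨d, hdX⟩).2, (f₁ ⟨y, hyX⟩).2, ?_⟩
    intro i hi hii hi1 hiy
    -- `i` is conjugate to the image of `y`
    have hsq₁ : f₁ ⟨y, hyX⟩ * f₁ ⟨y, hyX⟩ = 1 := Subtype.ext hsqy
    obtain ⟨g, hg⟩ := hR₁.conj (f₁ ⟨y, hyX⟩) ⟨i, hi⟩ hsq₁ (hgen₁.ot.ne _ hgen₁.hd)
      (Subtype.ext hii) (fun h => hi1 (congrArg Subtype.val h))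
    have hiD : (⟨i, hi⟩ : ↥ι.range) ∈ Im f₁ (Sub D X) := by
      rw [← hg]; exact hgen₁.conj_mem hgen₁.hd g
    have hzD : g * f₁ ⟨d, hdX⟩ * g⁻¹ ∈ Im f₁ (Sub D X) := hgen₁.conj_mem hgen₁.hx g
    obtain ⟨-, c, hc, hci⟩ := hiD
    obtain ⟨-, z, hz, hzi⟩ := hzD
    have hcy : Commute (c : G) y := by
      have h1 : Commute (f₁ c) (f₁ ⟨y, hyX⟩) := by
        rw [hci]; exact Subtype.ext hiy
      exact commute_coe.2 ((hker₁.commute_iff hSX hc hy).1 h1)
    have hzc : ¬ Commute (z : G) c := by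
      intro h1
      have h2 : Commute (f₁ z) (f₁ c) := (commute_coe.1 h1).map f₁
      rw [hzi, hci, ← hg] at h2
      apply hgen₁.nc
      have h3 : (g * f₁ ⟨d, hdX⟩ * g⁻¹) * (g * f₁ ⟨y, hyX⟩ * g⁻¹) =
        (g * f₁ ⟨y, hyX⟩ * g⁻¹) * (g * f₁ ⟨d, hdX⟩ * g⁻¹) := h2
      show f₁ ⟨d, hdX⟩ * f₁ ⟨y, hyX⟩ = f₁ ⟨y, hyX⟩ * f₁ ⟨d, hdX⟩
      calc f₁ ⟨d, hdX⟩ * f₁ ⟨y, hyX⟩ =
            g⁻¹ * ((g * f₁ ⟨d, hdX⟩ * g⁻¹) * (g * f₁ ⟨y, hyX⟩ * g⁻¹)) * g := by group
        _ = g⁻¹ * ((g * f₁ ⟨y, hyX⟩ * g⁻¹) * (g * f₁ ⟨d, hdX⟩ * g⁻¹)) * g := by rw [h3]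
        _ = _ := by group
    refine ⟨c, hXY c.2, ?_, ?_⟩
    · refine mem_cls_of_commute hD hconj hy hd hyd ha hay hayD ?_ hc c.2 hcy ⟨z, hz, z.2, hzc⟩
      exact hcl y hy c hc
    · have := congrArg Subtype.val hci
      exact this
  obtain ⟨K₁, hR₁, hd₁, hx₁, hm₁⟩ := main x hxY hx hxd
    (fun e he => Subgroup.subset_closure (Or.inl (Or.inl he)))
  obtain ⟨K₂, hR₂, hd₂, hf₂, hm₂⟩ := main f hfY hf hfd
    (fun e he => Subgroup.subset_closure (Or.inl (Or.inr he)))
  have hsq : ∀ y (hyY : y ∈ Y), y ∈ D → red Y ⟨y, hyY⟩ * red Y ⟨y, hyY⟩ = 1 := by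
    intro y hyY hy
    rw [← map_mul, show (⟨y, hyY⟩ : ↥Y) * ⟨y, hyY⟩ = 1 from Subtype.ext (hD.sq y hy), map_one]
  have hnc : ∀ y (hyY : y ∈ Y), y ∈ D → ¬ Commute d y →
      ¬ Commute (red Y ⟨d, hdY⟩) (red Y ⟨y, hyY⟩) := by
    intro y hyY hy h
    rw [hker.commute_iff hS hd hy]
    exact fun h' => h (commute_coe.2 h')
  have hne1 : ∀ y (hyY : y ∈ Y), y ∈ D → ¬ Commute d y → red Y ⟨y, hyY⟩ ≠ 1 := by
    intro y hyY hy h h1
    apply hnc y hyY hy h
    rw [h1]; exact Commute.one_right _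
  have hd1 : red Y ⟨d, hdY⟩ ≠ 1 := by
    intro h1
    apply hnc x hxY hx hxd
    rw [h1]; exact Commute.one_left _
  obtain ⟨i, hi₁, hi₂, hii, hi1, hix, hif⟩ := hK.common_involution hR₁ hR₂ (hsq d hdY hd) hd1
    (hsq x hxY hx) (hne1 x hxY hx hxd) (hsq f hfY hf) (hne1 f hfY hf hfd)
    ((commute_coe.1 hfx.symm : Commute (⟨x, hxY⟩ : ↥Y) ⟨f, hfY⟩).map _)
    (hnc x hxY hx hxd) (hnc f hfY hf hfd) hd₁ hd₂ hx₁ hf₂
  obtain ⟨c, hcY, hc, hci⟩ := hm₁ i hi₁ hii hi1 hix
  obtain ⟨e, heY, he, hei⟩ := hm₂ i hi₂ hii hi1 hif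
  have hn2 : (pCore 2 ↥Y).Normal := Lib.Cores.pCore_normal 2
  refine ⟨(pCore 2 ↥Y).map Y.subtype, (Lib.Cores.pCore_isPGroup 2).map _, ?_, c, hc, e, he, ?_⟩
  · rintro g hg _ ⟨q, hq, rfl⟩
    exact ⟨(⟨g, hg⟩ * q * ⟨g, hg⟩⁻¹ :), hn2.conj_mem q hq _, rfl⟩
  · refine ⟨@HMul.hMul _ _ _ instHMul ⟨c, hcY⟩ ⟨e, heY⟩, ?_, rfl⟩
    have h1 : red Y (⟨c, hcY⟩ * ⟨e, heY⟩) = 1 := by
      rw [map_mul, hei, hci, hii]
    exact (QuotientGroup.eq_one_iff _).1 h1

end Cfsg.Agent.H738
end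

-- part: H738/RS
section
/-!
# Odd transpositions: minimal 2-groups on which `⟨E_d, x⟩` acts

`RS D d x R`: `R` is a 2-group normalized but not centralized by `X = ⟨E_d, x⟩`, minimal with this
property (`E_d ∪ {1}` a subgroup).  With `C = C_R(X)`, `K = C_R(d)`, `br a u = a (u a u⁻¹)`:

* `comm_mem`: commutators of `R` lie in `C`; `central`: `C ≤ Z(R)`;
* `exists_br`: every element of `K` is `br a u` modulo `C` (for every `a ∈ E_d`);
* `exists_decomp`: `R = C_R(x) K`;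
* `K` is abelian, squares of elements of `R` lie in `C`.
-/

set_option autoImplicit false

universe u

namespace Cfsg.Agent.H738

open Cfsg.Agent.H737

/-- A conjugate of `a` under a 2-group normalized by `a` and `b` commutes with `b`, if `a`
and `b` commute. -/
theorem OT.commute_conj_of_two {G : Type*} [Group G] {D : Set G} (hD : OT D) {P : Subgroup G}
    (hP : IsPGroup 2 P) {a b u : G} (ha : a ∈ D) (hb : b ∈ D) (hab : Commute a b) (hu : u ∈ P)
    (huD : u * a * u⁻¹ ∈ D) (hna : ∀ v ∈ P, a * v * a⁻¹ ∈ P) (hnb : ∀ v ∈ P, b * v * b⁻¹ ∈ P) :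
    Commute (u * a * u⁻¹) b := by
  rcases hD.pair _ huD b hb with h1 | h1
  · exact h1
  have haa := hD.sq a ha
  have hbb := hD.sq b hb
  have h2 : (u * a * u⁻¹ * b) ^ 2 ∈ P := by
    -- `(u a u⁻¹ b)² = (u (a u⁻¹ a)) · (a b) · (u (a u⁻¹ a)) · (a b)`
    have hv : u * (a * u⁻¹ * a⁻¹) ∈ P := mul_mem hu (hna _ (inv_mem hu))
    have hv' : a * b * (u * (a * u⁻¹ * a⁻¹)) * (a * b)⁻¹ ∈ P := by
      have := hna _ (hnb _ hv)
      have e : a * b * (u * (a * u⁻¹ * a⁻¹)) * (a * b)⁻¹ =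
        a * (b * (u * (a * u⁻¹ * a⁻¹)) * b⁻¹) * a⁻¹ := by group
      rwa [e]
    have h3 := mul_mem hv hv'
    have e : (u * a * u⁻¹ * b) ^ 2 =
        u * (a * u⁻¹ * a⁻¹) * (a * b * (u * (a * u⁻¹ * a⁻¹)) * (a * b)⁻¹) := by
      have e1 : u * a * u⁻¹ * b = u * (a * u⁻¹ * a⁻¹) * (a * b) := by group
      have e2 : (a * b) * (a * b) = 1 := by
        calc a * b * (a * b) = a * (b * a) * b := by group
          _ = a * (a * b) * b := by rw [hab.eq]
          _ = (a * a) * (b * b) := by group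
          _ = 1 := by rw [haa, hbb, one_mul]
      rw [pow_two, e1, inv_of_sq e2]
      group
    rw [e]; exact h3
  have h4 := eq_one_of_odd_of_mem hP h1 h2
  have h5 : u * a * u⁻¹ = b := by
    calc u * a * u⁻¹ = (u * a * u⁻¹ * b) * b⁻¹ := by group
      _ = b := by rw [h4, hD.inv hb, one_mul]
  rw [h5]

variable {G : Type u} [Group G] {D : Set G} {d x : G} {R : Subgroup G}

/-- The group `⟨E_d, x⟩`. -/
def XX (D : Set G) (d x : G) : Subgroup G := Subgroup.closure (Cls D d ∪ {x})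

/-- The hypothesis of this file. -/
structure RS (D : Set G) (d x : G) (R : Subgroup G) : Prop where
  h : Hyp D
  hd : d ∈ D
  hx : x ∈ D
  nc : ¬ Commute d x
  mul : ∀ a ∈ Cls D d, ∀ b ∈ Cls D d, a ≠ b → a * b ∈ Cls D d
  pg : IsPGroup 2 R
  nrm : ∀ g ∈ XX D d x, ∀ u ∈ R, g * u * g⁻¹ ∈ R
  ncen : ¬ ∀ g ∈ XX D d x, ∀ u ∈ R, Commute g u
  min : ∀ S : Subgroup G, S ≤ R → (∀ g ∈ XX D d x, ∀ u ∈ S, g * u * g⁻¹ ∈ S) → S ≠ R →
    ∀ g ∈ XX D d x, ∀ u ∈ S, Commute g u

/-- `a (u a u⁻¹)`. -/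
def br (a u : G) : G := a * (u * a * u⁻¹)

namespace RS

/-- `C_R(X)`. -/
def C (D : Set G) (d x : G) (R : Subgroup G) : Subgroup G :=
  R ⊓ Subgroup.centralizer (XX D d x : Set G)

/-- `C_R(d)`. -/
def K (d : G) (R : Subgroup G) : Subgroup G := R ⊓ Subgroup.centralizer {d}

theorem mem_C {u : G} : u ∈ C D d x R ↔ u ∈ R ∧ ∀ g ∈ XX D d x, Commute g u := by
  unfold C
  rw [Subgroup.mem_inf, Subgroup.mem_centralizer_iff]
  rfl

theorem mem_K {u : G} : u ∈ K d R ↔ u ∈ R ∧ Commute u d := by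
  unfold K
  rw [Subgroup.mem_inf, Subgroup.mem_centralizer_singleton_iff]
  exact Iff.rfl

theorem cls_X {a : G} (ha : a ∈ Cls D d) : a ∈ XX D d x := Subgroup.subset_closure (Or.inl ha)

theorem x_X : x ∈ XX D d x := Subgroup.subset_closure (Or.inr rfl)

theorem dd (r : RS D d x R) : d ∈ Cls D d := ⟨r.hd, Eqv.refl _ _⟩

theorem conjD (r : RS D d x R) {a : G} (ha : a ∈ Cls D d) (u : G) : u * a * u⁻¹ ∈ D :=
  r.h.conj ha.1 u

theorem sq_conj (r : RS D d x R) {a : G} (ha : a ∈ Cls D d) (u : G) :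
    (u * a * u⁻¹) * (u * a * u⁻¹) = 1 := r.h.ot.sq _ (r.conjD ha u)

/-- **F1.** -/
theorem comm_conj_cls (r : RS D d x R) {a b u : G} (ha : a ∈ Cls D d) (hb : b ∈ Cls D d)
    (hu : u ∈ R) : Commute (u * a * u⁻¹) b :=
  r.h.ot.commute_conj_of_two r.pg ha.1 hb.1 (r.h.cls_comm r.hd a ha b hb) hu (r.conjD ha u)
    (fun v hv => r.nrm a (cls_X ha) v hv) (fun v hv => r.nrm b (cls_X hb) v hv)

theorem comm_conj_conj (r : RS D d x R) {a b u v : G} (ha : a ∈ Cls D d) (hb : b ∈ Cls D d)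
    (hu : u ∈ R) (hv : v ∈ R) : Commute (u * a * u⁻¹) (v * b * v⁻¹) := by
  have h1 := r.comm_conj_cls ha hb (mul_mem (inv_mem hv) hu)
  show u * a * u⁻¹ * (v * b * v⁻¹) = v * b * v⁻¹ * (u * a * u⁻¹)
  calc u * a * u⁻¹ * (v * b * v⁻¹) = v * ((v⁻¹ * u) * a * (v⁻¹ * u)⁻¹ * b) * v⁻¹ := by group
    _ = v * (b * ((v⁻¹ * u) * a * (v⁻¹ * u)⁻¹)) * v⁻¹ := by rw [h1.eq]
    _ = _ := by group

theorem br_mem (r : RS D d x R) {a u : G} (ha : a ∈ Cls D d) (hu : u ∈ R) : br a u ∈ R := by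
  have h1 := mul_mem (r.nrm a (cls_X ha) u hu) (inv_mem hu)
  have e : br a u = a * u * a⁻¹ * u⁻¹ := by
    unfold br
    rw [r.h.ot.inv ha.1]; group
  rw [e]; exact h1

theorem br_cls (r : RS D d x R) {a b u : G} (ha : a ∈ Cls D d) (hb : b ∈ Cls D d) (hu : u ∈ R) :
    Commute (br a u) b :=
  (r.h.cls_comm r.hd a ha b hb).mul_left (r.comm_conj_cls ha hb hu)

theorem br_br (r : RS D d x R) {a b u v : G} (ha : a ∈ Cls D d) (hb : b ∈ Cls D d) (hu : u ∈ R)
    (hv : v ∈ R) : Commute (br a u) (br b v) := by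
  unfold br
  refine ((r.h.cls_comm r.hd a ha b hb).mul_right (r.comm_conj_cls hb ha hv).symm).mul_left ?_
  exact (r.comm_conj_cls ha hb hu).mul_right (r.comm_conj_conj ha hb hu hv)

theorem br_sq (r : RS D d x R) {a u : G} (ha : a ∈ Cls D d) (hu : u ∈ R) :
    br a u * br a u = 1 := by
  unfold br
  have h1 := (r.comm_conj_cls ha ha hu).eq
  calc a * (u * a * u⁻¹) * (a * (u * a * u⁻¹)) = a * ((u * a * u⁻¹) * a) * (u * a * u⁻¹) := by group
    _ = a * (a * (u * a * u⁻¹)) * (u * a * u⁻¹) := by rw [h1]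
    _ = (a * a) * ((u * a * u⁻¹) * (u * a * u⁻¹)) := by group
    _ = 1 := by rw [r.h.ot.sq a ha.1, r.sq_conj ha, one_mul]

theorem br_K (r : RS D d x R) {a u : G} (ha : a ∈ Cls D d) (hu : u ∈ R) : br a u ∈ K d R :=
  mem_K.2 ⟨r.br_mem ha hu, r.br_cls ha r.dd hu⟩

/-- **R2.** -/
theorem eq_of_commute_x (r : RS D d x R) {a u : G} (ha : a ∈ Cls D d) (hu : u ∈ R)
    (h1 : Commute x (br a u)) : u * a * u⁻¹ = a := by
  by_contra hne
  have h2 := r.h.ot.commute_of_commute_mul ha.1 (r.conjD ha u) (r.comm_conj_cls ha ha hu).symm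
    (fun h3 => hne h3.symm) r.hx h1
  exact r.nc ((ha.2 x r.hx).2 h2).symm

theorem br_eq_one {a u : G} (h : u * a * u⁻¹ = a) (ha : a * a = 1) : br a u = 1 := by
  unfold br
  rw [h, ha]

theorem not_mem (r : RS D d x R) {a : G} (ha : a ∈ Cls D d) : a ∉ R := by
  intro haR
  have hxx := r.h.ot.sq x r.hx
  have hnc : ¬ Commute x a := fun h1 => r.nc ((ha.2 x r.hx).2 h1).symm
  have hodd := r.h.ot.odd_of r.hx ha.1 hnc
  have h1 : (x * a) ^ 2 ∈ R := by
    have h2 := mul_mem (r.nrm x x_X a haR) haR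
    have e : (x * a) ^ 2 = x * a * x⁻¹ * a := by rw [pow_two, r.h.ot.inv r.hx]; group
    rwa [e]
  have h2 := eq_one_of_odd_of_mem r.pg hodd h1
  apply hnc
  have : x = a := by
    calc x = (x * a) * a⁻¹ := by group
      _ = a := by rw [h2, r.h.ot.inv ha.1, one_mul]
  rw [this]

theorem conj_cls_self (r : RS D d x R) {a u : G} (ha : a ∈ Cls D d)
    (hua : u * a * u⁻¹ ∈ Cls D d) (hu : u ∈ R) : u * a * u⁻¹ = a := by
  by_contra hne
  exact r.not_mem (r.mul a ha _ hua (fun h1 => hne h1.symm)) (r.br_mem ha hu)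

/-- **R3.** -/
theorem comm_cls (r : RS D d x R) {a b u : G} (ha : a ∈ Cls D d) (hb : b ∈ Cls D d) (hu : u ∈ R)
    (hua : u * a * u⁻¹ = a) : u * b * u⁻¹ = b := by
  refine r.conj_cls_self hb ?_ hu
  have h1 : b ∈ Cls D a := ⟨hb.1, ha.2.symm.trans hb.2⟩
  have h2 := r.h.cls_conj u h1
  rw [hua] at h2
  exact ⟨h2.1, ha.2.trans h2.2⟩

theorem conj_eq_iff {a u : G} : u * a * u⁻¹ = a ↔ Commute u a := by
  constructor
  · intro h1
    show u * a = a * u
    calc u * a = (u * a * u⁻¹) * u := by group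
      _ = a * u := by rw [h1]
  · intro h1
    rw [h1.eq]; group

theorem mem_K_iff (r : RS D d x R) {a u : G} (ha : a ∈ Cls D d) (hu : u ∈ R) :
    u ∈ K d R ↔ u * a * u⁻¹ = a := by
  rw [mem_K, ← conj_eq_iff]
  constructor
  · rintro ⟨-, h1⟩
    exact r.comm_cls r.dd ha hu h1
  · intro h1
    exact ⟨hu, r.comm_cls ha r.dd hu h1⟩

theorem mem_C_iff (r : RS D d x R) {u : G} : u ∈ C D d x R ↔ u ∈ K d R ∧ Commute x u := by
  constructor
  · intro h1
    rw [mem_C] at h1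
    exact ⟨mem_K.2 ⟨h1.1, (h1.2 d (cls_X r.dd)).symm⟩, h1.2 x x_X⟩
  · rintro ⟨h1, h2⟩
    have hu := (mem_K.1 h1).1
    refine mem_C.2 ⟨hu, fun g hg => ?_⟩
    refine (commute_closure (S := Cls D d ∪ {x}) ?_ hg).symm
    rintro s (hs | hs)
    · exact conj_eq_iff.1 ((r.mem_K_iff hs hu).1 h1)
    · rw [Set.mem_singleton_iff.1 hs]; exact h2.symm

theorem br_mem_C (r : RS D d x R) {a u : G} (ha : a ∈ Cls D d) (hu : u ∈ R)
    (h1 : br a u ∈ C D d x R) : u ∈ K d R :=
  (r.mem_K_iff ha hu).2 (r.eq_of_commute_x ha hu (mem_C.1 h1 |>.2 x x_X))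

theorem C_le (_r : RS D d x R) : C D d x R ≤ K d R := by
  intro u hu
  rw [mem_C] at hu
  exact mem_K.2 ⟨hu.1, (hu.2 d (cls_X ⟨_r.hd, Eqv.refl _ _⟩)).symm⟩

theorem exists_ne (r : RS D d x R) (b : G) : ∃ a ∈ Cls D d, a ≠ b := by
  obtain ⟨a, ha, had, hadD⟩ := r.h.line d r.hd
  obtain ⟨h1, -, h3⟩ := r.h.line_cls r.hd ha had hadD
  by_cases hab : a = b
  · exact ⟨d, r.dd, fun h4 => h3 (hab.trans h4.symm)⟩
  · exact ⟨a, h1, hab⟩

theorem exists_ne_ne (r : RS D d x R) {e : G} (he : e ∈ Cls D d) :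
    ∃ a ∈ Cls D d, a ≠ e ∧ a * e ∈ Cls D d := by
  obtain ⟨a, ha, hae⟩ := r.exists_ne e
  exact ⟨a, ha, hae, r.mul a ha e he hae⟩

/-- **P-lemma.** If `[R, X]` consists of elements centralized by `X`, then `X` centralizes `R`. -/
theorem cen_of [Finite G] (r : RS D d x R) (h1 : ∀ u ∈ R, ∀ g ∈ XX D d x, ∀ k ∈ XX D d x,
    Commute k (u⁻¹ * (g * u * g⁻¹))) : False := by
  apply r.ncen
  have hodd : ∀ g ∈ XX D d x, Odd (orderOf g) → ∀ u ∈ R, Commute g u := by
    intro g hg ho u hu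
    set c : G := u⁻¹ * (g * u * g⁻¹) with hc
    have hcg : Commute g c := h1 u hu g hg g hg
    have hgu : g * u * g⁻¹ = u * c := by rw [hc]; group
    have hk : ∀ k : ℕ, g ^ k * u * (g ^ k)⁻¹ = u * c ^ k := by
      intro k
      induction k with
      | zero => simp
      | succ k ih =>
        have h2 : g * c ^ k * g⁻¹ = c ^ k := by
          rw [(hcg.pow_right k).eq]; group
        calc g ^ (k + 1) * u * (g ^ (k + 1))⁻¹ = g * (g ^ k * u * (g ^ k)⁻¹) * g⁻¹ := by
              rw [pow_succ']; group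
          _ = g * (u * c ^ k) * g⁻¹ := by rw [ih]
          _ = (g * u * g⁻¹) * (g * c ^ k * g⁻¹) := by group
          _ = u * c ^ (k + 1) := by rw [hgu, h2, pow_succ']; group
    have h3 := hk (orderOf g)
    rw [pow_orderOf_eq_one] at h3
    have h4 : c ^ orderOf g = 1 := by
      calc c ^ orderOf g = u⁻¹ * (u * c ^ orderOf g) := by group
        _ = 1 := by rw [← h3]; group
    have h5 : Odd (orderOf c) := Odd.of_dvd_nat ho (orderOf_dvd_of_pow_eq_one h4)
    have hcR : c ∈ R := mul_mem (inv_mem hu) (r.nrm g hg u hu)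
    have h6 : c = 1 := eq_one_of_odd_of_mem r.pg h5 (pow_mem hcR 2)
    rw [h6, mul_one] at hgu
    exact conj_eq_iff.1 hgu
  have hax : ∀ a ∈ Cls D d, ∀ u ∈ R, Commute (a * x) u := by
    intro a ha u hu
    refine hodd _ (mul_mem (cls_X ha) x_X) ?_ u hu
    refine r.h.ot.odd_of ha.1 r.hx (fun h2 => r.nc ?_)
    exact ((ha.2 x r.hx).2 h2.symm).symm
  have he : ∀ e ∈ Cls D d, ∀ u ∈ R, Commute e u := by
    intro e he u hu
    obtain ⟨a, ha, hae, hae'⟩ := r.exists_ne_ne he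
    have h2 := (hax a ha u hu).mul_left ((hax _ hae' u hu).inv_left)
    have e1 : a * x * (a * e * x)⁻¹ = e := by
      rw [mul_inv_rev, mul_inv_rev, r.h.ot.inv he.1, r.h.ot.inv ha.1]
      calc a * x * (x⁻¹ * (e * a)) = a * (e * a) := by group
        _ = a * (a * e) := by rw [(r.h.cls_comm r.hd e he a ha).eq]
        _ = (a * a) * e := by group
        _ = e := by rw [r.h.ot.sq a ha.1, one_mul]
    rwa [e1] at h2
  intro g hg u hu
  refine (commute_closure (S := Cls D d ∪ {x}) ?_ hg).symm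
  rintro s (hs | hs)
  · exact (he s hs u hu).symm
  · rw [Set.mem_singleton_iff.1 hs]
    have h2 := (he d r.dd u hu).mul_left (hax d r.dd u hu)
    have e1 : d * (d * x) = x := by rw [← mul_assoc, r.h.ot.sq d r.hd, one_mul]
    rw [e1] at h2
    exact h2.symm

variable [Finite G]

/-- **R5.** Commutators of `R` lie in `C`. -/
theorem comm_mem (r : RS D d x R) {u v : G} (hu : u ∈ R) (hv : v ∈ R) :
    u * v * u⁻¹ * v⁻¹ ∈ C D d x R := by
  set S : Subgroup G := Subgroup.closure {g | ∃ u ∈ R, ∃ v ∈ R, u * v * u⁻¹ * v⁻¹ = g} with hS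
  have hSR : S ≤ R := by
    rw [hS, Subgroup.closure_le]
    rintro _ ⟨u, hu, v, hv, rfl⟩
    exact mul_mem (mul_mem (mul_mem hu hv) (inv_mem hu)) (inv_mem hv)
  have hSn : ∀ g ∈ XX D d x, ∀ u ∈ S, g * u * g⁻¹ ∈ S := by
    intro g hg u hu
    refine conj_mem_closure (T := {g | ∃ u ∈ R, ∃ v ∈ R, u * v * u⁻¹ * v⁻¹ = g}) ?_ hu
    rintro _ ⟨u, hu, v, hv, rfl⟩
    exact ⟨g * u * g⁻¹, r.nrm g hg u hu, g * v * g⁻¹, r.nrm g hg v hv, by group⟩
  have hSne : S ≠ R := by
    intro hSR'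
    have hfact : Fact (Nat.Prime 2) := ⟨Nat.prime_two⟩
    have hRne : R ≠ ⊥ := by
      rintro rfl
      apply r.ncen
      intro g _ u hu
      rw [Subgroup.mem_bot.1 hu]
      exact Commute.one_right _
    have hnt : Nontrivial ↥R := (Subgroup.nontrivial_iff_ne_bot R).2 hRne
    have hnil : Group.IsNilpotent ↥R := r.pg.isNilpotent
    have hsol : Group.IsSolvable ↥R := inferInstance
    have hlt := Group.IsSolvable.commutator_lt_top_of_nontrivial (G := ↥R)
    apply hlt.ne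
    rw [eq_top_iff]
    rintro ⟨w, hw⟩ -
    have hw' : w ∈ S := by rw [hSR']; exact hw
    refine (Subgroup.closure_le (commutator ↥R)).2 ?_ (mem_closure_sub (L := R)
      (T := {g : ↥R | ∃ u v : ↥R, u * v * u⁻¹ * v⁻¹ = g}) ?_ ?_ hw' hw)
    · rintro _ ⟨u, v, rfl⟩
      exact Subgroup.commutator_mem_commutator (Subgroup.mem_top u) (Subgroup.mem_top v)
    · rintro _ ⟨u, hu, v, hv, rfl⟩
      exact mul_mem (mul_mem (mul_mem hu hv) (inv_mem hu)) (inv_mem hv)
    · rintro y ⟨u, hu, v, hv, hy⟩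
      exact ⟨⟨u, hu⟩, ⟨v, hv⟩, Subtype.ext hy⟩
  have h1 : u * v * u⁻¹ * v⁻¹ ∈ S := Subgroup.subset_closure ⟨u, hu, v, hv, rfl⟩
  exact mem_C.2 ⟨hSR h1, fun g hg => r.min S hSR hSn hSne g hg _ h1⟩

/-- **R6.** `C` is central in `R`. -/
theorem central (r : RS D d x R) {c u : G} (hc : c ∈ C D d x R) (hu : u ∈ R) : Commute u c := by
  set S : Subgroup G := R ⊓ Subgroup.centralizer (C D d x R : Set G) with hS
  have hmem : ∀ w, w ∈ S ↔ w ∈ R ∧ ∀ c ∈ C D d x R, Commute w c := by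
    intro w
    rw [hS, Subgroup.mem_inf, Subgroup.mem_centralizer_iff]
    exact and_congr_right fun _ => forall₂_congr fun c _ => ⟨fun h => h.symm, fun h => h.symm⟩
  have hSn : ∀ g ∈ XX D d x, ∀ u ∈ S, g * u * g⁻¹ ∈ S := by
    intro g hg w hw
    rw [hmem] at hw ⊢
    refine ⟨r.nrm g hg w hw.1, fun c hc => ?_⟩
    have hgc : g * c = c * g := (mem_C.1 hc).2 g hg
    have h1 := (hw.2 c hc).eq
    have hgc' : g⁻¹ * c = c * g⁻¹ := by
      calc g⁻¹ * c = g⁻¹ * (c * g) * g⁻¹ := by group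
        _ = g⁻¹ * (g * c) * g⁻¹ := by rw [hgc]
        _ = c * g⁻¹ := by group
    show g * w * g⁻¹ * c = c * (g * w * g⁻¹)
    calc g * w * g⁻¹ * c = g * w * (g⁻¹ * c) := by group
      _ = g * (w * c) * g⁻¹ := by rw [hgc']; group
      _ = (g * c) * w * g⁻¹ := by rw [h1]; group
      _ = c * (g * w * g⁻¹) := by rw [hgc]; group
  by_cases hne : S = R
  · have h1 : u ∈ S := by rw [hne]; exact hu
    exact ((hmem u).1 h1).2 c hc
  · exfalso
    apply r.cen_of
    intro w hw g hg k hk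
    refine r.min S inf_le_left hSn hne k hk _ ?_
    rw [hmem]
    refine ⟨mul_mem (inv_mem hw) (r.nrm g hg w hw), fun c hc => ?_⟩
    -- `w c w⁻¹ ∈ C`
    have hgc : g * c = c * g := (mem_C.1 hc).2 g hg
    have hgc' : g⁻¹ * c * g = c := by
      calc g⁻¹ * c * g = g⁻¹ * (c * g) := by group
        _ = c := by rw [← hgc]; group
    have h2 : w * c * w⁻¹ ∈ C D d x R := by
      have h3 := mul_mem (r.comm_mem hw (mem_C.1 hc).1) hc
      have e : w * c * w⁻¹ * c⁻¹ * c = w * c * w⁻¹ := by group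
      rwa [e] at h3
    have h4 : g * (w * c * w⁻¹) * g⁻¹ = w * c * w⁻¹ := conj_eq_iff.2 ((mem_C.1 h2).2 g hg)
    show w⁻¹ * (g * w * g⁻¹) * c = c * (w⁻¹ * (g * w * g⁻¹))
    calc w⁻¹ * (g * w * g⁻¹) * c = w⁻¹ * (g * (w * (g⁻¹ * c * g) * w⁻¹) * g⁻¹) * (g * w * g⁻¹) := by
          group
      _ = w⁻¹ * (g * (w * c * w⁻¹) * g⁻¹) * (g * w * g⁻¹) := by rw [hgc']
      _ = w⁻¹ * (w * c * w⁻¹) * (g * w * g⁻¹) := by rw [h4]
      _ = c * (w⁻¹ * (g * w * g⁻¹)) := by group

/-- `C_R(x)`. -/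
theorem exists_g (r : RS D d x R) : ∃ g ∈ XX D d x, g * d * g⁻¹ = x := by
  obtain ⟨g, hg, h1⟩ := r.h.ot.exists_conj r.hd r.hx r.nc
  refine ⟨g, ?_, h1⟩
  refine (Subgroup.closure_le _).2 ?_ hg
  rintro s (rfl | hs)
  · exact cls_X r.dd
  · rw [Set.mem_singleton_iff.1 hs]; exact x_X

theorem C_conj (r : RS D d x R) {c g : G} (hc : c ∈ C D d x R) (hg : g ∈ XX D d x) :
    g * c * g⁻¹ = c := conj_eq_iff.2 ((mem_C.1 hc).2 g hg)

/-- The counting argument: the three injections are bijections. -/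
theorem count (r : RS D d x R) {a : G} (ha : a ∈ Cls D d) :
    (∀ k ∈ K d R, ∃ u ∈ R, (br a u)⁻¹ * k ∈ C D d x R) ∧
    ∀ u ∈ R, ∃ l ∈ K x R, l⁻¹ * u ∈ K d R := by
  classical
  obtain ⟨g, hg, hgd⟩ := r.exists_g
  have hgx : g⁻¹ * x * g = d := by rw [← hgd]; group
  -- membership in `K x R`
  have hKg : ∀ k ∈ K d R, g * k * g⁻¹ ∈ K x R := by
    intro k hk
    rw [mem_K] at hk ⊢
    refine ⟨r.nrm g hg k hk.1, ?_⟩
    rw [← hgd]
    show g * k * g⁻¹ * (g * d * g⁻¹) = g * d * g⁻¹ * (g * k * g⁻¹)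
    calc g * k * g⁻¹ * (g * d * g⁻¹) = g * (k * d) * g⁻¹ := by group
      _ = g * (d * k) * g⁻¹ := by rw [hk.2.eq]
      _ = _ := by group
  have hCx : C D d x R ≤ K x R := by
    intro c hc
    rw [mem_C] at hc
    exact mem_K.2 ⟨hc.1, (hc.2 x x_X).symm⟩
  have hCd := r.C_le
  have hKR : K d R ≤ R := inf_le_left
  have hKxR : K x R ≤ R := inf_le_left
  -- the three quotients
  let α := ↥(K x R) ⧸ (C D d x R).subgroupOf (K x R)
  let β := ↥R ⧸ (K d R).subgroupOf R
  let γ := ↥(K d R) ⧸ (C D d x R).subgroupOf (K d R)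
  have rel : ∀ {H L : Subgroup G} {p q : ↥L},
      (QuotientGroup.mk p : ↥L ⧸ H.subgroupOf L) = QuotientGroup.mk q ↔ (p : G)⁻¹ * q ∈ H := by
    intro H L p q
    rw [QuotientGroup.eq, Subgroup.mem_subgroupOf]
    exact Iff.rfl
  let f₁ : γ → α := Quotient.lift
    (fun k : ↥(K d R) => (QuotientGroup.mk ⟨g * k * g⁻¹, hKg k k.2⟩ : α)) (by
      intro p q hpq
      have hpq' : (p : G)⁻¹ * q ∈ C D d x R := rel.1 (Quotient.sound hpq)
      refine rel.2 ?_
      show (g * (p : G) * g⁻¹)⁻¹ * (g * q * g⁻¹) ∈ C D d x R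
      have e : (g * (p : G) * g⁻¹)⁻¹ * (g * q * g⁻¹) = g * ((p : G)⁻¹ * q) * g⁻¹ := by group
      rw [e, r.C_conj hpq' hg]; exact hpq')
  let f₂ : α → β := Quotient.lift
    (fun l : ↥(K x R) => (QuotientGroup.mk ⟨l, hKxR l.2⟩ : β)) (by
      intro p q hpq
      have hpq' : (p : G)⁻¹ * q ∈ C D d x R := rel.1 (Quotient.sound hpq)
      exact rel.2 (hCd hpq'))
  let f₃ : β → γ := Quotient.lift
    (fun u : ↥R => (QuotientGroup.mk ⟨br a u, r.br_K ha u.2⟩ : γ)) (by
      intro p q hpq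
      have hpq' : (p : G)⁻¹ * q ∈ K d R := rel.1 (Quotient.sound hpq)
      refine rel.2 ?_
      have h1 := (r.mem_K_iff ha (mul_mem (inv_mem p.2) q.2)).1 hpq'
      have h2 : br a (q : G) = br a (p : G) := by
        unfold br
        congr 1
        calc (q : G) * a * (q : G)⁻¹ = p * ((p : G)⁻¹ * q * a * ((p : G)⁻¹ * q)⁻¹) * (p : G)⁻¹ := by
              group
          _ = _ := by rw [h1]
      show (br a (p : G))⁻¹ * br a (q : G) ∈ C D d x R
      rw [h2, inv_mul_cancel]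
      exact one_mem _)
  have i₁ : Function.Injective f₁ := by
    intro p q
    obtain ⟨p, rfl⟩ := QuotientGroup.mk_surjective p
    obtain ⟨q, rfl⟩ := QuotientGroup.mk_surjective q
    intro h1
    have h1' : (QuotientGroup.mk ⟨g * p * g⁻¹, hKg p p.2⟩ : α) =
      QuotientGroup.mk ⟨g * q * g⁻¹, hKg q q.2⟩ := h1
    have h2 : (g * (p : G) * g⁻¹)⁻¹ * (g * q * g⁻¹) ∈ C D d x R := rel.1 h1'
    refine rel.2 ?_
    have h3 := r.C_conj h2 (inv_mem hg)
    have e : g⁻¹ * ((g * (p : G) * g⁻¹)⁻¹ * (g * q * g⁻¹)) * g⁻¹⁻¹ = (p : G)⁻¹ * q := by group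
    rw [e] at h3
    rw [h3]; exact h2
  have i₂ : Function.Injective f₂ := by
    intro p q
    obtain ⟨p, rfl⟩ := QuotientGroup.mk_surjective p
    obtain ⟨q, rfl⟩ := QuotientGroup.mk_surjective q
    intro h1
    have h1' : (QuotientGroup.mk ⟨p, hKxR p.2⟩ : β) = QuotientGroup.mk ⟨q, hKxR q.2⟩ := h1
    have h2 : (p : G)⁻¹ * q ∈ K d R :=
      (rel (H := K d R) (L := R) (p := ⟨p, hKxR p.2⟩) (q := ⟨q, hKxR q.2⟩)).1 h1'
    refine rel.2 ?_
    rw [r.mem_C_iff]
    refine ⟨h2, ?_⟩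
    exact (mem_K.1 (mul_mem (inv_mem p.2) q.2)).2.symm
  have i₃ : Function.Injective f₃ := by
    intro p q
    obtain ⟨p, rfl⟩ := QuotientGroup.mk_surjective p
    obtain ⟨q, rfl⟩ := QuotientGroup.mk_surjective q
    intro h1
    have h1' : (QuotientGroup.mk ⟨br a p, r.br_K ha p.2⟩ : γ) =
      QuotientGroup.mk ⟨br a q, r.br_K ha q.2⟩ := h1
    have h2 : (br a (p : G))⁻¹ * br a (q : G) ∈ C D d x R := rel.1 h1'
    refine rel.2 ?_
    have hpq : (p : G)⁻¹ * q ∈ R := mul_mem (inv_mem p.2) q.2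
    apply r.br_mem_C ha hpq
    -- conjugate by `p`
    have e : p * br a ((p : G)⁻¹ * q) * (p : G)⁻¹ = (br a (p : G))⁻¹ * br a (q : G) := by
      rw [inv_of_sq (r.br_sq ha p.2)]
      unfold br
      have h3 := (r.comm_conj_cls ha ha p.2).eq
      calc p * (a * ((p : G)⁻¹ * q * a * ((p : G)⁻¹ * q)⁻¹)) * (p : G)⁻¹
          = (p * a * (p : G)⁻¹) * (q * a * (q : G)⁻¹) := by group
        _ = (p * a * (p : G)⁻¹) * (a * a) * (q * a * (q : G)⁻¹) := by
            rw [r.h.ot.sq a ha.1, mul_one]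
        _ = ((p * a * (p : G)⁻¹) * a) * (a * (q * a * (q : G)⁻¹)) := by group
        _ = (a * (p * a * (p : G)⁻¹)) * (a * (q * a * (q : G)⁻¹)) := by rw [h3]
    have h4 : br a ((p : G)⁻¹ * q) = (br a (p : G))⁻¹ * br a (q : G) := by
      have h5 := (r.central h2 (inv_mem p.2)).eq
      calc br a ((p : G)⁻¹ * q) = (p : G)⁻¹ * (p * br a ((p : G)⁻¹ * q) * (p : G)⁻¹) * p := by group
        _ = (p : G)⁻¹ * ((br a (p : G))⁻¹ * br a (q : G)) * p := by rw [e]
        _ = _ := by rw [h5]; group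
    rw [h4]; exact h2
  have c₁ : Nat.card γ ≤ Nat.card α := Nat.card_le_card_of_injective f₁ i₁
  have c₂ : Nat.card α ≤ Nat.card β := Nat.card_le_card_of_injective f₂ i₂
  have c₃ : Nat.card β ≤ Nat.card γ := Nat.card_le_card_of_injective f₃ i₃
  have b₂ : Function.Bijective f₂ := i₂.bijective_of_nat_card_le (by omega)
  have b₃ : Function.Bijective f₃ := i₃.bijective_of_nat_card_le (by omega)
  constructor
  · intro k hk
    obtain ⟨p, hp⟩ := b₃.2 (QuotientGroup.mk ⟨k, hk⟩)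
    obtain ⟨p, rfl⟩ := QuotientGroup.mk_surjective p
    exact ⟨p, p.2, rel.1 hp⟩
  · intro u hu
    obtain ⟨p, hp⟩ := b₂.2 (QuotientGroup.mk ⟨u, hu⟩)
    obtain ⟨p, rfl⟩ := QuotientGroup.mk_surjective p
    exact ⟨p, p.2, rel.1 hp⟩

theorem exists_br (r : RS D d x R) {a : G} (ha : a ∈ Cls D d) {k : G} (hk : k ∈ K d R) :
    ∃ u ∈ R, ∃ c ∈ C D d x R, k = br a u * c := by
  obtain ⟨u, hu, h1⟩ := (r.count ha).1 k hk
  exact ⟨u, hu, _, h1, by group⟩

theorem exists_decomp (r : RS D d x R) {u : G} (hu : u ∈ R) :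
    ∃ l ∈ K x R, ∃ k ∈ K d R, u = l * k := by
  obtain ⟨l, hl, h1⟩ := (r.count r.dd).2 u hu
  exact ⟨l, hl, _, h1, by group⟩

/-- `K` is abelian. -/
theorem K_comm (r : RS D d x R) {k l : G} (hk : k ∈ K d R) (hl : l ∈ K d R) : Commute k l := by
  obtain ⟨u, hu, c, hc, rfl⟩ := r.exists_br r.dd hk
  obtain ⟨v, hv, c', hc', rfl⟩ := r.exists_br r.dd hl
  have h1 := r.br_br r.dd r.dd hu hv
  have h2 := r.central hc (r.br_mem r.dd hv)
  have h3 := r.central hc' (r.br_mem r.dd hu)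
  have h4 := r.central hc' (mem_C.1 hc).1
  exact (h1.mul_right h3).mul_left (h2.symm.mul_right h4)

theorem K_sq (r : RS D d x R) {k : G} (hk : k ∈ K d R) : k * k ∈ C D d x R := by
  obtain ⟨u, hu, c, hc, rfl⟩ := r.exists_br r.dd hk
  have h2 := (r.central hc (r.br_mem r.dd hu)).eq
  have e : br d u * c * (br d u * c) = (br d u * br d u) * (c * c) := by
    calc br d u * c * (br d u * c) = br d u * (c * br d u) * c := by group
      _ = br d u * (br d u * c) * c := by rw [h2]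
      _ = _ := by group
  rw [e, r.br_sq r.dd hu, one_mul]
  exact mul_mem hc hc

theorem Kx_sq (r : RS D d x R) {l : G} (hl : l ∈ K x R) : l * l ∈ C D d x R := by
  obtain ⟨g, hg, hgd⟩ := r.exists_g
  have hk : g⁻¹ * l * g ∈ K d R := by
    rw [mem_K] at hl ⊢
    refine ⟨?_, ?_⟩
    · have := r.nrm g⁻¹ (inv_mem hg) l hl.1
      rwa [inv_inv] at this
    · have h1 := hl.2.eq
      rw [← hgd] at h1
      show g⁻¹ * l * g * d = d * (g⁻¹ * l * g)
      calc g⁻¹ * l * g * d = g⁻¹ * (l * (g * d * g⁻¹)) * g := by group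
        _ = g⁻¹ * ((g * d * g⁻¹) * l) * g := by rw [h1]
        _ = _ := by group
  have h1 := r.K_sq hk
  have e : l * l = g * (g⁻¹ * l * g * (g⁻¹ * l * g)) * g⁻¹ := by group
  rw [e, r.C_conj h1 hg]; exact h1

theorem Kx_comm (r : RS D d x R) {k l : G} (hk : k ∈ K x R) (hl : l ∈ K x R) : Commute k l := by
  obtain ⟨g, hg, hgd⟩ := r.exists_g
  have hcj : ∀ l ∈ K x R, g⁻¹ * l * g ∈ K d R := by
    intro l hl
    rw [mem_K] at hl ⊢
    refine ⟨?_, ?_⟩
    · have := r.nrm g⁻¹ (inv_mem hg) l hl.1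
      rwa [inv_inv] at this
    · have h1 := hl.2.eq
      rw [← hgd] at h1
      show g⁻¹ * l * g * d = d * (g⁻¹ * l * g)
      calc g⁻¹ * l * g * d = g⁻¹ * (l * (g * d * g⁻¹)) * g := by group
        _ = g⁻¹ * ((g * d * g⁻¹) * l) * g := by rw [h1]
        _ = _ := by group
  have h1 := (r.K_comm (hcj k hk) (hcj l hl)).eq
  show k * l = l * k
  calc k * l = g * (g⁻¹ * k * g * (g⁻¹ * l * g)) * g⁻¹ := by group
    _ = g * (g⁻¹ * l * g * (g⁻¹ * k * g)) * g⁻¹ := by rw [h1]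
    _ = l * k := by group

/-- Squares of elements of `R` lie in `C`. -/
theorem sq_mem (r : RS D d x R) {u : G} (hu : u ∈ R) : u * u ∈ C D d x R := by
  obtain ⟨l, hl, k, hk, rfl⟩ := r.exists_decomp hu
  have hlR := (mem_K.1 hl).1
  have hkR := (mem_K.1 hk).1
  have h1 := r.comm_mem (inv_mem hl |> fun h => (mem_K.1 h).1) hkR
  -- `l k l k = l² (l⁻¹ k l k⁻¹) k²`
  have e : l * k * (l * k) = (l * l) * (l⁻¹ * k * l⁻¹⁻¹ * k⁻¹) * (k * k) := by group
  rw [e]
  exact mul_mem (mul_mem (r.Kx_sq hl) h1) (r.K_sq hk)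

end RS

/-- Existence of minimal groups. -/
theorem exists_RS [Finite G] (h : Hyp D) (hd : d ∈ D) (hx : x ∈ D) (hnc : ¬ Commute d x)
    (hmul : ∀ a ∈ Cls D d, ∀ b ∈ Cls D d, a ≠ b → a * b ∈ Cls D d) {Q : Subgroup G}
    (hQ : IsPGroup 2 Q) (hn : ∀ g ∈ XX D d x, ∀ u ∈ Q, g * u * g⁻¹ ∈ Q)
    (hc : ¬ ∀ g ∈ XX D d x, ∀ u ∈ Q, Commute g u) : ∃ R ≤ Q, RS D d x R := by
  classical
  have key : ∀ n : ℕ, ∀ R : Subgroup G, Nat.card R = n → R ≤ Q →
      (∀ g ∈ XX D d x, ∀ u ∈ R, g * u * g⁻¹ ∈ R) → (¬ ∀ g ∈ XX D d x, ∀ u ∈ R, Commute g u) →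
      ∃ R ≤ Q, RS D d x R := by
    intro n
    induction n using Nat.strong_induction_on with
    | _ n ih =>
    intro R hRn hRQ hRn' hRc
    by_cases hmin : ∀ S : Subgroup G, S ≤ R → (∀ g ∈ XX D d x, ∀ u ∈ S, g * u * g⁻¹ ∈ S) → S ≠ R →
        ∀ g ∈ XX D d x, ∀ u ∈ S, Commute g u
    · exact ⟨R, hRQ, h, hd, hx, hnc, hmul, hQ.to_le hRQ, hRn', hRc, hmin⟩
    · push Not at hmin
      obtain ⟨S, hSR, hSn, hSne, g, hg, u, hu, hgu⟩ := hmin
      refine ih (Nat.card S) ?_ S rfl (hSR.trans hRQ) hSn (fun h1 => hgu (h1 g hg u hu))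
      rw [← hRn]
      have h1 : Nat.card S ≤ Nat.card R := Nat.card_le_card_of_injective _ (Subgroup.inclusion_injective hSR)
      rcases h1.lt_or_eq with h2 | h2
      · exact h2
      · exfalso
        apply hSne
        exact Subgroup.eq_of_le_of_card_ge hSR h2.ge
  exact key _ Q rfl le_rfl hn hc

end Cfsg.Agent.H738
end

-- part: H738/LineLem
section
/-!
# Odd transpositions: the line lemma

* `RS.line`: in the situation of `RS`, there are `c, c2 ∈ D` commuting with `d`, not equivalent to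
  `d`, such that every member commuting with both commutes with `d`.
* `exists_far`: for noncommuting `d, x` some `f ∈ D` commutes with `d`, is not equivalent to `d` and
  does not commute with `x`.
* `exists_RS'`: existence of `R` with `RS D d x R`.
-/

set_option autoImplicit false

universe u

namespace Cfsg.Agent.H738

open Cfsg.Agent.H737

variable {G : Type u} [Group G] {D : Set G} {d x : G} {R : Subgroup G}

theorem conj_mem_of_closure {S T : Set G} (hT : ∀ t ∈ T, t * t = 1)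
    (h : ∀ t ∈ T, ∀ s ∈ S, t * s * t ∈ S) {g : G} (hg : g ∈ Subgroup.closure T) :
    ∀ s ∈ S, g * s * g⁻¹ ∈ S := by
  have key : ∀ g ∈ Subgroup.closure T, ∀ a ∈ S, g * a * g⁻¹ ∈ S ∧ g⁻¹ * a * g ∈ S := by
    intro g hg
    induction hg using Subgroup.closure_induction with
    | mem b hb =>
      intro a ha
      rw [inv_of_sq (hT b hb)]
      exact ⟨h b hb a ha, h b hb a ha⟩
    | one => intro a ha; simpa using ha
    | mul x y _ _ hx hy =>
      intro a ha
      refine ⟨?_, ?_⟩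
      · have := (hx _ (hy a ha).1).1
        have e : x * (y * a * y⁻¹) * x⁻¹ = x * y * a * (x * y)⁻¹ := by group
        rwa [e] at this
      · have := (hy _ (hx a ha).2).2
        have e : y⁻¹ * (x⁻¹ * a * x) * y = (x * y)⁻¹ * a * (x * y) := by group
        rwa [e] at this
    | inv x _ hx =>
      intro a ha
      rw [inv_inv]
      exact ⟨(hx a ha).2, (hx a ha).1⟩
  exact fun s hs => (key g hg s hs).1

namespace RS

variable [Finite G]

theorem not_le_K (r : RS D d x R) (h : ∀ u ∈ R, u ∈ K d R) : False := by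
  apply r.ncen
  obtain ⟨g, hg, hgd⟩ := r.exists_g
  intro k hk u hu
  have h1 : u ∈ C D d x R := by
    rw [r.mem_C_iff]
    refine ⟨h u hu, ?_⟩
    have h2 : g⁻¹ * u * g ∈ R := by
      have := r.nrm g⁻¹ (inv_mem hg) u hu
      rwa [inv_inv] at this
    have h3 := (mem_K.1 (h _ h2)).2.eq
    rw [← hgd]
    show g * d * g⁻¹ * u = u * (g * d * g⁻¹)
    calc g * d * g⁻¹ * u = g * (d * (g⁻¹ * u * g)) * g⁻¹ := by group
      _ = g * (g⁻¹ * u * g * d) * g⁻¹ := by rw [h3]
      _ = _ := by group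
  exact (mem_C.1 h1).2 k hk

theorem exists_not_K (r : RS D d x R) : ∃ u ∈ K x R, u ∉ K d R := by
  by_contra hcon
  push Not at hcon
  apply r.not_le_K
  intro w hw
  obtain ⟨l, hl, k, hk, rfl⟩ := r.exists_decomp hw
  exact mul_mem (hcon l hl) hk

/-- `br a (uv) = br a u · u (br a v) u⁻¹`. -/
theorem br_mul {a u v : G} (haa : a * a = 1) :
    br a (u * v) = br a u * (u * br a v * u⁻¹) := by
  unfold br
  calc a * (u * v * a * (u * v)⁻¹) = a * (u * (v * a * v⁻¹) * u⁻¹) := by group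
    _ = a * (u * (a * a) * (v * a * v⁻¹) * u⁻¹) := by rw [haa, mul_one]
    _ = _ := by group

/-- **The line lemma.** -/
theorem line (r : RS D d x R) : ∃ c ∈ D, ∃ c2 ∈ D, Commute c d ∧ Commute c2 d ∧ c ∉ Cls D d ∧
    c2 ∉ Cls D d ∧ ∀ y ∈ D, Commute y c → Commute y c2 → Commute y d := by
  obtain ⟨a, ha, had⟩ := r.exists_ne d
  obtain ⟨u, hu, huK⟩ := r.exists_not_K
  have hdd := r.dd
  have huR := (mem_K.1 hu).1
  have hdsq := r.h.ot.sq d r.hd
  -- `v`
  obtain ⟨w, hw, c, hc, hwc⟩ := r.exists_br hdd (r.br_K ha huR)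
  obtain ⟨v, hv, k, hk, rfl⟩ := r.exists_decomp hw
  have hvR := (mem_K.1 hv).1
  have hbrv : br a u = br d v * c := by
    rw [hwc]
    congr 1
    unfold br
    have h1 := (r.mem_K_iff hdd (mem_K.1 hk).1).1 hk
    calc d * (v * k * d * (v * k)⁻¹) = d * (v * (k * d * k⁻¹) * v⁻¹) := by group
      _ = _ := by rw [h1]
  have huv : Commute u v := r.Kx_comm hu hv
  have huvR : u * v ∈ R := mul_mem huR hvR
  -- `u` commutes with `br a u`
  have hself : ∀ (b : G), b ∈ Cls D d → ∀ t : G, t ∈ K x R → Commute t (br b t) := by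
    intro b hb t ht
    have htR := (mem_K.1 ht).1
    have h1 := (mem_C.1 (r.Kx_sq ht)).2 b (cls_X hb)
    have h2 := (r.comm_conj_cls hb hb htR).eq
    have h3 : t * (t * b * t⁻¹) * t⁻¹ = b := by
      calc t * (t * b * t⁻¹) * t⁻¹ = (t * t * b) * (t * t)⁻¹ := by group
        _ = (b * (t * t)) * (t * t)⁻¹ := by rw [h1.eq]
        _ = b := by group
    rw [← conj_eq_iff]
    unfold br
    calc t * (b * (t * b * t⁻¹)) * t⁻¹ = (t * b * t⁻¹) * (t * (t * b * t⁻¹) * t⁻¹) := by group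
      _ = (t * b * t⁻¹) * b := by rw [h3]
      _ = b * (t * b * t⁻¹) := h2
  have hubv : Commute u (br d v) := by
    have h1 : br d v = br a u * c⁻¹ := by rw [hbrv]; group
    rw [h1]
    exact (hself a ha u hu).mul_right (r.central hc huR).inv_right
  -- `v` commutes with `br d u`
  have hvbu : Commute v (br d u) := by
    have h1 : br d (u * v) = br d u * br d v := by
      rw [br_mul hdsq, conj_eq_iff.2 hubv]
    have h2 : br d (v * u) = br d v * (v * br d u * v⁻¹) := br_mul hdsq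
    rw [← huv.eq, h1, (r.br_br hdd hdd huR hvR).eq] at h2
    exact conj_eq_iff.1 (mul_left_cancel h2).symm
  have hcD := r.conjD hdd v
  have hc2D := r.conjD hdd (u * v)
  have hprod : (v * d * v⁻¹) * (u * v * d * (u * v)⁻¹) = d * (u * d * u⁻¹) := by
    calc (v * d * v⁻¹) * (u * v * d * (u * v)⁻¹) = (v * d * v⁻¹) * (v * u * d * (v * u)⁻¹) := by
          rw [huv.eq]
      _ = v * br d u * v⁻¹ := by unfold br; group
      _ = br d u := conj_eq_iff.2 hvbu
  refine ⟨_, hcD, _, hc2D, r.comm_conj_cls hdd hdd hvR, r.comm_conj_cls hdd hdd huvR, ?_, ?_, ?_⟩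
  · intro h1
    have h2 := r.conj_cls_self hdd h1 hvR
    have h3 : br d v = 1 := br_eq_one h2 hdsq
    rw [h3, one_mul] at hbrv
    exact huK (r.br_mem_C ha huR (by rw [hbrv]; exact hc))
  · intro h1
    have h2 := r.conj_cls_self hdd h1 huvR
    have h3 : br d (u * v) = 1 := br_eq_one h2 hdsq
    rw [br_mul hdsq, conj_eq_iff.2 hubv] at h3
    have h4 : br d v = br d u := by
      have h5 := r.br_sq hdd huR
      calc br d v = (br d u * br d u) * br d v := by rw [h5, one_mul]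
        _ = br d u * (br d u * br d v) := by group
        _ = br d u := by rw [h3, mul_one]
    have hadC := r.mul a ha d hdd had
    apply huK
    apply r.br_mem_C hadC huR
    have h5 : br (a * d) u = br a u * br d u := by
      have h6 := (r.comm_conj_cls ha hdd huR).eq
      unfold br
      calc a * d * (u * (a * d) * u⁻¹) = a * (d * (u * a * u⁻¹)) * (u * d * u⁻¹) := by group
        _ = a * ((u * a * u⁻¹) * d) * (u * d * u⁻¹) := by rw [h6]
        _ = _ := by group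
    rw [h5, ← h4, hbrv]
    have h7 := (r.central hc (r.br_mem hdd hvR)).eq
    have h8 : br d v * c * br d v = c := by
      calc br d v * c * br d v = (br d v * c) * br d v := rfl
        _ = c * (br d v * br d v) := by rw [h7]; group
        _ = c := by rw [r.br_sq hdd hvR, mul_one]
    rw [h8]; exact hc
  · intro y hy h1 h2
    have h3 : Commute y (d * (u * d * u⁻¹)) := by
      rw [← hprod]; exact h1.mul_right h2
    refine r.h.ot.commute_of_commute_mul r.hd (r.conjD hdd u) (r.comm_conj_cls hdd hdd huR).symm ?_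
      hy h3
    intro h4
    exact huK ((r.mem_K_iff hdd huR).2 h4.symm)

end RS

/-- A member `n` commuting with `d`, not equivalent to `d`, and a member `y` noncommuting with
both. -/
theorem exists_good_pair (h : Hyp D) (hc : IsConnectedSet (CommAdj D) D) (hd : d ∈ D) (hx : x ∈ D)
    (hdx : ¬ Commute d x) : ∃ n ∈ D, ∃ y ∈ D, Commute n d ∧ n ∉ Cls D d ∧ ¬ Commute d y ∧
      ¬ Commute n y := by
  by_contra hcon
  push Not at hcon
  set N : Set G := {n | n ∈ D ∧ Commute n d ∧ n ∉ Cls D d} with hN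
  have h1 : ∀ n ∈ N, ∀ y ∈ D, y ∉ N → Commute n y := by
    intro n hn y hy hyN
    by_cases hyd : Commute d y
    · by_cases hyC : y ∈ Cls D d
      · exact (hyC.2 n hn.1).1 hn.2.1
      · exact absurd ⟨hy, hyd.symm, hyC⟩ hyN
    · exact hcon n hn.1 y hy hn.2.1 hn.2.2 hyd
  have h2 : ∀ g ∈ D, ∀ n ∈ N, g * n * g ∈ N := by
    intro g hg n hn
    have hfix : Commute n g → g * n * g = n := by
      intro h3
      rw [← h3.eq, mul_assoc, h.ot.sq g hg, mul_one]
    by_contra hcon2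
    have hgD := h.ot.conj n hn.1 g hg
    by_cases hgN : g ∈ N
    · have h3 := h1 g hgN _ hgD hcon2
      have h4 : Commute n g := by
        have h5 : g * (g * n * g) = g * n * g * g := h3
        have h6 : n * g = g * n := by
          calc n * g = (g * g) * n * g := by rw [h.ot.sq g hg, one_mul]
            _ = g * (g * n * g) := by group
            _ = g * n * (g * g) := by rw [h5]; group
            _ = g * n := by rw [h.ot.sq g hg, mul_one]
        exact h6
      rw [hfix h4] at hcon2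
      exact hcon2 hn
    · rw [hfix (h1 n hn g hg hgN)] at hcon2
      exact hcon2 hn
  have h3 : ∀ n ∈ D, Commute n d → n ∈ Cls D d := by
    intro n hn hnd
    by_contra hnC
    obtain ⟨g, hg⟩ := h.cls n hn d hd
    have h4 := conj_mem_of_closure (S := N) (T := D) h.ot.sq h2 (g := g)
      (by rw [h.gen]; exact Subgroup.mem_top g) n ⟨hn, hnd, hnC⟩
    rw [hg] at h4
    exact h4.2.2 ⟨hd, Eqv.refl _ _⟩
  have h4 := hc d hd x hx
  have h5 : ∀ y, Relation.ReflTransGen (CommAdj D) d y → y ∈ Cls D d := by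
    intro y hy
    induction hy with
    | refl => exact ⟨hd, Eqv.refl _ _⟩
    | tail _ h6 ih =>
      rename_i y z _
      obtain ⟨hy, hz, -, hyz⟩ := h6
      exact h3 z hz ((ih.2 z hz).2 (show Commute y z from hyz).symm)
  exact hdx ((h.cls_comm hd) d ⟨hd, Eqv.refl _ _⟩ x (h5 x h4))

variable [Finite G]

/-- If `n` commutes with `d`, is not equivalent to `d`, and `y` commutes with neither of them, then
there is `R` with `RS D d y R`. -/
theorem exists_RS_of_pair (h : Hyp D) (hO : pCore 2 G = ⊥) {n y : G} (hd : d ∈ D) (hn : n ∈ D)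
    (hy : y ∈ D) (hnd : Commute n d) (hnC : n ∉ Cls D d) (hdy : ¬ Commute d y)
    (hny : ¬ Commute n y) : ∃ R, RS D d y R := by
  obtain ⟨Q, hQ, hQn, c, hc, e, he, hce⟩ := common_fibre h hy hd hn (fun h1 => hdy h1.symm)
    (fun h1 => hny h1.symm) hnd
  have hle : XX D d y ≤ Subgroup.closure (Cls D d ∪ Cls D n ∪ {y}) := by
    apply Subgroup.closure_mono
    rintro z (hz | hz)
    · exact Or.inl (Or.inl hz)
    · exact Or.inr hz
  have hmul : ∀ a ∈ Cls D d, ∀ b ∈ Cls D d, a ≠ b → a * b ∈ Cls D d := fun a ha b hb hab =>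
    mul_cls h hO hd hy hdy ha hb hab
  have hncen : ¬ ∀ g ∈ XX D d y, ∀ u ∈ Q, Commute g u := by
    intro hcen
    have h1 : Commute y (c * e) := hcen y RS.x_X _ hce
    have hne : c ≠ e := by
      rintro rfl
      apply hnC
      exact ⟨hn, hc.2.trans he.2.symm⟩
    have hced : Commute c e := by
      have h2 : Commute c d := (h.cls_comm hd c hc d ⟨hd, Eqv.refl _ _⟩)
      have h3 : Commute n c := (hc.2 n hn).1 hnd
      exact (he.2 c hc.1).1 h3.symm
    have h2 := h.ot.commute_of_commute_mul hc.1 he.1 hced hne hy h1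
    exact hdy ((hc.2 y hy).2 h2).symm
  obtain ⟨R, -, hR⟩ := exists_RS h hd hy hdy hmul hQ (fun g hg => hQn g (hle hg)) hncen
  exact ⟨R, hR⟩

/-- For noncommuting `d, x` some `f ∈ D` commutes with `d`, is not equivalent to `d` and does not
commute with `x`. -/
theorem exists_far (h : Hyp D) (hO : pCore 2 G = ⊥) (hc : IsConnectedSet (CommAdj D) D)
    (hd : d ∈ D) (hx : x ∈ D) (hdx : ¬ Commute d x) :
    ∃ f ∈ D, Commute f d ∧ f ∉ Cls D d ∧ ¬ Commute f x := by
  obtain ⟨n, hn, y, hy, hnd, hnC, hdy, hny⟩ := exists_good_pair h hc hd hx hdx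
  obtain ⟨R, r⟩ := exists_RS_of_pair h hO hd hn hy hnd hnC hdy hny
  obtain ⟨c, hcD, c2, hc2D, h1, h2, h3, h4, h5⟩ := r.line
  by_cases h6 : Commute c x
  · by_cases h7 : Commute c2 x
    · exact absurd (h5 x hx h6.symm h7.symm).symm hdx
    · exact ⟨c2, hc2D, h2, h4, h7⟩
  · exact ⟨c, hcD, h1, h3, h6⟩

theorem exists_RS' (h : Hyp D) (hO : pCore 2 G = ⊥) (hc : IsConnectedSet (CommAdj D) D)
    (hd : d ∈ D) (hx : x ∈ D) (hdx : ¬ Commute d x) : ∃ R, RS D d x R := by
  obtain ⟨f, hf, h1, h2, h3⟩ := exists_far h hO hc hd hx hdx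
  exact exists_RS_of_pair h hO hd hf hx h1 h2 hdx h3

end Cfsg.Agent.H738
end

-- part: H738/SzEx
section
/-!
# Odd transpositions: `⟨E_d, x⟩` does not involve `Sz(q)`

`RS.sz_false`: in the situation of `RS` there is no `s ∈ X` commuting with `E_d` such that `s²` acts
as a member `b` of `E_d` on `R / C`.

The forms `th a u v = [br a u, v]` are symmetric, alternating and `s`-invariant; with
`N = s - 1` the form `G_a(u, v) = th a u (N v)` is symmetric, `G_b(u, u) = 1`, and an adjoint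
permutation `φ` of `R / ker` (`br b (φ u) ≡ br a u`) has a nontrivial fixed point of odd power.
-/

set_option autoImplicit false

universe u

namespace Cfsg.Agent.H738

open Cfsg.Agent.H737

/-! ### Two abstract lemmas -/

/-- A permutation of a set of even size with a fixed point has an odd power with another fixed
point. -/
theorem exists_odd_fixed {T : Type*} [Finite T] (h2 : 2 ∣ Nat.card T) (φ : Equiv.Perm T) {e : T}
    (he : φ e = e) : ∃ t, t ≠ e ∧ ∃ m : ℕ, (φ ^ (2 * m + 1)) t = t := by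
  classical
  have hfact : Fact (Nat.Prime 2) := ⟨Nat.prime_two⟩
  have hpos : orderOf φ ≠ 0 := (isOfFinOrder_of_finite φ).orderOf_pos.ne'
  obtain ⟨k, N, hN, hkN⟩ := Nat.exists_eq_two_pow_mul_odd hpos
  obtain ⟨m, hm⟩ := hN
  set ψ : Equiv.Perm T := φ ^ N with hψ
  have hψ2 : ψ ^ 2 ^ k = 1 := by
    rw [hψ, ← pow_mul, mul_comm, ← hkN, pow_orderOf_eq_one]
  have hP : IsPGroup 2 (Subgroup.zpowers ψ) := by
    rintro ⟨g, n, hg⟩
    refine ⟨k, Subtype.ext ?_⟩
    show g ^ 2 ^ k = 1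
    rw [← hg]
    show (ψ ^ n) ^ 2 ^ k = 1
    rw [← zpow_natCast, ← zpow_mul, mul_comm, zpow_mul, zpow_natCast, hψ2, one_zpow]
  have hfe : ∀ n : ℕ, (φ ^ n) e = e := by
    intro n
    induction n with
    | zero => rfl
    | succ n ih =>
      rw [pow_succ]
      show (φ ^ n) (φ e) = e
      rw [he, ih]
  have hψe : ψ e = e := hfe N
  have hfix : e ∈ MulAction.fixedPoints (Subgroup.zpowers ψ) T := by
    rintro ⟨g, n, hg⟩
    show g • e = e
    rw [← hg]
    show (ψ ^ n) e = e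
    have h1 : ψ ∈ MulAction.stabilizer (Equiv.Perm T) e := hψe
    exact (MulAction.stabilizer (Equiv.Perm T) e).zpow_mem h1 n
  obtain ⟨t, ht, hne⟩ := hP.exists_fixed_point_of_prime_dvd_card_of_fixed_point T h2 hfix
  refine ⟨t, hne.symm, m, ?_⟩
  have h1 := ht ⟨ψ, Subgroup.mem_zpowers ψ⟩
  have h3 : ψ t = t := h1
  rw [hψ, hm] at h3
  exact h3

/-- A symmetric-like form with `f u u = c` takes the value `c` on some `(φ t, t)`. -/
theorem adj_fixed {T Y : Type*} (f : T → T → Y) (φ : Equiv.Perm T) (c : Y)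
    (hadj : ∀ u v, f (φ u) v = f u (φ v)) (hself : ∀ u, f u u = c) {t : T} {m : ℕ}
    (ht : (φ ^ (2 * m + 1)) t = t) : f (φ t) t = c := by
  have h1 : ∀ (i : ℕ) (u v : T), f ((φ ^ i) u) v = f u ((φ ^ i) v) := by
    intro i
    induction i with
    | zero => intro u v; rfl
    | succ i ih =>
      intro u v
      have e1 : (φ ^ (i + 1)) u = (φ ^ i) (φ u) := by rw [pow_succ]; rfl
      have e2 : (φ ^ (i + 1)) v = φ ((φ ^ i) v) := by rw [pow_succ']; rfl
      rw [e1, e2, ih, hadj]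
  have h2 : (φ ^ m) (φ t) = (φ ^ (m + 1)) t := by rw [pow_succ]; rfl
  have h3 : (φ ^ (2 * m + 1)) t = (φ ^ m) ((φ ^ (m + 1)) t) := by
    have e : 2 * m + 1 = m + (m + 1) := by ring
    rw [e, pow_add]; rfl
  calc f (φ t) t = f (φ t) ((φ ^ m) ((φ ^ (m + 1)) t)) := by rw [← h3, ht]
    _ = f ((φ ^ m) (φ t)) ((φ ^ (m + 1)) t) := (h1 m _ _).symm
    _ = c := by rw [h2]; exact hself _

variable {G : Type u} [Group G] {D : Set G} {d x : G} {R : Subgroup G}

namespace RS

variable [Finite G]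

/-- Commutators. -/
def be (u v : G) : G := u * v * u⁻¹ * v⁻¹

theorem be_one_iff {u v : G} : be u v = 1 ↔ Commute u v := by
  unfold be
  rw [mul_inv_eq_one, mul_inv_eq_iff_eq_mul]
  exact Iff.rfl

section Form

variable (r : RS D d x R) {a b u v w c k g : G}

include r

theorem C_R (hc : c ∈ C D d x R) : c ∈ R := (mem_C.1 hc).1

theorem K_R (hk : k ∈ K d R) : k ∈ R := (mem_K.1 hk).1

theorem be_mem (hu : u ∈ R) (hv : v ∈ R) : be u v ∈ C D d x R := r.comm_mem hu hv

theorem be_inv : be v u = (be u v)⁻¹ := by unfold be; group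

theorem be_mul_left (hu : u ∈ R) (hv : v ∈ R) (hw : w ∈ R) :
    be (u * v) w = be u w * be v w := by
  have h1 := (r.central (r.be_mem hv hw) hu).eq
  have h2 := (r.central (r.be_mem hv hw) (mul_mem (mul_mem hw (inv_mem hu)) (inv_mem hw))).eq
  calc be (u * v) w = u * be v w * (w * u⁻¹ * w⁻¹) := by unfold be; group
    _ = u * (be v w * (w * u⁻¹ * w⁻¹)) := by group
    _ = u * ((w * u⁻¹ * w⁻¹) * be v w) := by rw [h2]
    _ = be u w * be v w := by unfold be; group

theorem be_C_left (hc : c ∈ C D d x R) (hv : v ∈ R) : be c v = 1 :=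
  be_one_iff.2 (r.central hc hv).symm

theorem be_sq (hu : u ∈ R) (hv : v ∈ R) : be u v * be u v = 1 := by
  rw [← r.be_mul_left hu hu hv]
  exact r.be_C_left (r.sq_mem hu) hv

theorem be_symm (hu : u ∈ R) (hv : v ∈ R) : be u v = be v u := by
  rw [be_inv (u := u) (v := v) r, inv_of_sq (r.be_sq hu hv)]

theorem be_mul_right (hu : u ∈ R) (hv : v ∈ R) (hw : w ∈ R) :
    be u (v * w) = be u v * be u w := by
  rw [r.be_symm hu (mul_mem hv hw), r.be_mul_left hv hw hu, r.be_symm hv hu, r.be_symm hw hu]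

theorem be_inv_left (hu : u ∈ R) (hv : v ∈ R) : be u⁻¹ v = be u v := by
  have h1 := r.be_mul_left (inv_mem hu) hu hv
  rw [inv_mul_cancel, r.be_C_left (one_mem _) hv] at h1
  calc be u⁻¹ v = be u⁻¹ v * (be u v * be u v) := by rw [r.be_sq hu hv, mul_one]
    _ = (be u⁻¹ v * be u v) * be u v := by group
    _ = be u v := by rw [← h1, one_mul]

theorem be_conj (hg : g ∈ XX D d x) (hu : u ∈ R) (hv : v ∈ R) :
    be (g * u * g⁻¹) (g * v * g⁻¹) = be u v := by
  have h1 := r.C_conj (r.be_mem hu hv) hg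
  rw [← h1]
  conv_rhs => rw [h1]
  unfold be at h1 ⊢
  rw [← h1]; group

theorem be_K (hu : u ∈ K d R) (hv : v ∈ K d R) : be u v = 1 := be_one_iff.2 (r.K_comm hu hv)

theorem conjR (ha : a ∈ Cls D d) (hu : u ∈ R) : a * u * a⁻¹ ∈ R := r.nrm a (cls_X ha) u hu

theorem br_eq (ha : a ∈ Cls D d) : br a u = (a * u * a⁻¹) * u⁻¹ := by
  unfold br
  rw [r.h.ot.inv ha.1]; group

/-- `[br a u, v]`. -/
theorem th_eq (ha : a ∈ Cls D d) (hu : u ∈ R) (hv : v ∈ R) :
    be (br a u) v = be (a * u * a⁻¹) v * be u v := by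
  rw [r.br_eq ha, r.be_mul_left (r.conjR ha hu) (inv_mem hu) hv, r.be_inv_left hu hv]

theorem th_symm (ha : a ∈ Cls D d) (hu : u ∈ R) (hv : v ∈ R) :
    be (br a u) v = be (br a v) u := by
  rw [r.th_eq ha hu hv, r.th_eq ha hv hu, r.be_symm hv hu]
  congr 1
  rw [← r.be_conj (cls_X ha) (r.conjR ha hu) hv]
  have e : a * (a * u * a⁻¹) * a⁻¹ = u := by
    calc a * (a * u * a⁻¹) * a⁻¹ = (a * a) * u * (a * a)⁻¹ := by group
      _ = u := by rw [r.h.ot.sq a ha.1]; group
  rw [e, r.be_symm hu (r.conjR ha hv)]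

theorem th_self (ha : a ∈ Cls D d) (hu : u ∈ R) : be (br a u) u = 1 := by
  rw [be_one_iff]
  have h1 := (mem_C.1 (r.sq_mem hu)).2 a (cls_X ha)
  have h2 := (r.comm_conj_cls ha ha hu).eq
  have h3 : u * (u * a * u⁻¹) * u⁻¹ = a := by
    calc u * (u * a * u⁻¹) * u⁻¹ = (u * u * a) * (u * u)⁻¹ := by group
      _ = (a * (u * u)) * (u * u)⁻¹ := by rw [h1.eq]
      _ = a := by group
  refine Commute.symm ?_
  rw [← conj_eq_iff]
  unfold br
  calc u * (a * (u * a * u⁻¹)) * u⁻¹ = (u * a * u⁻¹) * (u * (u * a * u⁻¹) * u⁻¹) := by group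
    _ = (u * a * u⁻¹) * a := by rw [h3]
    _ = a * (u * a * u⁻¹) := h2

theorem th_K_right (ha : a ∈ Cls D d) (hu : u ∈ R) (hk : k ∈ K d R) : be (br a u) k = 1 :=
  r.be_K (r.br_K ha hu) hk

theorem th_K_left (ha : a ∈ Cls D d) (hk : k ∈ K d R) (hv : v ∈ R) : be (br a k) v = 1 := by
  rw [r.th_symm ha (r.K_R hk) hv]
  exact r.th_K_right ha hv hk

theorem th_mul_right (ha : a ∈ Cls D d) (hu : u ∈ R) (hv : v ∈ R) (hw : w ∈ R) :
    be (br a u) (v * w) = be (br a u) v * be (br a u) w :=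
  r.be_mul_right (r.br_mem ha hu) hv hw

theorem th_mul_left (ha : a ∈ Cls D d) (hu : u ∈ R) (hv : v ∈ R) (hw : w ∈ R) :
    be (br a (u * v)) w = be (br a u) w * be (br a v) w := by
  rw [r.th_symm ha (mul_mem hu hv) hw, r.th_mul_right ha hw hu hv, r.th_symm ha hw hu,
    r.th_symm ha hw hv]

end Form

/-- `u⁻¹ (s u s⁻¹)`. -/
def sg (s u : G) : G := u⁻¹ * (s * u * s⁻¹)

/-- The situation to be excluded. -/
structure SzHyp (D : Set G) (d x : G) (R : Subgroup G) (s b : G) : Prop where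
  r : RS D d x R
  sX : s ∈ XX D d x
  sc : ∀ a ∈ Cls D d, Commute s a
  hb : b ∈ Cls D d
  s2 : ∀ u ∈ R, (s * s * u * (s * s)⁻¹)⁻¹ * (b * u * b⁻¹) ∈ C D d x R

section Sz

variable {s a b u v w c k : G} (q : SzHyp D d x R s b)

include q

theorem SzHyp.sR (hu : u ∈ R) : s * u * s⁻¹ ∈ R := q.r.nrm s q.sX u hu

theorem SzHyp.sgR (hu : u ∈ R) : sg s u ∈ R := mul_mem (inv_mem hu) (q.sR hu)

theorem SzHyp.br_s (ha : a ∈ Cls D d) : br a (s * u * s⁻¹) = s * br a u * s⁻¹ := by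
  have h1 := (q.sc a ha).eq
  have h2 : s⁻¹ * a = a * s⁻¹ := by
    calc s⁻¹ * a = s⁻¹ * (a * s) * s⁻¹ := by group
      _ = s⁻¹ * (s * a) * s⁻¹ := by rw [h1]
      _ = a * s⁻¹ := by group
  unfold br
  calc a * (s * u * s⁻¹ * a * (s * u * s⁻¹)⁻¹) = a * (s * u * (s⁻¹ * a) * s * u⁻¹ * s⁻¹) := by group
    _ = a * s * (u * a * u⁻¹) * s⁻¹ := by rw [h2]; group
    _ = s * a * (u * a * u⁻¹) * s⁻¹ := by rw [h1]
    _ = _ := by group

theorem SzHyp.sK (hk : k ∈ K d R) : s * k * s⁻¹ ∈ K d R := by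
  rw [mem_K]
  refine ⟨q.sR (mem_K.1 hk).1, ?_⟩
  have h1 := (q.sc d q.r.dd).eq
  have h2 := (mem_K.1 hk).2.eq
  have h3 : s⁻¹ * d = d * s⁻¹ := by
    calc s⁻¹ * d = s⁻¹ * (d * s) * s⁻¹ := by group
      _ = s⁻¹ * (s * d) * s⁻¹ := by rw [h1]
      _ = d * s⁻¹ := by group
  show s * k * s⁻¹ * d = d * (s * k * s⁻¹)
  calc s * k * s⁻¹ * d = s * k * (s⁻¹ * d) := by group
    _ = s * (k * d) * s⁻¹ := by rw [h3]; group
    _ = (s * d) * k * s⁻¹ := by rw [h2]; group
    _ = d * (s * k * s⁻¹) := by rw [h1]; group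

theorem SzHyp.sgK (hk : k ∈ K d R) : sg s k ∈ K d R := mul_mem (inv_mem hk) (q.sK hk)

/-- `s²` acts trivially modulo `K`. -/
theorem SzHyp.s2K (hu : u ∈ R) : u⁻¹ * (s * (s * u * s⁻¹) * s⁻¹) ∈ K d R := by
  have h1 := q.s2 u hu
  have h2 : u⁻¹ * (b * u * b⁻¹) ∈ K d R := by
    have h3 := q.r.be_mem (inv_mem hu) (q.r.br_mem q.hb hu)
    have h4 := mul_mem (q.r.C_le h3) (q.r.br_K q.hb hu)
    have e : be u⁻¹ (br b u) * br b u = u⁻¹ * (b * u * b⁻¹) := by
      rw [q.r.br_eq q.hb]; unfold be; group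
    rwa [e] at h4
  have h5 := mul_mem h2 (inv_mem (q.r.C_le h1))
  have e : u⁻¹ * (b * u * b⁻¹) * ((s * s * u * (s * s)⁻¹)⁻¹ * (b * u * b⁻¹))⁻¹ =
      u⁻¹ * (s * (s * u * s⁻¹) * s⁻¹) := by
    simp only [mul_inv_rev, inv_inv, mul_assoc, mul_inv_cancel_left, inv_mul_cancel_left]
  rwa [e] at h5

theorem SzHyp.th_s (ha : a ∈ Cls D d) (hu : u ∈ R) (hv : v ∈ R) :
    be (br a (s * u * s⁻¹)) (s * v * s⁻¹) = be (br a u) v := by
  rw [q.br_s ha, q.r.be_conj q.sX (q.r.br_mem ha hu) hv]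

theorem SzHyp.th_shift (ha : a ∈ Cls D d) (hu : u ∈ R) (hv : v ∈ R) :
    be (br a (s * u * s⁻¹)) v = be (br a u) (s * v * s⁻¹) := by
  rw [← q.th_s ha (q.sR hu) hv]
  have e : s * (s * u * s⁻¹) * s⁻¹ = u * (u⁻¹ * (s * (s * u * s⁻¹) * s⁻¹)) := by group
  rw [e, q.r.th_mul_left ha hu (q.r.K_R (q.s2K hu)) (q.sR hv), q.r.th_K_left ha (q.s2K hu) (q.sR hv),
    mul_one]

/-- The form `G_a`. -/
theorem SzHyp.G_eq (ha : a ∈ Cls D d) (hu : u ∈ R) (hv : v ∈ R) :
    be (br a u) (sg s v) = be (br a u) v * be (br a u) (s * v * s⁻¹) := by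
  unfold sg
  rw [q.r.th_mul_right ha hu (inv_mem hv) (q.sR hv),
    q.r.be_symm (q.r.br_mem ha hu) (inv_mem hv), q.r.be_inv_left hv (q.r.br_mem ha hu),
    q.r.be_symm hv (q.r.br_mem ha hu)]

theorem SzHyp.G_symm (ha : a ∈ Cls D d) (hu : u ∈ R) (hv : v ∈ R) :
    be (br a u) (sg s v) = be (br a v) (sg s u) := by
  rw [q.G_eq ha hu hv, q.G_eq ha hv hu, q.r.th_symm ha hu hv, q.r.th_symm ha hu (q.sR hv),
    q.th_shift ha hv hu]

theorem SzHyp.G_self (hu : u ∈ R) : be (br b u) (sg s u) = 1 := by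
  have hb := q.hb
  have hsu := q.sR hu
  have hssu := q.sR hsu
  rw [q.G_eq hb hu hu, q.r.th_self hb hu, one_mul]
  set c : G := (s * s * u * (s * s)⁻¹)⁻¹ * (b * u * b⁻¹) with hc
  have hcC : c ∈ C D d x R := q.s2 u hu
  have e : br b u = s * (s * u * s⁻¹) * s⁻¹ * c * u⁻¹ := by
    rw [q.r.br_eq hb, hc]; group
  rw [e, q.r.be_mul_left (mul_mem hssu (q.r.C_R hcC)) (inv_mem hu) hsu,
    q.r.be_mul_left hssu (q.r.C_R hcC) hsu, q.r.be_C_left hcC hsu, mul_one,
    q.r.be_conj q.sX hsu hu, q.r.be_inv_left hu hsu, q.r.be_symm hu hsu, q.r.be_sq hsu hu]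

/-- The radical. -/
theorem SzHyp.G_mul_right (ha : a ∈ Cls D d) (hu : u ∈ R) (hv : v ∈ R) (hw : w ∈ R)
    (h : sg s w ∈ K d R) : be (br a u) (sg s (v * w)) = be (br a u) (sg s v) := by
  have hm : s * (v * w) * s⁻¹ = (s * v * s⁻¹) * (s * w * s⁻¹) := by group
  rw [q.G_eq ha hu (mul_mem hv hw), q.G_eq ha hu hv, hm, q.r.th_mul_right ha hu hv hw,
    q.r.th_mul_right ha hu (q.sR hv) (q.sR hw)]
  have h1 := q.G_eq ha hu hw
  rw [q.r.th_K_right ha hu h] at h1
  have hbu := q.r.br_mem ha hu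
  have h2 := (q.r.central (q.r.be_mem hbu (q.sR hv)) (q.r.C_R (q.r.be_mem hbu hw))).eq
  calc be (br a u) v * be (br a u) w * (be (br a u) (s * v * s⁻¹) * be (br a u) (s * w * s⁻¹))
      = be (br a u) v * (be (br a u) w * be (br a u) (s * v * s⁻¹)) *
          be (br a u) (s * w * s⁻¹) := by group
    _ = be (br a u) v * (be (br a u) (s * v * s⁻¹) * be (br a u) w) *
          be (br a u) (s * w * s⁻¹) := by rw [h2]
    _ = be (br a u) v * be (br a u) (s * v * s⁻¹) *
          (be (br a u) w * be (br a u) (s * w * s⁻¹)) := by group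
    _ = _ := by rw [← h1, mul_one]

theorem SzHyp.sg_K_mul (hk : k ∈ K d R) {l : G} (hl : l ∈ K d R) :
    sg s (k * l) = sg s k * sg s l := by
  have h1 := (q.r.K_comm (q.sgK hk) hl).eq
  calc sg s (k * l) = l⁻¹ * (sg s k * l) * sg s l := by unfold sg; group
    _ = l⁻¹ * (l * sg s k) * sg s l := by rw [h1]
    _ = _ := by group

theorem SzHyp.sg_C (hc : c ∈ C D d x R) : sg s c = 1 := by
  unfold sg
  rw [q.r.C_conj hc q.sX, inv_mul_cancel]

theorem SzHyp.sg_K_C (hk : k ∈ K d R) (hc : c ∈ C D d x R) : sg s (k * c) = sg s k := by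
  rw [q.sg_K_mul hk (q.r.C_le hc), q.sg_C hc, mul_one]

theorem SzHyp.sg_inv (hk : k ∈ K d R) : sg s k⁻¹ = (sg s k)⁻¹ := by
  have h1 := q.sg_K_mul (inv_mem hk) hk
  rw [inv_mul_cancel, q.sg_C (one_mem _)] at h1
  exact eq_inv_of_mul_eq_one_left h1.symm

/-- `br a (u⁻¹ v)`. -/
theorem _root_.Cfsg.Agent.H738.RS.br_inv_mul (r : RS D d x R) (ha : a ∈ Cls D d) (hu : u ∈ R) :
    u * br a (u⁻¹ * v) * u⁻¹ = (br a u)⁻¹ * br a v := by
  rw [inv_of_sq (r.br_sq ha hu)]
  unfold br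
  have h3 := (r.comm_conj_cls ha ha hu).eq
  calc u * (a * (u⁻¹ * v * a * (u⁻¹ * v)⁻¹)) * u⁻¹ = (u * a * u⁻¹) * (v * a * v⁻¹) := by group
    _ = (u * a * u⁻¹) * (a * a) * (v * a * v⁻¹) := by rw [r.h.ot.sq a ha.1, mul_one]
    _ = ((u * a * u⁻¹) * a) * (a * (v * a * v⁻¹)) := by group
    _ = _ := by rw [h3]

/-- `sg (br a z) = z (br a (sg z)) z⁻¹`. -/
theorem SzHyp.sg_br (ha : a ∈ Cls D d) (hu : u ∈ R) :
    sg s (br a u) = u * br a (sg s u) * u⁻¹ := by
  have h1 := q.r.br_inv_mul (v := s * u * s⁻¹) q ha hu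
  rw [sg, ← q.br_s ha, ← h1]
  rfl

theorem SzHyp.sg_br_mem_iff (ha : a ∈ Cls D d) (hu : u ∈ R) :
    sg s (br a u) ∈ C D d x R ↔ sg s u ∈ K d R := by
  rw [q.sg_br ha hu]
  constructor
  · intro h1
    apply q.r.br_mem_C ha (q.sgR hu)
    have h2 := (q.r.central h1 (inv_mem hu)).eq
    have e : br a (sg s u) = u⁻¹ * (u * br a (sg s u) * u⁻¹) * u := by group
    rw [e, h2]
    have e2 : u * br a (sg s u) * u⁻¹ * u⁻¹ * u = u * br a (sg s u) * u⁻¹ := by group
    rw [e2]; exact h1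
  · intro h1
    have h2 : br a (sg s u) = 1 :=
      br_eq_one ((q.r.mem_K_iff ha (q.sgR hu)).1 h1) (q.r.h.ot.sq a ha.1)
    rw [h2]
    have e : u * 1 * u⁻¹ = 1 := by group
    rw [e]; exact one_mem _

theorem SzHyp.sg_br_inv_mul (ha : a ∈ Cls D d) (hu : u ∈ R) (hv : v ∈ R) :
    (sg s (br a u))⁻¹ * sg s (br a v) ∈ C D d x R ↔ sg s (u⁻¹ * v) ∈ K d R := by
  have hz : u⁻¹ * v ∈ R := mul_mem (inv_mem hu) hv
  rw [← q.sg_br_mem_iff ha hz]
  have hbz := q.r.br_K ha hz
  have h1 := q.r.br_inv_mul (v := v) q ha hu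
  -- `br a z = (br a u)⁻¹ (br a v) c`
  have h2 : be u (br a (u⁻¹ * v)) ∈ C D d x R := q.r.be_mem hu (q.r.K_R hbz)
  have h3 : (br a u)⁻¹ * br a v = br a (u⁻¹ * v) * be u (br a (u⁻¹ * v)) := by
    rw [(q.r.central h2 (q.r.K_R hbz)).eq, ← h1]
    unfold be; group
  have h4 : sg s ((br a u)⁻¹ * br a v) = sg s (br a (u⁻¹ * v)) := by
    rw [h3, q.sg_K_C hbz h2]
  rw [← h4, q.sg_K_mul (inv_mem (q.r.br_K ha hu)) (q.r.br_K ha hv), q.sg_inv (q.r.br_K ha hu)]

theorem SzHyp.exists_not : ∃ u ∈ R, sg s u ∉ K d R := by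
  by_contra hcon
  push Not at hcon
  apply q.r.not_le_K
  intro u hu
  -- `s` centralizes `br b u`
  have h1 : ∀ v ∈ R, Commute s (br b v) := by
    intro v hv
    have h2 := q.sg_br q.hb hv
    have h3 : br b (sg s v) = 1 :=
      br_eq_one ((q.r.mem_K_iff q.hb (q.sgR hv)).1 (hcon v hv)) (q.r.h.ot.sq b q.hb.1)
    rw [h3, mul_one, mul_inv_cancel] at h2
    unfold sg at h2
    exact conj_eq_iff.1 (inv_mul_eq_one.1 h2).symm
  have h2 : ∀ k ∈ K d R, Commute s k := by
    intro k hk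
    obtain ⟨v, hv, c, hc, rfl⟩ := q.r.exists_br q.hb hk
    exact (h1 v hv).mul_right ((mem_C.1 hc).2 s q.sX)
  have h3 := h2 _ (hcon u hu)
  have h4 : s * sg s u * s⁻¹ = sg s u := conj_eq_iff.2 h3
  -- `s² u s⁻² = (sus⁻¹) (sg u)`
  have h5 : s * (s * u * s⁻¹) * s⁻¹ = (s * u * s⁻¹) * sg s u := by
    have e : s * (s * u * s⁻¹) * s⁻¹ = (s * u * s⁻¹) * (s * sg s u * s⁻¹) := by unfold sg; group
    rw [e, h4]
  have h6 : s * (s * u * s⁻¹) * s⁻¹ = u * (sg s u * sg s u) := by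
    rw [h5]; unfold sg; group
  have h7 := q.r.sq_mem (q.sgR hu)
  apply q.r.br_mem_C q.hb hu
  have h8 := q.s2 u hu
  have e : br b u = u * ((sg s u * sg s u) * ((s * s * u * (s * s)⁻¹)⁻¹ * (b * u * b⁻¹))) * u⁻¹ := by
    rw [q.r.br_eq q.hb]
    have e1 : u * (sg s u * sg s u * ((s * s * u * (s * s)⁻¹)⁻¹ * (b * u * b⁻¹))) * u⁻¹ =
        (u * (sg s u * sg s u)) * ((s * (s * u * s⁻¹) * s⁻¹)⁻¹ * (b * u * b⁻¹)) * u⁻¹ := by group
    rw [e1, ← h6]; group
  rw [e]
  have h9 := mul_mem h7 h8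
  rw [conj_eq_iff.2 (q.r.central h9 hu)]
  exact h9

theorem _root_.Cfsg.Agent.H738.RS.K_conj (r : RS D d x R) (hk : k ∈ K d R) (hu : u ∈ R) :
    u * k * u⁻¹ ∈ K d R := by
  have h1 := mul_mem (r.C_le (r.be_mem hu (r.K_R hk))) hk
  have e : be u k * k = u * k * u⁻¹ := by unfold be; group
  rwa [e] at h1

/-- **Exclusion.** -/
theorem SzHyp.false : False := by
  classical
  have r := q.r
  have hb := q.hb
  obtain ⟨a, ha, hab⟩ := r.exists_ne b
  let Ks : Subgroup ↥R :=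
    { carrier := {u | sg s (u : G) ∈ K d R}
      one_mem' := by
        show sg s 1 ∈ K d R
        rw [q.sg_C (one_mem _)]; exact one_mem _
      mul_mem' := by
        intro u v hu hv
        have h1 := mul_mem (r.K_conj q hu (inv_mem v.2)) hv
        have e : (v : G)⁻¹ * sg s u * (v : G)⁻¹⁻¹ * sg s v = sg s (u * v) := by unfold sg; group
        rw [e] at h1
        exact h1
      inv_mem' := by
        intro u hu
        have h1 := r.K_conj q (inv_mem hu) u.2
        have e : (u : G) * (sg s u)⁻¹ * (u : G)⁻¹ = sg s (u : G)⁻¹ := by unfold sg; group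
        rw [e] at h1
        exact h1 }
  have hKs : ∀ u : ↥R, u ∈ Ks ↔ sg s (u : G) ∈ K d R := fun u => Iff.rfl
  have rel : ∀ u v : ↥R, (QuotientGroup.mk u : ↥R ⧸ Ks) = QuotientGroup.mk v ↔
      sg s ((u : G)⁻¹ * v) ∈ K d R := by
    intro u v
    rw [QuotientGroup.eq, hKs]
    exact Iff.rfl
  have hex : ∀ u : ↥R, ∃ v : ↥R, ∃ c ∈ C D d x R, br a (u : G) = br b (v : G) * c := by
    intro u
    obtain ⟨v, hv, c, hc, h1⟩ := r.exists_br hb (r.br_K ha u.2)
    exact ⟨⟨v, hv⟩, c, hc, h1⟩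
  choose p pc hpc hp using hex
  have hsp : ∀ u : ↥R, sg s (br a (u : G)) = sg s (br b (p u : G)) := by
    intro u
    rw [hp u, q.sg_K_C (r.br_K hb (p u).2) (hpc u)]
  have key : ∀ u v : ↥R, (QuotientGroup.mk (p u) : ↥R ⧸ Ks) = QuotientGroup.mk (p v) ↔
      (QuotientGroup.mk u : ↥R ⧸ Ks) = QuotientGroup.mk v := by
    intro u v
    rw [rel, rel, ← q.sg_br_inv_mul hb (p u).2 (p v).2, ← q.sg_br_inv_mul ha u.2 v.2, hsp, hsp]
  let f0 : (↥R ⧸ Ks) → (↥R ⧸ Ks) := fun t => QuotientGroup.mk (p t.out)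
  have hf0 : ∀ u : ↥R, f0 (QuotientGroup.mk u) = QuotientGroup.mk (p u) := by
    intro u
    show QuotientGroup.mk (p (QuotientGroup.mk u : ↥R ⧸ Ks).out) = _
    rw [key]
    exact QuotientGroup.out_eq' _
  have hinj : Function.Injective f0 := by
    intro t t' h1
    have h2 := (key _ _).1 h1
    rwa [QuotientGroup.out_eq', QuotientGroup.out_eq'] at h2
  let φ : Equiv.Perm (↥R ⧸ Ks) := Equiv.ofBijective f0 (Finite.injective_iff_bijective.1 hinj)
  have hφ : ∀ t, φ t = QuotientGroup.mk (p t.out) := fun t => rfl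
  have he : φ (QuotientGroup.mk 1) = QuotientGroup.mk 1 := by
    show f0 _ = _
    rw [hf0, rel]
    have h1 := hp 1
    have h2 : br a ((1 : ↥R) : G) = 1 := by
      show br a (1 : G) = 1
      unfold br
      rw [one_mul, inv_one, mul_one, r.h.ot.sq a ha.1]
    rw [h2] at h1
    have h3 : br b (p 1 : G) ∈ C D d x R := by
      have : br b (p 1 : G) = (pc 1)⁻¹ := eq_inv_of_mul_eq_one_left h1.symm
      rw [this]; exact inv_mem (hpc 1)
    have h4 := r.br_mem_C hb (p 1).2 h3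
    have e : ((p 1 : ↥R) : G)⁻¹ * ((1 : ↥R) : G) = ((p 1 : ↥R) : G)⁻¹ := mul_one _
    rw [e]
    exact q.sgK (inv_mem h4)
  have h2 : 2 ∣ Nat.card (↥R ⧸ Ks) := by
    have hfact : Fact (Nat.Prime 2) := ⟨Nat.prime_two⟩
    obtain ⟨n, hn⟩ := r.pg.index Ks
    rw [Subgroup.index] at hn
    rw [hn]
    rcases Nat.eq_zero_or_pos n with h1 | h1
    · exfalso
      rw [h1, pow_zero] at hn
      have h2 : Ks = ⊤ := Subgroup.index_eq_one.1 hn
      obtain ⟨u, hu, hus⟩ := q.exists_not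
      apply hus
      have h3 : (⟨u, hu⟩ : ↥R) ∈ Ks := by rw [h2]; exact Subgroup.mem_top _
      exact h3
    · exact dvd_pow_self 2 h1.ne'
  obtain ⟨t, hte, m, ht⟩ := exists_odd_fixed h2 φ he
  let f : (↥R ⧸ Ks) → (↥R ⧸ Ks) → G := fun t t' => be (br b (t.out : G)) (sg s (t'.out : G))
  have hinv : ∀ (e : G), e ∈ Cls D d → ∀ u v v' : ↥R,
      (QuotientGroup.mk v : ↥R ⧸ Ks) = QuotientGroup.mk v' →
      be (br e (u : G)) (sg s (v' : G)) = be (br e (u : G)) (sg s (v : G)) := by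
    intro e he u v v' h1
    rw [rel] at h1
    have h3 := q.G_mul_right he u.2 v.2 (mul_mem (inv_mem v.2) v'.2) h1
    have e1 : (v : G) * ((v : G)⁻¹ * v') = v' := by group
    rwa [e1] at h3
  have L1 : ∀ t t', f (φ t) t' = be (br a (t.out : G)) (sg s (t'.out : G)) := by
    intro t t'
    show be (br b ((φ t).out : G)) (sg s (t'.out : G)) = _
    rw [q.G_symm hb (φ t).out.2 t'.out.2]
    have h3 : (QuotientGroup.mk (p t.out) : ↥R ⧸ Ks) = QuotientGroup.mk (φ t).out := by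
      rw [QuotientGroup.out_eq', hφ]
    rw [hinv b hb t'.out _ _ h3, q.G_symm hb t'.out.2 (p t.out).2]
    have h4 := hp t.out
    have h5 : br b (p t.out : G) = br a (t.out : G) * (pc t.out)⁻¹ := by rw [h4]; group
    rw [h5, r.be_mul_left (r.br_mem ha t.out.2) (r.C_R (inv_mem (hpc _))) (q.sgR t'.out.2),
      r.be_C_left (inv_mem (hpc _)) (q.sgR t'.out.2), mul_one]
  have hadj : ∀ u v, f (φ u) v = f u (φ v) := by
    intro u v
    have h3 : f u (φ v) = f (φ v) u := q.G_symm hb u.out.2 (φ v).out.2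
    rw [h3, L1, L1]
    exact q.G_symm ha u.out.2 v.out.2
  have hself : ∀ u, f u u = 1 := fun u => q.G_self u.out.2
  have h3 := adj_fixed f φ 1 hadj hself ht
  rw [L1] at h3
  -- the contradiction
  set u₀ : G := (t.out : G) with hu₀
  set v₀ : G := (p t.out : G) with hv₀
  have hu₀R : u₀ ∈ R := t.out.2
  have hv₀R : v₀ ∈ R := (p t.out).2
  have hwR := q.sgR hu₀R
  have hwR' := q.sgR hv₀R
  rw [r.th_symm ha hu₀R hwR, be_one_iff] at h3
  have h4 := q.G_self hv₀R
  rw [r.th_symm hb hv₀R hwR', be_one_iff] at h4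
  have h5 : br a (sg s u₀) = br b (sg s v₀) := by
    have e1 := q.sg_br ha hu₀R
    have e2 := q.sg_br hb hv₀R
    rw [conj_eq_iff.2 h3.symm] at e1
    rw [conj_eq_iff.2 h4.symm] at e2
    rw [← e1, ← e2]
    exact hsp t.out
  have hbaC := r.mul b hb a ha (fun h => hab h.symm)
  have hwD := r.conjD ha (sg s u₀)
  have h6 : b * a * (sg s u₀ * a * (sg s u₀)⁻¹) = sg s v₀ * b * (sg s v₀)⁻¹ := by
    have h7 : a * (sg s u₀ * a * (sg s u₀)⁻¹) = b * (sg s v₀ * b * (sg s v₀)⁻¹) := h5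
    rw [mul_assoc, h7, ← mul_assoc, r.h.ot.sq b hb.1, one_mul]
  have hcomm : Commute (b * a) (sg s u₀ * a * (sg s u₀)⁻¹) :=
    ((r.comm_conj_cls ha hb hwR).symm).mul_left (r.comm_conj_cls ha ha hwR).symm
  have h7 := r.h.ot.line_eqv hbaC.1 hwD hcomm (by rw [h6]; exact r.conjD hb _)
  have h8 : sg s u₀ * a * (sg s u₀)⁻¹ ∈ Cls D d := ⟨hwD, hbaC.2.trans h7⟩
  have h9 := (r.mem_K_iff ha hwR).2 (r.conj_cls_self ha h8 hwR)
  apply hte
  have h10 : (QuotientGroup.mk 1 : ↥R ⧸ Ks) = QuotientGroup.mk t.out := by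
    rw [rel]
    have e : ((1 : ↥R) : G)⁻¹ * (t.out : G) = u₀ := by
      rw [Subgroup.coe_one, inv_one, one_mul]
    rw [e]; exact h9
  rw [QuotientGroup.out_eq'] at h10
  exact h10.symm

end Sz

end RS

end Cfsg.Agent.H738
end

-- part: H803/RankOneMore
section
/-!
# More facts on `Sz(q)` and `L₂(2^n)` (helper803, for S5052)

* `suzuki_four`: a Sylow 2-subgroup of a Suzuki group contains an element of order 4 commuting with its involutions;
* `l2_split`: a perfect central 2-extension of `L₂(2^n)` in which a complement to the centre covers the involutions commuting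
  with one involution is trivial.
-/

set_option autoImplicit false
set_option linter.unusedVariables false

namespace Cfsg.Agent.H803

open Cfsg Cfsg.Agent.LieRecognition Cfsg.Agent.LieRecognition.SzMatrix

/-- An element of order 4 commuting with all involutions. -/
def HasFour (S : Type*) [Group S] : Prop :=
  ∃ s : S, s * s ≠ 1 ∧ (s * s) * (s * s) = 1 ∧ ∀ t : S, t * t = 1 → s * t = t * s

theorem HasFour.congr {S T : Type*} [Group S] [Group T] (h : HasFour S) (e : S ≃* T) : HasFour T := by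
  obtain ⟨s, h1, h2, h3⟩ := h
  refine ⟨e s, ?_, ?_, ?_⟩
  · rw [← map_mul]
    intro h
    exact h1 (e.injective (by rw [h, map_one]))
  · rw [← map_mul, ← map_mul, h2, map_one]
  · intro t ht
    have h4 := h3 (e.symm t) (by rw [← map_mul, ht, map_one])
    have h5 := congrArg e h4
    rwa [map_mul, map_mul, e.apply_symm_apply] at h5

theorem hasFour_unip {F : Type*} [Field F] {θ : F →+* F} {e : ℕ} (H : Good F θ e) : HasFour H.unip := by
  refine ⟨⟨H.u 1 0, H.u_mem_unip 1 0⟩, ?_, ?_, ?_⟩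
  · intro h
    have h1 : H.u 1 0 * H.u 1 0 = 1 := congrArg Subtype.val h
    rw [H.u_mul, ← H.u_zero] at h1
    have h2 := (H.u_inj h1).2
    rw [map_one, mul_one, add_zero, zero_add] at h2
    exact one_ne_zero h2
  · apply Subtype.ext
    show (H.u 1 0 * H.u 1 0) * (H.u 1 0 * H.u 1 0) = 1
    have h2 : (1 : F) + 1 = 0 := H.add_self 1
    rw [H.u_mul, map_one, mul_one, add_zero, zero_add, h2, H.u_mul, zero_mul, add_zero, add_zero, h2, H.u_zero]
  · rintro ⟨t, ht⟩ h
    obtain ⟨a, b, rfl⟩ := (H.mem_unip_iff t).1 ht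
    have h1 : H.u a b * H.u a b = 1 := congrArg Subtype.val h
    rw [H.u_mul, ← H.u_zero] at h1
    have h2 := (H.u_inj h1).2
    rw [H.add_self, zero_add, mul_eq_zero, map_eq_zero, or_self] at h2
    subst h2
    apply Subtype.ext
    show H.u 1 0 * H.u 0 b = H.u 0 b * H.u 1 0
    rw [H.u_mul, H.u_mul, map_zero, mul_zero, zero_mul, add_comm 0 (1 : F), add_comm 0 b]

theorem hasFour_sylow {F : Type*} [Field F] [Fintype F] {m : ℕ} (hm : 1 ≤ m)
    (hF : Fintype.card F = 2 ^ (2 * m + 1)) (P : Sylow 2 ↥(Cfsg.Lie.Sz F (2 ^ (m + 1)))) :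
    HasFour (P : Subgroup ↥(Cfsg.Lie.Sz F (2 ^ (m + 1)))) := by
  have : Fact (Nat.Prime 2) := ⟨Nat.prime_two⟩
  have H := good hF
  have hcF : Nat.card F = 2 ^ (2 * m + 1) := by rw [Nat.card_eq_fintype_card, hF]
  have hodd : ¬ 2 ∣ H.unip.index := by
    have h1 := Subgroup.card_mul_index H.unip
    rw [(S1163.result hm hF).1, H.card_unip, hcF, mul_assoc] at h1
    have h2 := Nat.eq_of_mul_eq_mul_left (by positivity) h1
    rw [h2]
    intro h
    rcases (Nat.Prime.dvd_mul Nat.prime_two).mp h with h | h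
    · have h1 : 1 ≤ 2 ^ (2 * m + 1) := Nat.one_le_two_pow
      have h2 : 2 ∣ 2 ^ (2 * m + 1) := dvd_pow_self 2 (by omega)
      omega
    · have h2 : 2 ∣ (2 ^ (2 * m + 1)) ^ 2 := dvd_pow (dvd_pow_self 2 (by omega)) (by omega)
      omega
  have hpg : IsPGroup 2 H.unip := by
    apply IsPGroup.of_card (n := (2 * m + 1) * 2)
    rw [H.card_unip, hcF, ← pow_mul]
  exact (hasFour_unip H).congr ((hpg.toSylow hodd).equiv P)

/-- Every Sylow 2-subgroup of a Suzuki group contains an element of order 4 commuting with all its involutions. -/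
theorem suzuki_four {K : Type*} [Group K] [Finite K] (h : Lie.IsoSuzuki K) (P : Sylow 2 K) :
    ∃ s ∈ P, s * s ≠ 1 ∧ (s * s) * (s * s) = 1 ∧ ∀ t ∈ P, t * t = 1 → Commute s t := by
  have : Fact (Nat.Prime 2) := ⟨Nat.prime_two⟩
  obtain ⟨F, iF, iF', m, hm, hF, ⟨e⟩⟩ := h
  set Q : Sylow 2 ↥(Cfsg.Lie.Sz F (2 ^ (m + 1))) := P.mapSurjective (f := e.toMonoidHom) e.surjective with hQ
  have hmem : ∀ x : K, e x ∈ Q ↔ x ∈ P := by
    intro x
    change e x ∈ (P : Subgroup K).map e.toMonoidHom ↔ _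
    rw [Subgroup.mem_map]
    constructor
    · rintro ⟨y, hy, hyx⟩
      have : y = x := e.injective hyx
      rwa [← this]
    · intro hx
      exact ⟨x, hx, rfl⟩
  obtain ⟨s, h1, h2, h3⟩ := hasFour_sylow hm hF Q
  refine ⟨e.symm s, (hmem _).1 (by rw [e.apply_symm_apply]; exact s.2), ?_, ?_, ?_⟩
  · rw [← map_mul]
    intro h
    apply h1
    apply Subtype.ext
    exact e.symm.injective (h.trans (map_one e.symm).symm)
  · rw [← map_mul, ← map_mul]
    have h4 : ((s : ↥(Cfsg.Lie.Sz F (2 ^ (m + 1)))) * s) * (s * s) = 1 := congrArg Subtype.val h2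
    rw [h4, map_one]
  · intro t ht htt
    have h4 := h3 ⟨e t, (hmem t).2 ht⟩ (Subtype.ext (by
      show e t * e t = 1
      rw [← map_mul, htt, map_one]))
    have h5 : (s : ↥(Cfsg.Lie.Sz F (2 ^ (m + 1)))) * e t = e t * s := congrArg Subtype.val h4
    have h6 := congrArg e.symm h5
    rw [map_mul, map_mul, e.symm_apply_apply] at h6
    exact h6

/-- A central 2-element of a perfect group with abelian Sylow 2-subgroups is trivial. -/
theorem eq_one_of_abelian_sylow {X : Type*} [Group X] [Finite X] (p : ℕ) [Fact p.Prime] (hperf : commutator X = ⊤)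
    (P : Sylow p X) (hP : IsMulCommutative (P : Subgroup X)) {z : X} (hz : z ∈ Subgroup.center X) (hzP : z ∈ P) :
    z = 1 := by
  classical
  let _ : CommGroup (P : Subgroup X) := IsMulCommutative.instCommGroup
  have hfi : (P : Subgroup X).FiniteIndex := inferInstance
  let V : X →* (P : Subgroup X) := MonoidHom.transfer (MonoidHom.id (P : Subgroup X))
  have hV : ∀ x, V x = 1 := by
    intro x
    have h1 : commutator X ≤ V.ker := Abelianization.commutator_subset_ker V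
    have h2 : x ∈ V.ker := h1 (by rw [hperf]; exact Subgroup.mem_top x)
    exact h2
  have hc : ∀ (k : ℕ) (g₀ : X), g₀⁻¹ * z ^ k * g₀ = z ^ k := by
    intro k g₀
    have h3 := Subgroup.mem_center_iff.1 ((Subgroup.center X).pow_mem hz k) g₀⁻¹
    rw [h3, inv_mul_cancel_right]
  have h4 := MonoidHom.transfer_eq_pow (MonoidHom.id (P : Subgroup X)) z (fun k g₀ _ => hc k g₀)
  have h5 : z ^ (P : Subgroup X).index = 1 := by
    have h6 := (h4.symm.trans (hV z))
    exact congrArg Subtype.val h6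
  have h7 : orderOf z ∣ (P : Subgroup X).index := orderOf_dvd_of_pow_eq_one h5
  have h8 : orderOf z ∣ Nat.card (P : Subgroup X) := by
    have := orderOf_dvd_natCard (⟨z, hzP⟩ : (P : Subgroup X))
    rwa [← Subgroup.orderOf_coe] at this
  have h9 : Nat.Coprime (Nat.card (P : Subgroup X)) (P : Subgroup X).index := P.card_coprime_index
  have h10 := Nat.dvd_gcd h8 h7
  rw [h9.gcd_eq_one] at h10
  exact orderOf_eq_one_iff.1 (Nat.dvd_one.1 h10)

/-- Sylow 2-subgroups of `L₂(2^n)` are elementary abelian of order `2^n`. -/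
theorem psl_sylow {F : Type*} [Field F] [Fintype F] [CharP F 2] {G : Type*} [Group G] [Finite G]
    (e : G ≃* Matrix.ProjectiveSpecialLinearGroup (Fin 2) F) (S : Sylow 2 G) :
    (∀ x ∈ S, x * x = 1) ∧ (∀ x ∈ S, ∀ y ∈ S, x * y = y * x) ∧ Nat.card (S : Subgroup G) = Fintype.card F := by
  have : Fact (Nat.Prime 2) := ⟨Nat.prime_two⟩
  obtain ⟨g, hg⟩ := H629.PslTwoEven.exists_eq e S
  have hcomm := (Classification.PSLTwoEvenSylow.sylow_comm e S).is_comm.comm
  refine ⟨?_, fun x hx y hy => congrArg Subtype.val (hcomm ⟨x, hx⟩ ⟨y, hy⟩), ?_⟩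
  · intro x hx
    obtain ⟨a, ha⟩ := hg x hx
    have haa : a * a = 1 := by
      have h1 : Multiplicative.toAdd a + Multiplicative.toAdd a = 0 := CharTwo.add_self_eq_zero _
      exact h1
    have h2 : g * (x * x) * g⁻¹ = 1 := by
      have h3 : g * (x * x) * g⁻¹ = (g * x * g⁻¹) * (g * x * g⁻¹) := by group
      rw [h3, ha, ← map_mul, ← map_mul, haa, map_one, map_one]
    have h4 := congrArg (fun y => g⁻¹ * y * g) h2
    simpa only [mul_assoc, _root_.inv_mul_cancel_left, _root_.inv_mul_cancel, _root_.mul_one] using h4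
  · obtain ⟨n, hn0, hn⟩ := FiniteField.card F 2
    have hcardG : Nat.card G = 2 ^ (n : ℕ) * ((2 ^ (n : ℕ)) ^ 2 - 1) := by
      rw [Nat.card_congr e.toEquiv, Classification.PSLTwoEvenSylow.card_psl, hn]
    have h1 : Nat.card (S : Subgroup G) = 2 ^ (Nat.card G).factorization 2 := S.card_eq_multiplicity
    have hpos : (2 ^ (n : ℕ)) ^ 2 - 1 ≠ 0 := by
      have : 1 < (2 ^ (n : ℕ)) ^ 2 := by
        rw [← pow_mul]; exact Nat.one_lt_two_pow (by have := n.pos; omega)
      omega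
    have hnd : ¬ 2 ∣ (2 ^ (n : ℕ)) ^ 2 - 1 := by
      have h2 : 2 ∣ (2 ^ (n : ℕ)) ^ 2 := by
        rw [← pow_mul]; exact dvd_pow_self 2 (by have := n.pos; positivity)
      omega
    rw [h1, hcardG, Nat.factorization_mul (by positivity) hpos, Finsupp.add_apply,
      Nat.factorization_eq_zero_of_not_dvd hnd, add_zero, Nat.Prime.factorization_pow Nat.prime_two,
      Finsupp.single_eq_same, hn]

/-- A perfect central 2-extension of `L₂(2^n)` with a complement `A` to the centre covering the involutions commuting with one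
member `d` of `A`: the centre is trivial and `A` has order `2^n`. -/
theorem l2_split {X : Type*} [Group X] [Finite X] (hperf : commutator X = ⊤) (hZ : pCore 2 X ≤ Subgroup.center X)
    {F : Type*} [Field F] [Fintype F] [CharP F 2] (_hF : 4 ≤ Fintype.card F)
    (e : (X ⧸ pCore 2 X) ≃* Matrix.ProjectiveSpecialLinearGroup (Fin 2) F) (A : Subgroup X)
    (hA : ∀ a ∈ A, a * a = 1) (hAZ : A ⊓ pCore 2 X = ⊥) {d : X} (hd : d ∈ A) (hd1 : d ≠ 1)
    (hAd : ∀ y : X ⧸ pCore 2 X, y * y = 1 → y ≠ 1 → Commute y (QuotientGroup.mk d) →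
      ∃ a ∈ A, (QuotientGroup.mk a : X ⧸ pCore 2 X) = y) :
    pCore 2 X = ⊥ ∧ Fintype.card F = Nat.card A := by
  have hFact : Fact (Nat.Prime 2) := ⟨Nat.prime_two⟩
  set Z := pCore 2 X with hZdef
  have hAcomm : ∀ a ∈ A, ∀ b ∈ A, a * b = b * a := by
    intro a ha b hb
    have h1 := hA (a * b) (A.mul_mem ha hb)
    have ha1 := hA a ha
    have hb1 := hA b hb
    calc a * b = a * b * (a * b) * (b * a) := by
          rw [mul_assoc (a * b) (a * b) (b * a), mul_assoc a b (b * a), ← mul_assoc b b a, hb1, one_mul,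
            ha1, mul_one]
      _ = b * a := by rw [h1, one_mul]
  have hApg : IsPGroup 2 A := by
    intro a
    refine ⟨1, Subtype.ext ?_⟩
    show (a : X) ^ (2 ^ 1) = 1
    rw [pow_one, pow_two]
    exact hA a a.2
  obtain ⟨P, hP⟩ := hApg.exists_le_sylow
  -- `Z ≤ P`
  have hZP : Z ≤ (P : Subgroup X) := Lib.Cores.pCore_le_sylow P
  -- the image of `P`
  set Pb : Sylow 2 (X ⧸ Z) := P.mapSurjective (f := QuotientGroup.mk' Z) (QuotientGroup.mk'_surjective Z) with hPb
  have hPbm : ∀ x ∈ P, (QuotientGroup.mk x : X ⧸ Z) ∈ Pb := fun x hx => ⟨x, hx, rfl⟩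
  obtain ⟨hsq, hcm, hcard⟩ := psl_sylow e Pb
  have hsplit : ∀ x ∈ P, ∃ a ∈ A, ∃ z ∈ Z, x = a * z := by
    intro x hx
    by_cases h1 : (QuotientGroup.mk x : X ⧸ Z) = 1
    · exact ⟨1, A.one_mem, x, (QuotientGroup.eq_one_iff x).1 h1, (one_mul x).symm⟩
    · obtain ⟨a, ha, hax⟩ := hAd (QuotientGroup.mk x) (hsq _ (hPbm x hx)) h1
        (hcm _ (hPbm x hx) _ (hPbm d (hP hd)))
      refine ⟨a, ha, a⁻¹ * x, QuotientGroup.eq.1 hax, by group⟩
  have hPcomm : IsMulCommutative (P : Subgroup X) := by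
    refine ⟨⟨?_⟩⟩
    rintro ⟨x, hx⟩ ⟨y, hy⟩
    obtain ⟨a, ha, z, hz, rfl⟩ := hsplit x hx
    obtain ⟨b, hb, w, hw, rfl⟩ := hsplit y hy
    apply Subtype.ext
    show a * z * (b * w) = b * w * (a * z)
    have hzc := fun g => Subgroup.mem_center_iff.1 (hZ hz) g
    have hwc := fun g => Subgroup.mem_center_iff.1 (hZ hw) g
    calc a * z * (b * w) = a * (z * b) * w := by group
      _ = a * (b * z) * w := by rw [hzc b]
      _ = (a * b) * (z * w) := by group
      _ = (b * a) * (w * z) := by rw [hAcomm a ha b hb, hwc z]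
      _ = b * (a * w) * z := by group
      _ = b * (w * a) * z := by rw [hwc a]
      _ = b * w * (a * z) := by group
  have hZbot : Z = ⊥ := by
    rw [eq_bot_iff]
    intro z hz
    exact Subgroup.mem_bot.2 (eq_one_of_abelian_sylow 2 hperf P hPcomm (hZ hz) (hZP hz))
  refine ⟨hZbot, ?_⟩
  have hPA : (P : Subgroup X) = A := by
    apply le_antisymm _ hP
    intro x hx
    obtain ⟨a, ha, z, hz, rfl⟩ := hsplit x hx
    rw [hZbot, Subgroup.mem_bot] at hz
    rw [hz, mul_one]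
    exact ha
  rw [← hcard, ← hPA]
  have hinj : Function.Injective (QuotientGroup.mk' Z) := by
    rw [← MonoidHom.ker_eq_bot_iff, QuotientGroup.ker_mk', hZbot]
  exact Nat.card_congr ((P : Subgroup X).equivMapOfInjective (QuotientGroup.mk' Z) hinj).symm.toEquiv

end Cfsg.Agent.H803
end

-- part: H738/Ident
section
/-!
# Odd transpositions: identification of `⟨E_d, x⟩`, statement S5052
-/

set_option autoImplicit false

universe u

namespace Cfsg.Agent.H738

open Cfsg.Agent.H737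

variable {G : Type u} [Group G] [Finite G] {D : Set G} {d x : G} {R : Subgroup G}

/-- Central elements of `X` of 2-power order act trivially on `R / C`. -/
theorem RS.center_act (r : RS D d x R) {z : G} (hz : z ∈ XX D d x)
    (hzc : ∀ g ∈ XX D d x, Commute z g) (hz2 : ∃ k : ℕ, z ^ 2 ^ k = 1) :
    ∀ u ∈ R, u⁻¹ * (z * u * z⁻¹) ∈ RS.C D d x R := by
  classical
  let S : Subgroup G :=
    { carrier := {u | u ∈ R ∧ u⁻¹ * (z * u * z⁻¹) ∈ RS.C D d x R}
      one_mem' := ⟨one_mem _, by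
        have e : (1 : G)⁻¹ * (z * 1 * z⁻¹) = 1 := by group
        rw [e]; exact one_mem _⟩
      mul_mem' := by
        rintro u v ⟨hu, hu'⟩ ⟨hv, hv'⟩
        refine ⟨mul_mem hu hv, ?_⟩
        have e : (u * v)⁻¹ * (z * (u * v) * z⁻¹) =
            (v⁻¹ * (u⁻¹ * (z * u * z⁻¹)) * v⁻¹⁻¹) * (v⁻¹ * (z * v * z⁻¹)) := by group
        rw [e, RS.conj_eq_iff.2 (r.central hu' (inv_mem hv))]
        exact mul_mem hu' hv'
      inv_mem' := by
        rintro u ⟨hu, hu'⟩
        refine ⟨inv_mem hu, ?_⟩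
        have e : u⁻¹⁻¹ * (z * u⁻¹ * z⁻¹) = u * (u⁻¹ * (z * u * z⁻¹))⁻¹ * u⁻¹ := by group
        rw [e, RS.conj_eq_iff.2 (r.central (inv_mem hu') hu)]
        exact inv_mem hu' }
  have hS : ∀ u, u ∈ S ↔ u ∈ R ∧ u⁻¹ * (z * u * z⁻¹) ∈ RS.C D d x R := fun u => Iff.rfl
  have hSR : S ≤ R := fun u hu => hu.1
  by_cases hne : S = R
  · intro u hu
    have h1 : u ∈ S := by rw [hne]; exact hu
    exact h1.2
  exfalso
  have hSn : ∀ g ∈ XX D d x, ∀ u ∈ S, g * u * g⁻¹ ∈ S := by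
    intro g hg u hu
    rw [hS] at hu ⊢
    refine ⟨r.nrm g hg u hu.1, ?_⟩
    have hgz : z * g = g * z := (hzc g hg).eq
    have e : (g * u * g⁻¹)⁻¹ * (z * (g * u * g⁻¹) * z⁻¹) = g * (u⁻¹ * (z * u * z⁻¹)) * g⁻¹ := by
      calc (g * u * g⁻¹)⁻¹ * (z * (g * u * g⁻¹) * z⁻¹)
          = g * u⁻¹ * g⁻¹ * ((z * g) * u * (z * g)⁻¹) := by group
        _ = g * u⁻¹ * g⁻¹ * ((g * z) * u * (g * z)⁻¹) := by rw [hgz]
        _ = _ := by group
    rw [e, r.C_conj hu.2 hg]
    exact hu.2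
  have hSC : S ≤ RS.C D d x R := fun u hu =>
    RS.mem_C.2 ⟨hu.1, fun g hg => r.min S hSR hSn hne g hg u hu⟩
  have hCR : ∀ c ∈ RS.C D d x R, c ∈ R := fun c hc => (RS.mem_C.1 hc).1
  set C' : Subgroup ↥R := (RS.C D d x R).subgroupOf R with hC'
  have rel : ∀ u v : ↥R, (QuotientGroup.mk u : ↥R ⧸ C') = QuotientGroup.mk v ↔
      (u : G)⁻¹ * v ∈ RS.C D d x R := by
    intro u v
    rw [QuotientGroup.eq, hC', Subgroup.mem_subgroupOf]
    exact Iff.rfl
  have hzR : ∀ u : ↥R, z * (u : G) * z⁻¹ ∈ R := fun u => r.nrm z hz u u.2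
  have key : ∀ u v : ↥R, (QuotientGroup.mk (⟨z * u * z⁻¹, hzR u⟩ : ↥R) : ↥R ⧸ C') =
      QuotientGroup.mk (⟨z * v * z⁻¹, hzR v⟩ : ↥R) ↔
      (QuotientGroup.mk u : ↥R ⧸ C') = QuotientGroup.mk v := by
    intro u v
    rw [rel, rel]
    show (z * (u : G) * z⁻¹)⁻¹ * (z * v * z⁻¹) ∈ RS.C D d x R ↔ _
    have e : (z * (u : G) * z⁻¹)⁻¹ * (z * v * z⁻¹) = z * ((u : G)⁻¹ * v) * z⁻¹ := by group
    rw [e]
    constructor
    · intro h1
      have h2 := r.C_conj h1 (inv_mem hz)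
      have e2 : z⁻¹ * (z * ((u : G)⁻¹ * v) * z⁻¹) * z⁻¹⁻¹ = (u : G)⁻¹ * v := by group
      rw [e2] at h2
      rw [h2]; exact h1
    · intro h1
      rw [r.C_conj h1 hz]; exact h1
  let f0 : (↥R ⧸ C') → (↥R ⧸ C') := fun t =>
    QuotientGroup.mk (⟨z * t.out * z⁻¹, hzR t.out⟩ : ↥R)
  have hf0 : ∀ u : ↥R, f0 (QuotientGroup.mk u) = QuotientGroup.mk (⟨z * u * z⁻¹, hzR u⟩ : ↥R) := by
    intro u
    show QuotientGroup.mk (⟨z * (QuotientGroup.mk u : ↥R ⧸ C').out * z⁻¹, _⟩ : ↥R) = _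
    rw [key]
    exact QuotientGroup.out_eq' _
  have hinj : Function.Injective f0 := by
    intro t t' h1
    have h2 := (key _ _).1 h1
    rwa [QuotientGroup.out_eq', QuotientGroup.out_eq'] at h2
  let ψ : Equiv.Perm (↥R ⧸ C') := Equiv.ofBijective f0 (Finite.injective_iff_bijective.1 hinj)
  have hzn : ∀ (n : ℕ) (u : ↥R), z ^ n * (u : G) * (z ^ n)⁻¹ ∈ R := fun n u =>
    r.nrm _ (pow_mem hz n) u u.2
  have hψ : ∀ (n : ℕ) (u : ↥R), (ψ ^ n) (QuotientGroup.mk u) =
      QuotientGroup.mk (⟨z ^ n * u * (z ^ n)⁻¹, hzn n u⟩ : ↥R) := by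
    intro n
    induction n with
    | zero =>
      intro u
      rw [pow_zero]
      show QuotientGroup.mk u = _
      congr 1
      apply Subtype.ext
      show (u : G) = z ^ 0 * u * (z ^ 0)⁻¹
      simp
    | succ n ih =>
      intro u
      rw [pow_succ']
      show ψ ((ψ ^ n) (QuotientGroup.mk u)) = _
      rw [ih]
      show f0 _ = _
      rw [hf0]
      congr 1
      apply Subtype.ext
      show z * (z ^ n * (u : G) * (z ^ n)⁻¹) * z⁻¹ = z ^ (n + 1) * u * (z ^ (n + 1))⁻¹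
      rw [pow_succ']; group
  have he : ψ (QuotientGroup.mk 1) = QuotientGroup.mk 1 := by
    show f0 _ = _
    rw [hf0, rel]
    have e : ((⟨z * ((1 : ↥R) : G) * z⁻¹, hzR 1⟩ : ↥R) : G)⁻¹ * ((1 : ↥R) : G) = 1 := by
      show (z * (1 : G) * z⁻¹)⁻¹ * (1 : G) = 1
      group
    rw [e]; exact one_mem _
  have h2 : 2 ∣ Nat.card (↥R ⧸ C') := by
    have hfact : Fact (Nat.Prime 2) := ⟨Nat.prime_two⟩
    obtain ⟨n, hn⟩ := r.pg.index C'
    rw [Subgroup.index] at hn
    rw [hn]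
    rcases Nat.eq_zero_or_pos n with h1 | h1
    · exfalso
      rw [h1, pow_zero] at hn
      have h2 : C' = ⊤ := Subgroup.index_eq_one.1 hn
      apply r.ncen
      intro g hg u hu
      have h3 : (⟨u, hu⟩ : ↥R) ∈ C' := by rw [h2]; exact Subgroup.mem_top _
      have h4 : u ∈ RS.C D d x R := h3
      exact (RS.mem_C.1 h4).2 g hg
    · exact dvd_pow_self 2 h1.ne'
  obtain ⟨t, hte, m, ht⟩ := exists_odd_fixed h2 ψ he
  obtain ⟨u, rfl⟩ := QuotientGroup.mk_surjective t
  rw [hψ, rel] at ht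
  have ht' : (z ^ (2 * m + 1) * (u : G) * (z ^ (2 * m + 1))⁻¹)⁻¹ * u ∈ RS.C D d x R := ht
  set y : G := z ^ (2 * m + 1) with hy
  have hyX : y ∈ XX D d x := pow_mem hz _
  set c : G := (y * (u : G) * y⁻¹)⁻¹ * u with hc
  have hyu : y * (u : G) * y⁻¹ = u * c⁻¹ := by rw [hc]; group
  have hyn : ∀ j : ℕ, y ^ j * (u : G) * (y ^ j)⁻¹ = u * (c⁻¹) ^ j := by
    intro j
    induction j with
    | zero => simp
    | succ j ih =>
      have h3 : y * (c⁻¹) ^ j * y⁻¹ = (c⁻¹) ^ j := r.C_conj (pow_mem (inv_mem ht') j) hyX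
      calc y ^ (j + 1) * (u : G) * (y ^ (j + 1))⁻¹ = y * (y ^ j * (u : G) * (y ^ j)⁻¹) * y⁻¹ := by
            rw [pow_succ']; group
        _ = y * (u * (c⁻¹) ^ j) * y⁻¹ := by rw [ih]
        _ = (y * u * y⁻¹) * (y * (c⁻¹) ^ j * y⁻¹) := by group
        _ = u * (c⁻¹) ^ (j + 1) := by rw [hyu, h3, pow_succ']; group
  obtain ⟨k, hk⟩ := hz2
  have hcop : Nat.Coprime (2 * m + 1) (orderOf z) := by
    have h3 : orderOf z ∣ 2 ^ k := orderOf_dvd_of_pow_eq_one hk
    refine Nat.Coprime.coprime_dvd_right h3 ?_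
    refine Nat.Coprime.pow_right k ?_
    exact Odd.coprime_two_right ⟨m, rfl⟩
  obtain ⟨j, hj⟩ := exists_pow_eq_self_of_coprime hcop
  have h3 := hyn j
  rw [hy, hj] at h3
  have h4 : (u : G) ∈ S := by
    rw [hS]
    refine ⟨u.2, ?_⟩
    rw [h3]
    have e : (u : G)⁻¹ * (u * c⁻¹ ^ j) = c⁻¹ ^ j := by group
    rw [e]
    exact pow_mem (inv_mem ht') j
  apply hte
  rw [rel]
  have h5 := inv_mem (hSC h4)
  have e : (u : G)⁻¹ * ((1 : ↥R) : G) = (u : G)⁻¹ := mul_one _
  rw [e]; exact h5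

/-- The hypotheses of this section. -/
structure HX (D : Set G) (d x : G) : Prop where
  h : Hyp D
  hO : pCore 2 G = ⊥
  hd : d ∈ D
  hx : x ∈ D
  nc : ¬ Commute d x

namespace HX

variable (q : HX D d x)
include q

theorem dX : d ∈ XX D d x := RS.cls_X ⟨q.hd, Eqv.refl _ _⟩

theorem nc_cls {a : G} (ha : a ∈ Cls D d) : ¬ Commute a x := fun h1 =>
  q.nc ((ha.2 x q.hx).2 h1.symm).symm

theorem iff {a b : G} (haX : a ∈ XX D d x) (hbX : b ∈ XX D d x) (ha : a ∈ D) (hb : b ∈ D) :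
    Commute (red (XX D d x) ⟨a, haX⟩) (red (XX D d x) ⟨b, hbX⟩) ↔ Commute a b := by
  rw [(red_ker2 (XX D d x)).commute_iff (sub_ot q.h.ot _) ha hb]
  exact commute_coe.symm

theorem claim2 {c : G} (hc : c ∈ D) (hcX : c ∈ XX D d x) (hcd : Commute c d)
    (hcn : ∃ z ∈ D, z ∈ XX D d x ∧ ¬ Commute z c) : c ∈ Cls D d := by
  obtain ⟨a, ha, had, hadD⟩ := q.h.line d q.hd
  exact mem_cls_of_commute q.h.ot (fun y hy g => q.h.conj hy g) q.hd q.hx (fun h1 => q.nc h1.symm)
    ha had hadD (q.h.cls d q.hd c hc) hc hcX hcd hcn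

theorem not_mem {a : G} (ha : a ∈ Cls D d) :
    (⟨a, RS.cls_X ha⟩ : ↥(XX D d x)) ∉ pCore 2 ↥(XX D d x) := by
  intro h1
  apply q.nc_cls ha
  rw [← q.iff (RS.cls_X ha) RS.x_X ha.1 q.hx]
  have h2 : red (XX D d x) ⟨a, RS.cls_X ha⟩ = 1 := (QuotientGroup.eq_one_iff _).2 h1
  rw [h2]
  exact Commute.one_left _

theorem fibre {a a' : G} (ha : a ∈ Cls D d) (ha' : a' ∈ D) (haX' : a' ∈ XX D d x)
    (h1 : (⟨a, RS.cls_X ha⟩ : ↥(XX D d x)) * ⟨a', haX'⟩ ∈ pCore 2 ↥(XX D d x)) : a' = a := by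
  have hS := sub_ot q.h.ot (XX D d x)
  have h2 : Commute a a' := commute_coe.2 (hS.commute_of_mul_mem
    (show (⟨a, RS.cls_X ha⟩ : ↥(XX D d x)) ∈ Sub D _ from ha.1)
    (show (⟨a', haX'⟩ : ↥(XX D d x)) ∈ Sub D _ from ha') (Lib.Cores.pCore_isPGroup 2) h1)
  have h3 : Commute a' d := (ha.2 a' ha').2 h2.symm
  have h4 : red (XX D d x) ⟨a', haX'⟩ = red (XX D d x) ⟨a, RS.cls_X ha⟩ := by
    have h5 : red (XX D d x) (⟨a, RS.cls_X ha⟩ * ⟨a', haX'⟩) = 1 := (QuotientGroup.eq_one_iff _).2 h1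
    rw [map_mul] at h5
    have h6 : red (XX D d x) ⟨a, RS.cls_X ha⟩ * red (XX D d x) ⟨a, RS.cls_X ha⟩ = 1 := by
      rw [← map_mul]
      have : (⟨a, RS.cls_X ha⟩ : ↥(XX D d x)) * ⟨a, RS.cls_X ha⟩ = 1 :=
        Subtype.ext (q.h.ot.sq a ha.1)
      rw [this, map_one]
    exact mul_left_cancel (h5.trans h6.symm)
  have h5 : ¬ Commute x a' := by
    rw [← q.iff RS.x_X haX' q.hx ha', h4, q.iff RS.x_X (RS.cls_X ha) q.hx ha.1]
    exact fun h6 => q.nc_cls ha h6.symm
  have h6 := q.claim2 ha' haX' h3 ⟨x, q.hx, RS.x_X, h5⟩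
  by_contra hne
  have h7 := mul_cls q.h q.hO q.hd q.hx q.nc ha h6 (fun h => hne h.symm)
  exact q.not_mem h7 h1

theorem exists_g : ∃ g ∈ XX D d x, g * d * g⁻¹ = x := by
  obtain ⟨g, hg, h1⟩ := q.h.ot.exists_conj q.hd q.hx q.nc
  refine ⟨g, ?_, h1⟩
  refine (Subgroup.closure_le _).2 ?_ hg
  rintro s (rfl | hs)
  · exact q.dX
  · rw [Set.mem_singleton_iff.1 hs]; exact RS.x_X

/-- `O₂(X)` is central in `X`. -/
theorem central {z : ↥(XX D d x)} (hz : z ∈ pCore 2 ↥(XX D d x)) :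
    ∀ g ∈ XX D d x, Commute (z : G) g := by
  have hn2 : (pCore 2 ↥(XX D d x)).Normal := Lib.Cores.pCore_normal 2
  have key : ∀ z ∈ pCore 2 ↥(XX D d x), ∀ a ∈ Cls D d, Commute (z : G) a := by
    intro z hz a ha
    rw [← RS.conj_eq_iff]
    refine q.fibre ha (q.h.conj ha.1 z) (mul_mem (mul_mem z.2 (RS.cls_X ha)) (inv_mem z.2)) ?_
    have h1 := mul_mem (hn2.conj_mem z hz ⟨a, RS.cls_X ha⟩) (inv_mem hz)
    have e : (⟨a, RS.cls_X ha⟩ : ↥(XX D d x)) * z * (⟨a, RS.cls_X ha⟩ : ↥(XX D d x))⁻¹ * z⁻¹ =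
        (⟨a, RS.cls_X ha⟩ : ↥(XX D d x)) * ⟨z * a * (z : G)⁻¹,
          mul_mem (mul_mem z.2 (RS.cls_X ha)) (inv_mem z.2)⟩ := by
      apply Subtype.ext
      show a * (z : G) * a⁻¹ * (z : G)⁻¹ = a * (z * a * (z : G)⁻¹)
      rw [q.h.ot.inv ha.1]; group
    rwa [e] at h1
  intro g hg
  refine commute_closure (S := Cls D d ∪ {x}) ?_ hg
  rintro s (hs | hs)
  · exact key z hz s hs
  · rw [Set.mem_singleton_iff.1 hs]
    obtain ⟨g, hg, hgx⟩ := q.exists_g
    have h1 := key _ (hn2.conj_mem z hz ⟨g, hg⟩⁻¹) d ⟨q.hd, Eqv.refl _ _⟩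
    have h2 : g⁻¹ * z * g⁻¹⁻¹ * d = d * (g⁻¹ * z * g⁻¹⁻¹) := h1
    have h3 : (z : G) * (g * d * g⁻¹) = g * d * g⁻¹ * z := by
      calc (z : G) * (g * d * g⁻¹) = g * (g⁻¹ * z * g⁻¹⁻¹ * d) * g⁻¹ := by group
        _ = g * (d * (g⁻¹ * z * g⁻¹⁻¹)) * g⁻¹ := by rw [h2]
        _ = _ := by group
    rw [hgx] at h3
    exact h3

theorem gen : Gen (Im (red (XX D d x)) (Sub D (XX D d x))) (red (XX D d x) ⟨d, q.dX⟩)
    (red (XX D d x) ⟨x, RS.x_X⟩) :=
  gen_red q.h.ot q.hd q.hx (fun h1 => q.nc h1.symm) rfl q.dX RS.x_X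

theorem exists_ne : ∃ a ∈ Cls D d, a ≠ d := by
  obtain ⟨a, ha, had, hadD⟩ := q.h.line d q.hd
  obtain ⟨h1, -, h3⟩ := q.h.line_cls q.hd ha had hadD
  exact ⟨a, h1, h3⟩

theorem isL2Sz : IsL2Sz (↥(XX D d x) ⧸ pCore 2 ↥(XX D d x)) := by
  obtain ⟨a, ha, had⟩ := q.exists_ne
  refine rankOneThm _ _ _ _ (red (XX D d x) ⟨a, RS.cls_X ha⟩) q.gen ?_ ?_
  · have h1 : (⟨a, RS.cls_X ha⟩ : ↥(XX D d x)) ∈ Cls (Sub D (XX D d x)) ⟨d, q.dX⟩ := cls_sub_of ha
    exact (red_ker2 (XX D d x)).cls_map (sub_ot q.h.ot _) q.hd h1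
      (show (⟨x, RS.x_X⟩ : ↥(XX D d x)) ∈ Sub D _ from q.hx)
      (fun h1 => q.nc (commute_coe.2 h1).symm)
  · intro h1
    apply had
    symm
    refine q.fibre ha q.hd q.dX ?_
    rw [← QuotientGroup.eq_one_iff]
    show red (XX D d x) (⟨a, _⟩ * ⟨d, _⟩) = 1
    rw [map_mul, h1, ← map_mul]
    have : (⟨d, q.dX⟩ : ↥(XX D d x)) * ⟨d, q.dX⟩ = 1 := Subtype.ext (q.h.ot.sq d q.hd)
    rw [this, map_one]

theorem r1 : R1 (↥(XX D d x) ⧸ pCore 2 ↥(XX D d x)) := r1_of q.isL2Sz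

theorem sq_red {a : G} (ha : a ∈ D) (haX : a ∈ XX D d x) :
    red (XX D d x) ⟨a, haX⟩ * red (XX D d x) ⟨a, haX⟩ = 1 := by
  rw [← map_mul]
  have : (⟨a, haX⟩ : ↥(XX D d x)) * ⟨a, haX⟩ = 1 := Subtype.ext (q.h.ot.sq a ha)
  rw [this, map_one]

theorem red_ne {a : G} (ha : a ∈ Cls D d) : red (XX D d x) ⟨a, RS.cls_X ha⟩ ≠ 1 := fun h1 =>
  q.not_mem ha ((QuotientGroup.eq_one_iff _).1 h1)

/-- Involutions of `X / O₂(X)` commuting with `d` are images of members of `E_d`. -/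
theorem lift_inv {i : ↥(XX D d x) ⧸ pCore 2 ↥(XX D d x)} (hii : i * i = 1) (hi1 : i ≠ 1)
    (hid : Commute i (red (XX D d x) ⟨d, q.dX⟩)) :
    ∃ c, ∃ hc : c ∈ Cls D d, red (XX D d x) ⟨c, RS.cls_X hc⟩ = i := by
  have hdd : d ∈ Cls D d := ⟨q.hd, Eqv.refl _ _⟩
  obtain ⟨g, hg⟩ := q.r1.conj _ i (q.sq_red q.hd q.dX) (q.red_ne hdd) hii hi1
  obtain ⟨k, rfl⟩ := red_surj (XX D d x) g
  have hcX : (k : G) * d * (k : G)⁻¹ ∈ XX D d x := mul_mem (mul_mem k.2 q.dX) (inv_mem k.2)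
  have hred : red (XX D d x) ⟨(k : G) * d * (k : G)⁻¹, hcX⟩ = i := by
    rw [← hg, ← map_mul, ← map_inv, ← map_mul]
    rfl
  have hcD := q.h.conj q.hd (k : G)
  have hcd : Commute ((k : G) * d * (k : G)⁻¹) d := by
    rw [← q.iff hcX q.dX hcD q.hd, hred]
    exact hid
  have hzX : (k : G) * x * (k : G)⁻¹ ∈ XX D d x := mul_mem (mul_mem k.2 RS.x_X) (inv_mem k.2)
  have hcc := q.claim2 hcD hcX hcd ⟨_, q.h.conj q.hx (k : G), hzX, by
    intro h1
    apply q.nc
    have h2 : (k : G) * x * (k : G)⁻¹ * (k * d * (k : G)⁻¹) =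
      k * d * (k : G)⁻¹ * (k * x * (k : G)⁻¹) := h1
    show d * x = x * d
    calc d * x = (k : G)⁻¹ * (k * d * (k : G)⁻¹ * (k * x * (k : G)⁻¹)) * k := by group
      _ = (k : G)⁻¹ * (k * x * (k : G)⁻¹ * (k * d * (k : G)⁻¹)) * k := by rw [h2]
      _ = x * d := by group⟩
  exact ⟨_, hcc, hred⟩

/-- **`X / O₂(X)` is not a Suzuki group.** -/
theorem not_suzuki (hc : IsConnectedSet (CommAdj D) D)
    (hSz : Lie.IsoSuzuki (↥(XX D d x) ⧸ pCore 2 ↥(XX D d x))) : False := by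
  have hdd : d ∈ Cls D d := ⟨q.hd, Eqv.refl _ _⟩
  have hR1 := q.r1
  obtain ⟨P, hdP⟩ := exists_sylow (q.sq_red q.hd q.dX)
  obtain ⟨s', hs'P, hs1, hs2, hs3⟩ := H803.suzuki_four hSz P
  obtain ⟨s, rfl⟩ := red_surj (XX D d x) s'
  have haP : ∀ a (ha : a ∈ Cls D d), red (XX D d x) ⟨a, RS.cls_X ha⟩ ∈ P := by
    intro a ha
    obtain ⟨Q, hQa, hQd⟩ := exists_sylow_pair (q.sq_red ha.1 (RS.cls_X ha)) (q.sq_red q.hd q.dX)
      ((q.iff (RS.cls_X ha) q.dX ha.1 q.hd).2 (q.h.cls_comm q.hd a ha d hdd))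
    rw [hR1.ti P Q _ hdP hQd (q.red_ne hdd)]
    exact hQa
  have hsc : ∀ a ∈ Cls D d, Commute (s : G) a := by
    intro a ha
    have h1 := hs3 _ (haP a ha) (q.sq_red ha.1 (RS.cls_X ha))
    rw [← RS.conj_eq_iff]
    refine q.fibre ha (q.h.conj ha.1 s) (mul_mem (mul_mem s.2 (RS.cls_X ha)) (inv_mem s.2)) ?_
    rw [← QuotientGroup.eq_one_iff]
    show red (XX D d x) (⟨a, _⟩ * (s * ⟨a, RS.cls_X ha⟩ * s⁻¹)) = 1
    rw [map_mul, map_mul, map_mul, map_inv, h1.eq, mul_inv_cancel_right, q.sq_red ha.1 (RS.cls_X ha)]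
  obtain ⟨b, hb, hbs⟩ := q.lift_inv (i := red (XX D d x) s * red (XX D d x) s) hs2 hs1
    (by
      have h1 := hs3 _ hdP (q.sq_red q.hd q.dX)
      exact h1.mul_left h1)
  -- `s * s = b * z`
  have hz : (⟨b, RS.cls_X hb⟩ : ↥(XX D d x))⁻¹ * (s * s) ∈ pCore 2 ↥(XX D d x) := by
    rw [← QuotientGroup.eq_one_iff]
    show red (XX D d x) (⟨b, RS.cls_X hb⟩⁻¹ * (s * s)) = 1
    rw [map_mul, map_inv, map_mul, ← hbs, inv_mul_cancel]
  set z : ↥(XX D d x) := (⟨b, RS.cls_X hb⟩ : ↥(XX D d x))⁻¹ * (s * s) with hzdef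
  have hssz : (s : G) * s = b * z := by
    rw [hzdef]
    show (s : G) * s = b * (b⁻¹ * (s * s))
    group
  obtain ⟨R, r⟩ := exists_RS' q.h q.hO hc q.hd q.hx q.nc
  have hz2 : ∃ k : ℕ, (z : G) ^ 2 ^ k = 1 := by
    obtain ⟨k, hk⟩ := (Lib.Cores.pCore_isPGroup (G := ↥(XX D d x)) 2) ⟨z, hz⟩
    refine ⟨k, ?_⟩
    have h1 := congrArg Subtype.val hk
    exact congrArg Subtype.val h1
  have hact := r.center_act z.2 (q.central hz) hz2
  refine RS.SzHyp.false (s := (s : G)) (b := b) ⟨r, s.2, hsc, hb, ?_⟩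
  intro u hu
  rw [hssz]
  have e : (b * (z : G) * u * (b * (z : G))⁻¹)⁻¹ * (b * u * b⁻¹) =
      b * (u⁻¹ * (z * u * (z : G)⁻¹))⁻¹ * b⁻¹ := by
    simp only [mul_inv_rev, inv_inv, mul_assoc, inv_mul_cancel_left]
  rw [e, r.C_conj (inv_mem (hact u hu)) (RS.cls_X hb)]
  exact inv_mem (hact u hu)

end HX

end Cfsg.Agent.H738
end

-- part: H738/Ident2
section
/-!
# Odd transpositions: `⟨E_d, x⟩ = L₂(q)`, statement S5052
-/

set_option autoImplicit false

universe u

namespace Cfsg.Agent.H738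

open Cfsg.Agent.H737

variable {G : Type u} [Group G] [Finite G] {D : Set G} {d x : G} {R : Subgroup G}

namespace HX

variable (q : HX D d x)
include q

/-- `E_d ∪ {1}` as a subgroup of `X`. -/
def root : Subgroup ↥(XX D d x) where
  carrier := {g | g = 1 ∨ (g : G) ∈ Cls D d}
  one_mem' := Or.inl rfl
  mul_mem' := by
    rintro a b (rfl | ha) (rfl | hb)
    · left; simp
    · right; simpa only [_root_.one_mul] using hb
    · right; simpa using ha
    · by_cases hab : a = b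
      · left
        rw [hab]
        exact Subtype.ext (q.h.ot.sq b hb.1)
      · right
        exact mul_cls q.h q.hO q.hd q.hx q.nc ha hb (fun h => hab (Subtype.ext h))
  inv_mem' := by
    rintro a (rfl | ha)
    · left; simp
    · right
      show ((a : G))⁻¹ ∈ Cls D d
      rw [q.h.ot.inv ha.1]; exact ha

/-- `X` is perfect. -/
theorem perfect : commutator ↥(XX D d x) = ⊤ := by
  obtain ⟨g, hg, hgx⟩ := q.exists_g
  set N := commutator ↥(XX D d x) with hN
  have hcomm : ∀ a b : ↥(XX D d x), a * b * a⁻¹ * b⁻¹ ∈ N := fun a b =>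
    Subgroup.commutator_mem_commutator (Subgroup.mem_top a) (Subgroup.mem_top b)
  have hNn : N.Normal := by rw [hN]; infer_instance
  let f : ↥(XX D d x) →* ↥(XX D d x) ⧸ N := QuotientGroup.mk' N
  have hf : ∀ y, f y = 1 ↔ y ∈ N := fun y => QuotientGroup.eq_one_iff y
  have hfc : ∀ a b, f (a * b) = f (b * a) := by
    intro a b
    have h1 := (hf _).2 (hcomm a b)
    have e : a * b * a⁻¹ * b⁻¹ = (a * b) * (b * a)⁻¹ := by group
    rw [e, map_mul, map_inv, mul_inv_eq_one] at h1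
    exact h1
  have hdd : d ∈ Cls D d := ⟨q.hd, Eqv.refl _ _⟩
  -- `f a = f d` for `a` in the class
  have hcl : ∀ a (ha : a ∈ Cls D d), f ⟨a, RS.cls_X ha⟩ = f ⟨x, RS.x_X⟩ := by
    intro a ha
    have haX : a ∈ XX D d x := RS.cls_X ha
    obtain ⟨k, hk, hka⟩ := q.h.ot.exists_conj ha.1 q.hx (q.nc_cls ha)
    have hkX : k ∈ XX D d x := by
      refine (Subgroup.closure_le _).2 ?_ hk
      rintro s (rfl | hs)
      · exact haX
      · rw [Set.mem_singleton_iff.1 hs]; exact RS.x_X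
    have e : (⟨x, RS.x_X⟩ : ↥(XX D d x)) = ⟨k, hkX⟩ * ⟨a, haX⟩ * ⟨k, hkX⟩⁻¹ :=
      Subtype.ext hka.symm
    rw [e, hfc]
    congr 1
    group
  have hx1 : f ⟨x, RS.x_X⟩ = 1 := by
    obtain ⟨a, ha, had⟩ := q.exists_ne
    have hadC := mul_cls q.h q.hO q.hd q.hx q.nc ha hdd had
    have h1 := hcl _ hadC
    have e : (⟨a * d, RS.cls_X hadC⟩ : ↥(XX D d x)) = ⟨a, RS.cls_X ha⟩ * ⟨d, RS.cls_X hdd⟩ := rfl
    rw [e, map_mul, hcl a ha, hcl d hdd] at h1
    exact mul_eq_left.1 h1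
  rw [eq_top_iff]
  rintro y -
  have hy : y ∈ Subgroup.closure ({y : ↥(XX D d x) | (y : G) ∈ Cls D d ∪ {x}}) := by
    rw [closure_sub (S := Cls D d ∪ {x}) (Y := XX D d x)
      (T := {y : ↥(XX D d x) | (y : G) ∈ Cls D d ∪ {x}}) rfl (fun y hy => hy)]
    exact Subgroup.mem_top y
  refine (Subgroup.closure_le N).2 ?_ hy
  rintro ⟨z, hzX⟩ (hz | hz)
  · exact (hf _).1 ((hcl z hz).trans hx1)
  · have hz' : z = x := hz
    have e : (⟨z, hzX⟩ : ↥(XX D d x)) = ⟨x, RS.x_X⟩ := Subtype.ext hz'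
    rw [SetLike.mem_coe, e]
    exact (hf _).1 hx1

/-- The conclusion of S5052 for `X`. -/
theorem main (hc : IsConnectedSet (CommAdj D) D) :
    ∃ (F : Type) (_ : Field F) (_ : Fintype F), Fintype.card F = Nat.card q.root ∧
      Nonempty (↥(XX D d x) ≃* Matrix.ProjectiveSpecialLinearGroup (Fin 2) F) := by
  have hdd : d ∈ Cls D d := ⟨q.hd, Eqv.refl _ _⟩
  rcases q.isL2Sz with ⟨F, iF, iF', hF2, hF4, ⟨e⟩⟩ | hSz
  · have hA : ∀ a ∈ q.root, a * a = 1 := by
      rintro a (rfl | ha)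
      · simp
      · exact Subtype.ext (q.h.ot.sq _ ha.1)
    have hAZ : q.root ⊓ pCore 2 ↥(XX D d x) = ⊥ := by
      rw [eq_bot_iff]
      rintro a ⟨ha | ha, haZ⟩
      · exact Subgroup.mem_bot.2 ha
      · exact absurd haZ (q.not_mem ha)
    have hZ : pCore 2 ↥(XX D d x) ≤ Subgroup.center ↥(XX D d x) := by
      intro z hz
      rw [Subgroup.mem_center_iff]
      intro g
      exact Subtype.ext (q.central hz g g.2).symm
    obtain ⟨h1, h2⟩ := H803.l2_split (d := (⟨d, q.dX⟩ : ↥(XX D d x))) q.perfect hZ hF4 e q.root hA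
      hAZ (Or.inr hdd) (fun h => q.h.ot.ne d q.hd (congrArg Subtype.val h)) (by
        intro y hyy hy1 hyd
        obtain ⟨c, hc, hcy⟩ := q.lift_inv hyy hy1 hyd
        exact ⟨⟨c, RS.cls_X hc⟩, Or.inr hc, hcy⟩)
    exact ⟨F, iF, iF', h2, ⟨((QuotientGroup.quotientMulEquivOfEq h1).trans
      QuotientGroup.quotientBot).symm.trans e⟩⟩
  · exact (q.not_suzuki hc hSz).elim

theorem closure_coe : (Subgroup.closure (Cls D d) : Set G) = Cls D d ∪ {1} := by
  ext y
  constructor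
  · intro hy
    rw [SetLike.mem_coe] at hy
    induction hy using Subgroup.closure_induction with
    | mem y hy => exact Or.inl hy
    | one => exact Or.inr rfl
    | mul a b _ _ iha ihb =>
      rcases iha with ha | ha
      · rcases ihb with hb | hb
        · by_cases hab : a = b
          · right
            rw [hab]; exact q.h.ot.sq b hb.1
          · left
            exact mul_cls q.h q.hO q.hd q.hx q.nc ha hb hab
        · left
          rw [Set.mem_singleton_iff.1 hb, mul_one]; exact ha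
      · rw [Set.mem_singleton_iff.1 ha, one_mul]; exact ihb
    | inv a _ iha =>
      rcases iha with ha | ha
      · left
        rw [q.h.ot.inv ha.1]; exact ha
      · right
        rw [Set.mem_singleton_iff.1 ha]; simp
  · rintro (hy | hy)
    · exact Subgroup.subset_closure hy
    · rw [Set.mem_singleton_iff.1 hy]; exact one_mem _

theorem card_root : Nat.card q.root = Nat.card ↥(Subgroup.closure (Cls D d)) := by
  have hmem : ∀ y : G, y ∈ Subgroup.closure (Cls D d) ↔ y ∈ Cls D d ∨ y = 1 := by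
    intro y
    rw [← SetLike.mem_coe, q.closure_coe]
    exact Iff.rfl
  have e : q.root.map (XX D d x).subtype = Subgroup.closure (Cls D d) := by
    ext y
    rw [hmem]
    constructor
    · rintro ⟨z, hz | hz, rfl⟩
      · right; rw [hz]; rfl
      · left; exact hz
    · rintro (hy | hy)
      · exact ⟨⟨y, RS.cls_X hy⟩, Or.inr hy, rfl⟩
      · exact ⟨1, one_mem _, by rw [hy]; rfl⟩
  rw [← e]
  exact (Nat.card_congr (Subgroup.equivMapOfInjective _ _ (XX D d x).subtype_injective).toEquiv)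

end HX

/-- Not all members of `D` commute with `d`, if the centre is trivial. -/
theorem exists_noncomm (h : Hyp D) (hZ : Subgroup.center G = ⊥) (hd : d ∈ D) :
    ∃ x ∈ D, ¬ Commute d x := by
  by_contra hcon
  push Not at hcon
  have h1 : d ∈ Subgroup.center G := by
    rw [Subgroup.mem_center_iff]
    intro g
    have hg : g ∈ Subgroup.closure D := by rw [h.gen]; exact Subgroup.mem_top g
    exact (commute_closure hcon hg).symm
  rw [hZ, Subgroup.mem_bot] at h1
  exact h.ot.ne d hd h1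

theorem hyp_of (hD : IsOddTranspositionSet D) (hcl : IsRootInvolutionClass D)
    (hDD : (D ∩ commutingProducts D).Nonempty) : Hyp D where
  ot := ot_of hD
  gen := hD.1.generates
  cls := fun y hy z hz => by
    obtain ⟨g, hg⟩ := hcl.2.2 y hy z hz
    exact ⟨g, hg.symm⟩
  line := line_of hcl hDD

end Cfsg.Agent.H738
end

private theorem dce_c7792df8943d : _root_.True := by
  try have : _root_.True := by simp only [_root_.Cfsg.Agent.H738.RS.sg.eq_1]
  exact _root_.True.intro
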